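import Cfsg.Agent.Lib.A9Norm79.Cent

/-!
# The centraliser of an element of the largest class of `J` is a Sylow three-subgroup
-/

set_option autoImplicit false

namespace Cfsg.Agent.Lib.A9Norm79

open Model Cfsg.Agent.Lib.Transfer.PResidual
open scoped Pointwise

universe u

namespace Model

theorem S0_cube : ∀ u : W, inS u → ∃ k : Fin 3, el u ^ 3 = jel (1, 1, 1) ^ (k : ℕ) := by
  decide +kernel

theorem S0_comm_d : ∀ u : W, inS u →
    ∃ k : Fin 3, el u * jel (1, 2, 0) = jel (1, 1, 1) ^ (k : ℕ) * (jel (1, 2, 0) * el u) := by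
  decide +kernel

theorem S0_not_comm : ∀ k : Fin 3,
    jel (1, 0, 0) * el ((0, 0, 0), (0, 1)) ≠
      jel (1, 1, 1) ^ (k : ℕ) * (el ((0, 0, 0), (0, 1)) * jel (1, 0, 0)) := by decide +kernel

theorem a_not_mem : ∀ k m : Fin 3,
    jel (1, 0, 0) ≠ jel (1, 1, 1) ^ (k : ℕ) * jel (1, 2, 0) ^ (m : ℕ) := by decide +kernel

theorem d_not_mem : ∀ k : Fin 3, jel (1, 2, 0) ≠ jel (1, 1, 1) ^ (k : ℕ) := by decide +kernel

theorem cent_z_S : ∀ u : W, inS u → el u * jel (1, 1, 1) = jel (1, 1, 1) * el u := by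
  decide +kernel

end Model

theorem exists_pow_lt_three {H : Type*} [Group H] {x y : H} (hx : x ^ 3 = 1)
    (hy : y ∈ Subgroup.zpowers x) : ∃ k : Fin 3, x ^ (k : ℕ) = y := by
  obtain ⟨n, rfl⟩ := Subgroup.mem_zpowers_iff.mp hy
  refine ⟨⟨(n % 3).toNat, by omega⟩, ?_⟩
  rw [← zpow_natCast, Int.toNat_of_nonneg (Int.emod_nonneg n (by norm_num))]
  conv_rhs => rw [← Int.mul_ediv_add_emod n 3, zpow_add, zpow_mul]
  have h3 : x ^ (3 : ℤ) = 1 := by exact_mod_cast hx
  simp [h3]

namespace Cfg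

variable {G : Type u} [Group G] [Finite G] (C : Cfg G)

theorem lift_mul {i k : Fin 3 × Fin 3 × Fin 3} {u v : W} {m n : ℕ}
    (h : el u * el v = jel i ^ m * (el v * el u) ^ n) :
    C.E u * C.E v = C.j i ^ m * (C.E v * C.E u) ^ n := by
  rw [j, E, E, E, ← map_mul, ← map_mul, ← map_pow, ← map_pow, ← map_mul]
  exact congrArg C.φ (Subtype.ext (by rw [← el_base] at h; exact h))

theorem S_inf_centralizer_z :
    C.S ≤ Subgroup.centralizer ({C.j (1, 1, 1)} : Set G) := fun x hx => by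
  obtain ⟨u, hu, rfl⟩ := C.mem_S.mp hx
  rw [Subgroup.mem_centralizer_singleton_iff, j, E_comm_iff, el_base]
  exact cent_z_S u hu

theorem mem_S_of_normalizer {g : G} (hz : g * C.j (1, 1, 1) = C.j (1, 1, 1) * g)
    (hN : g ∈ Subgroup.normalizer (C.J : Set G)) : g ∈ C.S := by
  obtain ⟨w, rfl⟩ := C.exists_E hN
  exact C.mem_S.mpr ⟨w, cent_z w.2 ((C.comm_E_j_iff w _).mp hz), rfl⟩

/-- The centraliser is the Sylow subgroup. -/
theorem centralizer_z : Subgroup.centralizer ({C.j (1, 1, 1)} : Set G) = C.S := by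
  haveI : Fact (Nat.Prime 3) := ⟨Nat.prime_three⟩
  set z := C.j (1, 1, 1) with hz
  set X := Subgroup.centralizer ({z} : Set G) with hX
  have hSX : C.S ≤ X := C.S_inf_centralizer_z
  have hz3 : z ^ 3 = 1 := C.J_pow z (C.j_mem _)
  have hzS : z ∈ C.S := C.J_le_S (C.j_mem _)
  obtain ⟨P₀, hP₀⟩ := C.exists_sylow
  set P : Sylow 3 X := P₀.subtype (hP₀.le.trans hSX) with hPdef
  have hP : ∀ x : X, x ∈ (P : Subgroup X) ↔ (x : G) ∈ C.S := fun x => by
    rw [hPdef, Sylow.coe_subtype, Subgroup.mem_subgroupOf, hP₀]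
  set Z := Subgroup.zpowers (⟨z, hSX hzS⟩ : X) with hZ
  have hZc : ∀ t ∈ Z, ∀ g : X, g * t = t * g := by
    intro t ht g
    obtain ⟨n, rfl⟩ := Subgroup.mem_zpowers_iff.mp ht
    refine (Commute.zpow_right ?_ n).eq
    exact Subtype.ext (Subgroup.mem_centralizer_singleton_iff.mp g.2)
  haveI : Z.Normal := ⟨fun n hn g => by rw [hZc n hn g, mul_inv_cancel_right]; exact hn⟩
  have hZp : IsPGroup 3 Z := P.isPGroup'.to_le (Subgroup.zpowers_le.mpr ((hP _).mpr hzS))
  set f := QuotientGroup.mk' Z with hf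
  have hZmem : ∀ g : X, f g = 1 → ∃ k : Fin 3, (g : G) = z ^ (k : ℕ) := by
    intro g hg
    obtain ⟨k, hk⟩ := exists_pow_lt_three (x := (⟨z, hSX hzS⟩ : X)) (Subtype.ext hz3)
      ((QuotientGroup.eq_one_iff g).mp hg)
    exact ⟨k, by rw [← hk, Subgroup.coe_pow]⟩
  have hZone : ∀ (g : X) (k : Fin 3), (g : G) = z ^ (k : ℕ) → f g = 1 := fun g k hk =>
    (QuotientGroup.eq_one_iff g).mpr (by
      rw [show g = (⟨z, hSX hzS⟩ : X) ^ (k : ℕ) from Subtype.ext hk]
      exact pow_mem (Subgroup.mem_zpowers _) _)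
  set Q := P.mapSurjective (f := f) (QuotientGroup.mk'_surjective Z) with hQdef
  have hQ : ∀ y, y ∈ (Q : Subgroup (X ⧸ Z)) ↔ ∃ x : X, (x : G) ∈ C.S ∧ f x = y := by
    intro y
    show y ∈ (P : Subgroup X).map f ↔ _
    exact ⟨fun ⟨x, hx, he⟩ => ⟨x, (hP x).mp hx, he⟩, fun ⟨x, hx, he⟩ => ⟨x, (hP x).mpr hx, he⟩⟩
  set d : X := ⟨C.j (1, 2, 0), hSX (C.J_le_S (C.j_mem _))⟩ with hd
  set a : X := ⟨C.j (1, 0, 0), hSX (C.J_le_S (C.j_mem _))⟩ with ha
  have hdQ : f d ∈ (Q : Subgroup (X ⧸ Z)) := (hQ _).mpr ⟨d, C.J_le_S (C.j_mem _), rfl⟩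
  have haQ : f a ∈ (Q : Subgroup (X ⧸ Z)) := (hQ _).mpr ⟨a, C.J_le_S (C.j_mem _), rfl⟩
  -- exponent three
  have hexp : ∀ y ∈ (Q : Subgroup (X ⧸ Z)), y ^ 3 = 1 := by
    intro y hy
    obtain ⟨x, hx, rfl⟩ := (hQ y).mp hy
    obtain ⟨u, hu, hxu⟩ := C.mem_S.mp hx
    obtain ⟨k, hk⟩ := S0_cube u hu
    rw [← map_pow]
    refine hZone _ k ?_
    rw [Subgroup.coe_pow, ← hxu, hz, j, E, E, ← map_pow, ← map_pow]
    exact congrArg C.φ (Subtype.ext (by rw [← el_base] at hk; exact hk))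
  -- the image of `d` is central
  have hdc : ∀ y ∈ (Q : Subgroup (X ⧸ Z)), y * f d = f d * y := by
    intro y hy
    obtain ⟨x, hx, rfl⟩ := (hQ y).mp hy
    obtain ⟨u, hu, hxu⟩ := C.mem_S.mp hx
    obtain ⟨k, hk⟩ := S0_comm_d u hu
    have h1 : x * d = (⟨z, hSX hzS⟩ : X) ^ (k : ℕ) * (d * x) := Subtype.ext (by
      have := C.lift_mul (u := u) (v := ((1, 2, 0), (0, 0))) (k := (0, 0, 0)) (n := 1) (m := (k : ℕ))
        (by rw [pow_one, el_base]; exact hk)
      rw [hxu, pow_one] at this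
      rw [show C.E ((1, 2, 0), (0, 0)) = C.j (1, 2, 0) from rfl] at this
      simpa [hd, hz] using this)
    rw [← map_mul, ← map_mul, h1, map_mul, map_pow,
      show f ⟨z, hSX hzS⟩ = 1 from (QuotientGroup.eq_one_iff _).mpr (Subgroup.mem_zpowers _),
      one_pow, one_mul]
  -- order of the image
  have hcardQ : Nat.card (Q : Subgroup (X ⧸ Z)) = 27 := by
    have h1 : Nat.card Z = 3 := by
      rw [hZ, Nat.card_zpowers]
      refine orderOf_eq_prime (Subtype.ext hz3) fun h => ?_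
      have h' : z = 1 := congrArg Subtype.val h
      have := C.j_injective (a₁ := (1, 1, 1)) (a₂ := (0, 0, 0)) (h'.trans (by
        rw [j, E, eq_comm]
        exact (map_eq_one_iff _ C.inj).mpr (Subtype.ext (by simpa [el_base] using jel_gen.2.2.2))))
      exact absurd this (by decide)
    have h2 : Nat.card (P : Subgroup X) = 81 := by
      rw [hPdef, Sylow.coe_subtype, Nat.card_congr (Subgroup.subgroupOfEquivOfLe (hP₀.le.trans hSX)).toEquiv,
        show Nat.card (P₀ : Subgroup G) = 81 by rw [hP₀, C.card_S]]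
    let π : (P : Subgroup X) →* (Q : Subgroup (X ⧸ Z)) :=
      (f.comp (P : Subgroup X).subtype).codRestrict _ fun x => (hQ _).mpr ⟨x, (hP _).mp x.2, rfl⟩
    have hsurj : Function.Surjective π := fun y => by
      obtain ⟨x, hx, he⟩ := (hQ y).mp y.2
      exact ⟨⟨x, (hP x).mpr hx⟩, Subtype.ext he⟩
    have hker : π.ker = Z.subgroupOf (P : Subgroup X) := by
      ext x
      rw [MonoidHom.mem_ker, Subgroup.mem_subgroupOf, Subtype.ext_iff]
      exact QuotientGroup.eq_one_iff (x : X)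
    have h3 := π.ker.card_mul_index
    rw [Subgroup.index_ker, MonoidHom.range_eq_top.mpr hsurj, Subgroup.card_top, hker,
      Nat.card_congr (Subgroup.subgroupOfEquivOfLe
        (Subgroup.zpowers_le.mpr ((hP _).mpr hzS))).toEquiv, h1, h2] at h3
    omega
  have hab : ∀ B : Subgroup (X ⧸ Z), B ≤ Q → Cfsg.IsElementaryAbelian 3 B → Nat.card B ≤ 9 := by
    intro B hB hel
    have hdvd : Nat.card B ∣ 3 ^ 3 := by
      have := Subgroup.card_dvd_of_le hB
      rwa [hcardQ] at this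
    obtain ⟨n, hn, hBn⟩ := (Nat.dvd_prime_pow Nat.prime_three).mp hdvd
    rw [hBn]
    by_contra hlt
    have hn3 : n = 3 := by interval_cases n <;> simp_all
    have hBQ : B = Q := Subgroup.eq_of_le_of_card_ge hB (by rw [hcardQ, hBn, hn3]; norm_num)
    have hrS : C.E ((0, 0, 0), (0, 1)) ∈ C.S := C.mem_S.mpr ⟨_, ⟨rfl, by norm_num⟩, rfl⟩
    set r : X := ⟨C.E ((0, 0, 0), (0, 1)), hSX hrS⟩ with hr
    have hrQ : f r ∈ B := hBQ ▸ (hQ _).mpr ⟨r, hrS, rfl⟩
    have h1 : f a * f r = f r * f a :=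
      congrArg Subtype.val (hel.1.1.comm ⟨f a, hBQ ▸ haQ⟩ ⟨f r, hrQ⟩)
    rw [← map_mul, ← map_mul] at h1
    obtain ⟨k, hk⟩ := hZmem (a * r * (r * a)⁻¹) (by rw [map_mul, map_inv, h1, mul_inv_cancel])
    refine S0_not_comm k ?_
    simp only [ha, hr, hz, Subgroup.coe_mul, Subgroup.coe_inv, j, E, ← map_mul, ← map_inv,
      ← map_pow] at hk
    have h' := congrArg Subtype.val (C.inj hk)
    simp only [Subgroup.coe_mul, Subgroup.coe_inv, Subgroup.coe_pow, el_base] at h'
    exact mul_inv_eq_iff_eq_mul.mp h'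
  have hda : f a ∉ Subgroup.zpowers (f d) := by
    intro h
    obtain ⟨m, hm⟩ := exists_pow_lt_three (hexp _ hdQ) h
    obtain ⟨k, hk⟩ := hZmem (a * (d ^ (m : ℕ))⁻¹)
      (by rw [map_mul, map_inv, map_pow, hm, mul_inv_cancel])
    refine a_not_mem k m ?_
    simp only [ha, hd, hz, Subgroup.coe_mul, Subgroup.coe_inv, Subgroup.coe_pow, j, E, ← map_mul,
      ← map_inv, ← map_pow] at hk
    have h' := congrArg Subtype.val (C.inj hk)
    simp only [Subgroup.coe_mul, Subgroup.coe_inv, Subgroup.coe_pow, el_base] at h'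
    exact mul_inv_eq_iff_eq_mul.mp h'
  have hd1 : f d ≠ 1 := by
    intro h
    obtain ⟨k, hk⟩ := hZmem d h
    refine d_not_mem k ?_
    simp only [hd, hz, j, E, ← map_pow] at hk
    have h' := congrArg Subtype.val (C.inj hk)
    simpa only [Subgroup.coe_pow, el_base] using h'
  -- the Thompson subgroup is everything
  have hJQ : Cfsg.thompsonSubgroupOf 3 (Q : Subgroup (X ⧸ Z)) = Q := by
    refine le_antisymm (PGroups.thompsonSubgroupOf_le _ _) fun y hy => ?_
    have hmain : ∀ y ∈ (Q : Subgroup (X ⧸ Z)), y ∉ Subgroup.zpowers (f d) →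
        Subgroup.zpowers y ⊔ Subgroup.zpowers (f d) ≤
          Cfsg.thompsonSubgroupOf 3 (Q : Subgroup (X ⧸ Z)) := by
      intro y hy hyd
      have hle : Subgroup.zpowers y ⊔ Subgroup.zpowers (f d) ≤ (Q : Subgroup (X ⧸ Z)) :=
        sup_le (Subgroup.zpowers_le.mpr hy) (Subgroup.zpowers_le.mpr hdQ)
      refine PGroups.le_thompsonSubgroupOf ⟨hle, ?_, ?_⟩
      · refine PGroups.elemAb_sup (PGroups.elemAb_zpowers (hexp _ hy))
          (PGroups.elemAb_zpowers (hexp _ hdQ)) ?_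
        intro s hs t ht
        obtain ⟨m, rfl⟩ := Subgroup.mem_zpowers_iff.mp hs
        obtain ⟨n, rfl⟩ := Subgroup.mem_zpowers_iff.mp ht
        exact (Commute.zpow_zpow (hdc y hy) m n).eq
      · intro B hB hel
        refine (hab B hB hel).trans ?_
        have hdv := Subgroup.card_dvd_of_le hle
        rw [hcardQ] at hdv
        obtain ⟨n, -, hn⟩ := (Nat.dvd_prime_pow Nat.prime_three).mp
          (show _ ∣ 3 ^ 3 from hdv)
        have hlt : Nat.card (Subgroup.zpowers (f d)) <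
            Nat.card (Subgroup.zpowers y ⊔ Subgroup.zpowers (f d) : Subgroup (X ⧸ Z)) := by
          refine lt_of_le_of_ne (Subgroup.card_le_of_le le_sup_right) fun e => hyd ?_
          rw [Subgroup.eq_of_le_of_card_ge le_sup_right e.ge]
          exact Subgroup.mem_sup_left (Subgroup.mem_zpowers y)
        rw [Nat.card_zpowers, orderOf_eq_prime (hexp _ hdQ) hd1, hn] at hlt
        rw [hn]
        have : 2 ≤ n := by
          by_contra h2
          interval_cases n <;> simp_all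
        exact le_trans (by norm_num) (Nat.pow_le_pow_right (show 0 < 3 by norm_num) this)
    by_cases hyd : y ∈ Subgroup.zpowers (f d)
    · exact hmain _ haQ hda ((le_sup_right : Subgroup.zpowers (f d) ≤ _) hyd)
    · exact hmain y hy hyd (Subgroup.mem_sup_left (Subgroup.mem_zpowers y))
  have hpre : ∀ t : X, f t ∈ (Q : Subgroup (X ⧸ Z)) → (t : G) ∈ C.S := by
    intro t ht
    obtain ⟨s, hs, hst⟩ := (hQ _).mp ht
    obtain ⟨k, hk⟩ := hZmem (s⁻¹ * t) (by rw [map_mul, map_inv, hst, inv_mul_cancel])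
    rw [show (t : G) = (s : G) * (((s⁻¹ * t : X)) : G) by
      rw [Subgroup.coe_mul, Subgroup.coe_inv, mul_inv_cancel_left], hk]
    exact mul_mem hs (pow_mem hzS _)
  have hyp : Frobenius.PComplement.ThompsonHyp 3 (Q : Subgroup (X ⧸ Z)) := by
    constructor
    · refine hasNormalPComplement_of_isPGroup (IsPGroup.to_le Q.isPGroup' ?_)
      rw [hJQ]
      intro y hy
      obtain ⟨g, rfl⟩ := QuotientGroup.mk'_surjective Z y
      refine (hQ _).mpr ⟨g, C.mem_S_of_normalizer (Subgroup.mem_centralizer_singleton_iff.mp g.2)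
        (C.normalizer_S_le (Subgroup.mem_normalizer_iff.mpr fun x => ?_)), rfl⟩
      have hn := Subgroup.mem_normalizer_iff.mp hy
      constructor
      · intro hx
        refine hpre (g * ⟨x, hSX hx⟩ * g⁻¹) ?_
        rw [map_mul, map_mul, map_inv]
        exact (hn _).mp ((hQ _).mpr ⟨_, hx, rfl⟩)
      · intro hx
        have hxX : x ∈ X := by
          have := mul_mem (mul_mem (inv_mem g.2) (hSX hx)) g.2
          simpa [mul_assoc] using this
        refine hpre ⟨x, hxX⟩ ((hn _).mpr ?_)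
        rw [← map_inv, ← map_mul, ← map_mul]
        exact (hQ _).mpr ⟨_, hx, rfl⟩
    · refine hasNormalPComplement_of_isPGroup (IsPGroup.to_le Q.isPGroup' ?_)
      intro y hy
      have hcen := Subgroup.mem_centralizer_iff.mp hy (f d)
        ⟨hdQ, Subgroup.mem_centralizer_iff.mpr fun t ht => hdc t ht⟩
      obtain ⟨g, rfl⟩ := QuotientGroup.mk'_surjective Z y
      refine (hQ _).mpr ⟨g, C.mem_S_of_normalizer (Subgroup.mem_centralizer_singleton_iff.mp g.2)
        ?_, rfl⟩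
      rw [← map_mul, ← map_mul] at hcen
      obtain ⟨k, hk⟩ := hZmem (g * d * g⁻¹ * d⁻¹)
        (by rw [map_mul, map_mul, map_inv, map_inv, ← hcen, map_mul, mul_inv_cancel_right,
          mul_inv_cancel])
      replace hk : (g : G) * C.j (1, 2, 0) * (g : G)⁻¹ * (C.j (1, 2, 0))⁻¹ = z ^ (k : ℕ) := hk
      have hgd : (g : G) * C.j (1, 2, 0) * (g : G)⁻¹ = z ^ (k : ℕ) * C.j (1, 2, 0) :=
        mul_inv_eq_iff_eq_mul.mp hk
      rw [Subgroup.mem_normalizer_iff_map_conj_eq]
      refine Subgroup.eq_of_le_of_card_ge ?_ ?_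
      · rintro - ⟨x, hx, rfl⟩
        show (g : G) * x * (g : G)⁻¹ ∈ C.J
        set v := (g : G) * x * (g : G)⁻¹ with hv
        have hgz : (g : G) * z = z * (g : G) := Subgroup.mem_centralizer_singleton_iff.mp g.2
        have hvz : v * z = z * v := by
          have h1 : z = (g : G) * z * (g : G)⁻¹ := by rw [hgz, mul_inv_cancel_right]
          rw [h1, hv]
          calc (g : G) * x * (g : G)⁻¹ * ((g : G) * z * (g : G)⁻¹)
              = (g : G) * (x * z) * (g : G)⁻¹ := by group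
            _ = (g : G) * (z * x) * (g : G)⁻¹ := by rw [C.J_comm hx (C.j_mem _)]
            _ = _ := by group
        have hvd : v * C.j (1, 2, 0) = C.j (1, 2, 0) * v := by
          have h2 : v * ((g : G) * C.j (1, 2, 0) * (g : G)⁻¹) =
              (g : G) * C.j (1, 2, 0) * (g : G)⁻¹ * v := by
            rw [hv]
            calc (g : G) * x * (g : G)⁻¹ * ((g : G) * C.j (1, 2, 0) * (g : G)⁻¹)
                = (g : G) * (x * C.j (1, 2, 0)) * (g : G)⁻¹ := by group
              _ = (g : G) * (C.j (1, 2, 0) * x) * (g : G)⁻¹ := by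
                rw [C.J_comm hx (C.j_mem _)]
              _ = _ := by group
          have hzp : v * z ^ (k : ℕ) = z ^ (k : ℕ) * v := (Commute.pow_right hvz _).eq
          refine mul_left_cancel (a := z ^ (k : ℕ)) ?_
          rw [hgd] at h2
          rw [← mul_assoc, ← hzp, mul_assoc, h2, mul_assoc]
        obtain ⟨w, hw⟩ := C.exists_E
          (C.centralizer_typ_two_le (i := (1, 2, 0)) (by decide) (Subgroup.mem_centralizer_singleton_iff.mpr hvd))
        rw [← hw] at hvz hvd ⊢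
        exact (C.E_mem_J_iff w).mpr
          (cent_zd w.2 ((C.comm_E_j_iff w _).mp hvz) ((C.comm_E_j_iff w _).mp hvd))
      · rw [Subgroup.card_map_of_injective (MulEquiv.injective _)]
  obtain ⟨P', N, hNn, hN⟩ := Frobenius.PComplement.hasNormalPComplement_of_thompson
    (p := 3) (by norm_num) Q hyp
  haveI := hNn
  have hNc : (Nat.card N).Coprime 3 := by
    rw [← hN.index_eq_card]
    exact ((Nat.Prime.coprime_iff_not_dvd Nat.prime_three).mpr P'.not_dvd_index).symm
  have hNb := quotient_core_eq_bot Z hZp hZc (C.core_j _ (by decide)) N hNc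
  subst hNb
  have htop : (P' : Subgroup (X ⧸ Z)) = ⊤ := Subgroup.isComplement'_bot_left.mp hN
  refine le_antisymm (fun x hx => ?_) hSX
  refine hpre ⟨x, hx⟩ ?_
  have hQtop : (Q : Subgroup (X ⧸ Z)) = ⊤ := by
    refine Subgroup.eq_top_of_card_eq _ ?_
    rw [Nat.card_congr (Sylow.equiv Q P').toEquiv, htop, Subgroup.card_top]
  rw [hQtop]
  exact Subgroup.mem_top _

theorem card_centralizer_z :
    Nat.card (Subgroup.centralizer ({C.j (1, 1, 1)} : Set G)) = 81 := by
  rw [C.centralizer_z, C.card_S]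

end Cfg

end Cfsg.Agent.Lib.A9Norm79
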