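import Cfsg.Agent.Lib.A9Norm79.Model
import Cfsg.Prelude.Def_Solvable
import Mathlib.GroupTheory.Sylow
import Mathlib.GroupTheory.Nilpotent

/-!
# Groups containing the normaliser of three disjoint three-cycles as an `N(J)`

Sylow three-subgroup, weak closure of `J`, fusion in `J`.
-/

set_option autoImplicit false

namespace Cfsg.Agent.Lib.A9Norm79

open Model
open scoped Pointwise

universe u

/-- Indices of the model. -/
abbrev W := (Fin 3 × Fin 3 × Fin 3) × (Fin 4 × Fin 6)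

/-- A group with the normaliser of `J0` embedded as `N(J)` and trivial cores of centralisers. -/
structure Cfg (G : Type u) [Group G] where
  φ : H0 →* G
  inj : Function.Injective φ
  J : Subgroup G
  mapJ : ∀ h : H0, φ h ∈ J ↔ (h : P9) ∈ J0
  range : φ.range = Subgroup.normalizer (J : Set G)
  cores : ∀ x : H0, (x : P9) ^ 3 = 1 → x ≠ 1 →
    Cfsg.pPrimeCore 3 (Subgroup.centralizer ({φ x} : Set G)) = ⊥

namespace Model

theorem el_base (i : Fin 3 × Fin 3 × Fin 3) : el (i, (0, 0)) = jel i := by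
  simp [el, mel, diag, blk]

theorem el_mem_J0_iff : ∀ w : W, el w ∈ J0 ↔ w.2 = (0, 0) := by
  intro w
  rw [mem_J0]
  constructor
  · rintro ⟨i, hi⟩
    have h := el_injective ((el_base i).trans hi)
    rw [← h]
  · intro h
    exact ⟨w.1, (el_base w.1).symm.trans (congrArg el (Prod.ext rfl h.symm))⟩

theorem rot_eq : el ((0, 0, 0), (0, 1)) = rot := by decide +kernel

theorem rot_mem : rot ∈ H0 := rot_eq ▸ el_mem _

/-- A Sylow three-subgroup of the model. -/
def S0 : Subgroup P9 := J0 ⊔ Subgroup.zpowers rot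

/-- Indices of `S0`. -/
def inS (w : W) : Prop := w.2.1 = 0 ∧ (w.2.2 : ℕ) < 3

instance : DecidablePred inS := fun w => inferInstanceAs (Decidable (_ ∧ _))

theorem rot_pow : ∀ k : Fin 3, mel (0, ⟨k, by omega⟩) = rot ^ (k : ℕ) := by decide +kernel

theorem rot_cube : rot ^ 3 = 1 := by decide +kernel

theorem S0_le : S0 ≤ H0 := by
  refine sup_le (fun x hx => ?_) (Subgroup.zpowers_le.mpr rot_mem)
  obtain ⟨i, rfl⟩ := mem_J0.mp hx
  exact el_base i ▸ el_mem _

theorem mem_S0 {σ : P9} : σ ∈ S0 ↔ ∃ w, inS w ∧ el w = σ := by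
  constructor
  · intro h
    have hn : Subgroup.zpowers rot ≤ Subgroup.normalizer (J0 : Set P9) :=
      Subgroup.zpowers_le.mpr (Subgroup.mem_inf.mp rot_mem).2
    have hc : (σ : P9) ∈ ((J0 : Set P9) * (Subgroup.zpowers rot : Set P9)) := by
      rw [← Subgroup.coe_mul_of_right_le_normalizer_left J0 _ hn]; exact h
    obtain ⟨x, hx, y, hy, rfl⟩ := hc
    obtain ⟨i, rfl⟩ := mem_J0.mp hx
    obtain ⟨n, rfl⟩ := Subgroup.mem_zpowers_iff.mp hy
    have h3 : orderOf rot ∣ 3 := orderOf_dvd_of_pow_eq_one rot_cube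
    have hk : rot ^ n = rot ^ (n % 3).toNat := by
      rw [← zpow_natCast, Int.toNat_of_nonneg (Int.emod_nonneg n (by norm_num))]
      conv_lhs => rw [← Int.mul_ediv_add_emod n 3, zpow_add, zpow_mul]
      have : rot ^ (3 : ℤ) = 1 := by exact_mod_cast rot_cube
      rw [this, one_zpow, one_mul]
    have hlt : (n % 3).toNat < 3 := by omega
    refine ⟨(i, (0, ⟨(n % 3).toNat, by omega⟩)), ⟨rfl, hlt⟩, ?_⟩
    show jel i * mel (0, _) = jel i * rot ^ n
    rw [hk, rot_pow ⟨(n % 3).toNat, hlt⟩]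
  · rintro ⟨⟨i, d, b⟩, ⟨hd, hb⟩, rfl⟩
    change d = 0 at hd
    subst hd
    refine mul_mem (Subgroup.mem_sup_left (jel_mem i)) (Subgroup.mem_sup_right ?_)
    have := rot_pow ⟨(b : ℕ), hb⟩
    rw [show mel (0, b) = rot ^ (b : ℕ) from this]
    exact Subgroup.npow_mem_zpowers _ _

theorem card_S0 : Nat.card S0 = 81 := by
  have h : Function.Bijective (fun w : {w : W // inS w} =>
      (⟨el w.1, mem_S0.mpr ⟨w.1, w.2, rfl⟩⟩ : S0)) := by
    refine ⟨fun a b e => Subtype.ext (el_injective (congrArg Subtype.val e)), fun x => ?_⟩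
    obtain ⟨w, hw, he⟩ := mem_S0.mp x.2
    exact ⟨⟨w, hw⟩, Subtype.ext he⟩
  rw [← Nat.card_congr (Equiv.ofBijective _ h), Nat.card_eq_fintype_card]
  decide +kernel

/-- Elements of order three outside `J0` fail to commute with a conjugate. -/
theorem J0_char : ∀ w : W, w.2 ≠ (0, 0) → el w ^ 3 = 1 →
    ∃ g : Fin 3, ¬ (![ca, cb, cc] g * el w * (![ca, cb, cc] g)⁻¹) * el w =
      el w * (![ca, cb, cc] g * el w * (![ca, cb, cc] g)⁻¹) := by decide +kernel

theorem S0_cent : ∀ u : W, inS u → u.2 ≠ (0, 0) →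
    (Finset.univ.filter fun v : W => inS v ∧ el u * el v = el v * el u).card ≤ 9 := by
  decide +kernel

/-- Number of nonzero exponents. -/
def typ (i : Fin 3 × Fin 3 × Fin 3) : ℕ :=
  (if i.1 = 0 then 0 else 1) + (if i.2.1 = 0 then 0 else 1) + (if i.2.2 = 0 then 0 else 1)

theorem typ_conj : ∀ i j, ∀ k : Fin 4 × Fin 6, mel k * jel i = jel j * mel k → typ i = typ j := by
  decide +kernel

theorem conj_of_typ : ∀ i j, typ i = typ j →
    ∃ k : Fin 4 × Fin 6, mel k * jel i = jel j * mel k := by decide +kernel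

end Model

namespace Cfg

variable {G : Type u} [Group G] (C : Cfg G)

/-- The element with the given index. -/
def E (w : W) : G := C.φ ⟨el w, el_mem w⟩

/-- The element of `J` with the given exponents. -/
def j (i : Fin 3 × Fin 3 × Fin 3) : G := C.E (i, (0, 0))

theorem E_injective : Function.Injective C.E := fun _ _ h =>
  el_injective (congrArg Subtype.val (C.inj h))

theorem E_mem (w : W) : C.E w ∈ Subgroup.normalizer (C.J : Set G) :=
  C.range ▸ ⟨_, rfl⟩

theorem exists_E {x : G} (hx : x ∈ Subgroup.normalizer (C.J : Set G)) : ∃ w, C.E w = x := by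
  rw [← C.range] at hx
  obtain ⟨h, rfl⟩ := hx
  obtain ⟨w, hw⟩ := exists_el h.2
  exact ⟨w, congrArg C.φ (Subtype.ext hw)⟩

theorem E_mul {u v w : W} (h : el u * el v = el w) : C.E u * C.E v = C.E w := by
  rw [E, E, ← map_mul]; exact congrArg C.φ (Subtype.ext h)

theorem E_comm_iff (u v : W) : C.E u * C.E v = C.E v * C.E u ↔ el u * el v = el v * el u := by
  rw [E, E, ← map_mul, ← map_mul, C.inj.eq_iff, Subtype.ext_iff]
  rfl

theorem E_pow_eq_one_iff (w : W) (n : ℕ) : C.E w ^ n = 1 ↔ el w ^ n = 1 := by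
  rw [E, ← map_pow, map_eq_one_iff _ C.inj, Subtype.ext_iff]
  rfl

theorem E_mem_J_iff (w : W) : C.E w ∈ C.J ↔ w.2 = (0, 0) :=
  (C.mapJ _).trans (el_mem_J0_iff w)

theorem j_mem (i : Fin 3 × Fin 3 × Fin 3) : C.j i ∈ C.J := (C.E_mem_J_iff _).mpr rfl

theorem exists_j {x : G} (hx : x ∈ C.J) : ∃ i, C.j i = x := by
  obtain ⟨w, rfl⟩ := C.exists_E (Subgroup.le_normalizer hx)
  exact ⟨w.1, congrArg C.E (Prod.ext rfl ((C.E_mem_J_iff w).mp hx).symm)⟩

theorem j_injective : Function.Injective C.j := fun _ _ h => (Prod.ext_iff.mp (C.E_injective h)).1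

theorem card_J : Nat.card C.J = 27 := by
  have h : Function.Bijective (fun i => (⟨C.j i, C.j_mem i⟩ : C.J)) := by
    refine ⟨fun a b e => C.j_injective (congrArg Subtype.val e), fun x => ?_⟩
    obtain ⟨i, hi⟩ := C.exists_j x.2
    exact ⟨i, Subtype.ext hi⟩
  rw [← Nat.card_congr (Equiv.ofBijective _ h)]
  simp [Nat.card_eq_fintype_card]

theorem j_comm (i k : Fin 3 × Fin 3 × Fin 3) : C.j i * C.j k = C.j k * C.j i := by
  rw [j, j, E_comm_iff, el_base, el_base]
  exact (by decide +kernel : ∀ i k, jel i * jel k = jel k * jel i) i k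

theorem J_comm {x y : G} (hx : x ∈ C.J) (hy : y ∈ C.J) : x * y = y * x := by
  obtain ⟨i, rfl⟩ := C.exists_j hx
  obtain ⟨k, rfl⟩ := C.exists_j hy
  exact C.j_comm i k

theorem centralizer_J : Subgroup.centralizer (C.J : Set G) = C.J := by
  refine le_antisymm (fun x hx => ?_) fun x hx => ?_
  · obtain ⟨w, rfl⟩ := C.exists_E (Subgroup.centralizer_le_normalizer (C.J : Set G) hx)
    rw [Subgroup.mem_centralizer_iff] at hx
    have hc : ∀ i, el w * jel i = jel i * el w := fun i => by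
      rw [← el_base i, ← C.E_comm_iff]
      exact (hx _ (C.j_mem i)).symm
    obtain ⟨i, hi⟩ := centralizer_jel
      (jel_gen.1 ▸ hc (1, 0, 0)) (jel_gen.2.1 ▸ hc (0, 1, 0)) (jel_gen.2.2.1 ▸ hc (0, 0, 1))
    exact (C.E_mem_J_iff w).mpr ((el_mem_J0_iff w).mp (hi ▸ jel_mem i))
  · rw [Subgroup.mem_centralizer_iff]
    exact fun y hy => C.J_comm hy hx

/-- A Sylow three-subgroup of `N(J)`. -/
def S : Subgroup G := (S0.subgroupOf H0).map C.φ

theorem mem_S {x : G} : x ∈ C.S ↔ ∃ w, inS w ∧ C.E w = x := by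
  constructor
  · rintro ⟨h, hh, rfl⟩
    obtain ⟨w, hw, he⟩ := mem_S0.mp (Subgroup.mem_subgroupOf.mp hh)
    exact ⟨w, hw, congrArg C.φ (Subtype.ext he)⟩
  · rintro ⟨w, hw, rfl⟩
    exact ⟨⟨el w, el_mem w⟩, Subgroup.mem_subgroupOf.mpr (mem_S0.mpr ⟨w, hw, rfl⟩), rfl⟩

theorem S_le : C.S ≤ Subgroup.normalizer (C.J : Set G) := fun x hx => by
  obtain ⟨w, -, rfl⟩ := C.mem_S.mp hx
  exact C.E_mem w

theorem J_le_S : C.J ≤ C.S := fun x hx => by
  obtain ⟨i, rfl⟩ := C.exists_j hx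
  exact C.mem_S.mpr ⟨_, ⟨rfl, by norm_num⟩, rfl⟩

theorem card_S : Nat.card C.S = 81 := by
  rw [S, Subgroup.card_map_of_injective C.inj,
    Nat.card_congr (Subgroup.subgroupOfEquivOfLe S0_le).toEquiv, card_S0]

theorem card_normalizer_J : Nat.card (Subgroup.normalizer (C.J : Set G)) = 648 := by
  rw [← C.range, Nat.card_congr (MonoidHom.ofInjective C.inj).symm.toEquiv, card_H0]

theorem isPGroup_S : IsPGroup 3 C.S := IsPGroup.of_card (n := 4) (by rw [C.card_S]; norm_num)

variable [Finite G]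

/-- `J` is the only abelian subgroup of order twenty-seven of `S`. -/
theorem eq_J_of_abelian {A : Subgroup G} (hA : A ≤ C.S) (hcard : Nat.card A = 27)
    (hab : ∀ x ∈ A, ∀ y ∈ A, x * y = y * x) : A = C.J := by
  classical
  refine Subgroup.eq_of_le_of_card_ge ?_ (by rw [hcard, C.card_J])
  intro x hx
  by_contra hxJ
  obtain ⟨u, hu, rfl⟩ := C.mem_S.mp (hA hx)
  have h9 := S0_cent u hu fun h => hxJ ((C.E_mem_J_iff u).mpr h)
  have hinj : ∀ y : A, ∃ v, v ∈ (Finset.univ.filter fun v : W =>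
      inS v ∧ el u * el v = el v * el u) ∧ C.E v = y := by
    intro y
    obtain ⟨v, hv, he⟩ := C.mem_S.mp (hA y.2)
    exact ⟨v, Finset.mem_filter.mpr ⟨Finset.mem_univ _, hv, (C.E_comm_iff u v).mp
      (by rw [he]; exact hab _ hx _ y.2)⟩, he⟩
  choose f hf using hinj
  have : Nat.card A ≤ 9 := by
    refine le_trans ?_ h9
    rw [← Nat.card_eq_finsetCard]
    exact Nat.card_le_card_of_injective (fun y => (⟨f y, (hf y).1⟩ : (_ : Finset W)))
      fun a b e => Subtype.ext (((hf a).2.symm.trans (congrArg C.E (congrArg Subtype.val e))).trans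
        (hf b).2)
  omega

theorem normalizer_S_le : Subgroup.normalizer (C.S : Set G) ≤ Subgroup.normalizer (C.J : Set G) := by
  intro g hg
  rw [Subgroup.mem_normalizer_iff_map_conj_eq] at hg ⊢
  refine C.eq_J_of_abelian (le_trans (Subgroup.map_mono C.J_le_S) hg.le) ?_ ?_
  · rw [Subgroup.card_map_of_injective (MulEquiv.injective _), C.card_J]
  · rintro - ⟨x, hx, rfl⟩ - ⟨y, hy, rfl⟩
    rw [← map_mul, ← map_mul, C.J_comm hx hy]

/-- `S` is a Sylow three-subgroup of the whole group. -/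
theorem exists_sylow : ∃ P : Sylow 3 G, (P : Subgroup G) = C.S := by
  haveI : Fact (Nat.Prime 3) := ⟨Nat.prime_three⟩
  obtain ⟨P, hP⟩ := C.isPGroup_S.exists_le_sylow
  refine ⟨P, le_antisymm ?_ hP⟩
  by_contra hlt
  have hne : C.S.subgroupOf (P : Subgroup G) < ⊤ :=
    lt_of_le_of_ne le_top fun h => hlt (Subgroup.subgroupOf_eq_top.mp h)
  haveI := P.isPGroup'.isNilpotent
  obtain ⟨g, hgn, hgS⟩ := SetLike.exists_of_lt (Group.normalizerCondition_of_isNilpotent _ hne)
  have hgN : (g : G) ∈ Subgroup.normalizer (C.J : Set G) := by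
    refine C.normalizer_S_le (Subgroup.mem_normalizer_iff.mpr fun x => ?_)
    have hn := Subgroup.mem_normalizer_iff.mp hgn
    constructor
    · intro hx
      exact Subgroup.mem_subgroupOf.mp
        ((hn ⟨x, hP hx⟩).mp (Subgroup.mem_subgroupOf.mpr hx))
    · intro hx
      have hxP : x ∈ (P : Subgroup G) := by
        have := mul_mem (mul_mem (inv_mem g.2) (hP hx)) g.2
        simpa [mul_assoc] using this
      exact Subgroup.mem_subgroupOf.mp
        ((hn ⟨x, hxP⟩).mpr (Subgroup.mem_subgroupOf.mpr hx))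
  set T := C.S ⊔ Subgroup.zpowers (g : G) with hT
  have hTP : T ≤ (P : Subgroup G) := sup_le hP (Subgroup.zpowers_le.mpr g.2)
  have hTH : T ≤ Subgroup.normalizer (C.J : Set G) := sup_le C.S_le (Subgroup.zpowers_le.mpr hgN)
  obtain ⟨n, hn⟩ := IsPGroup.iff_card.mp (P.isPGroup'.to_le hTP)
  have h648 := Subgroup.card_dvd_of_le hTH
  rw [C.card_normalizer_J, hn] at h648
  have hn4 : n ≤ 4 := by
    by_contra h
    have : (3 : ℕ) ^ 5 ∣ 648 := (Nat.pow_dvd_pow 3 (by omega : 5 ≤ n)).trans h648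
    norm_num at this
  have hST : C.S = T := Subgroup.eq_of_le_of_card_ge le_sup_left (by
    rw [C.card_S, hn]; exact Nat.pow_le_pow_right (by norm_num) hn4)
  exact hgS (Subgroup.mem_subgroupOf.mpr
    (hST ▸ Subgroup.mem_sup_right (Subgroup.mem_zpowers _)))

/-- A three-group containing `J` and an abelian subgroup of order twenty-seven: they agree. -/
theorem eq_J_of_isPGroup {Q A : Subgroup G} (hQ : IsPGroup 3 Q) (hJQ : C.J ≤ Q) (hAQ : A ≤ Q)
    (hcard : Nat.card A = 27) (hab : ∀ x ∈ A, ∀ y ∈ A, x * y = y * x) : A = C.J := by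
  haveI : Fact (Nat.Prime 3) := ⟨Nat.prime_three⟩
  obtain ⟨P, hP⟩ := C.exists_sylow
  obtain ⟨R, hR⟩ := hQ.exists_le_sylow
  obtain ⟨g, hg⟩ := MulAction.exists_smul_eq G R P
  have hmap : ∀ B : Subgroup G, B ≤ Q → B.map (MulAut.conj g).toMonoidHom ≤ C.S := by
    intro B hB
    rw [← hP, ← hg, Sylow.coe_subgroup_smul]
    rintro - ⟨x, hx, rfl⟩
    exact Subgroup.smul_mem_pointwise_smul x (MulAut.conj g) (R : Subgroup G) (hR (hB hx))
  have key : ∀ B : Subgroup G, B ≤ Q → Nat.card B = 27 → (∀ x ∈ B, ∀ y ∈ B, x * y = y * x) →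
      B.map (MulAut.conj g).toMonoidHom = C.J := by
    intro B hB hc hb
    refine C.eq_J_of_abelian (hmap B hB) ?_ ?_
    · rw [Subgroup.card_map_of_injective (MulEquiv.injective _), hc]
    · rintro - ⟨x, hx, rfl⟩ - ⟨y, hy, rfl⟩
      rw [← map_mul, ← map_mul, hb x hx y hy]
  exact Subgroup.map_injective (MulEquiv.injective _)
    ((key A hAQ hcard hab).trans (key C.J hJQ C.card_J fun x hx y hy => C.J_comm hx hy).symm)

/-- Conjugate elements of `J` are conjugate in `N(J)`. -/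
theorem exists_conj_in_normalizer {x g : G} (hx : x ∈ C.J) (hy : g * x * g⁻¹ ∈ C.J) :
    ∃ n ∈ Subgroup.normalizer (C.J : Set G), n * x * n⁻¹ = g * x * g⁻¹ := by
  haveI : Fact (Nat.Prime 3) := ⟨Nat.prime_three⟩
  set y := g * x * g⁻¹ with hydef
  set X := Subgroup.centralizer ({y} : Set G)
  set J' := C.J.map (MulAut.conj g).toMonoidHom
  have hJX : C.J ≤ X := fun z hz =>
    Subgroup.mem_centralizer_singleton_iff.mpr (C.J_comm hz hy)
  have hJ'X : J' ≤ X := by
    rintro - ⟨z, hz, rfl⟩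
    rw [Subgroup.mem_centralizer_singleton_iff]
    simp only [MulEquiv.coe_toMonoidHom, MulAut.conj_apply, hydef]
    calc g * z * g⁻¹ * (g * x * g⁻¹) = g * (z * x) * g⁻¹ := by group
      _ = g * (x * z) * g⁻¹ := by rw [C.J_comm hz hx]
      _ = _ := by group
  have hp : ∀ B : Subgroup G, B ≤ X → Nat.card B = 27 → IsPGroup 3 (B.subgroupOf X) :=
    fun B hB hc => IsPGroup.of_card (n := 3) (by
      rw [Nat.card_congr (Subgroup.subgroupOfEquivOfLe hB).toEquiv, hc]; norm_num)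
  have hJ'card : Nat.card J' = 27 := by
    rw [Subgroup.card_map_of_injective (MulEquiv.injective _), C.card_J]
  obtain ⟨P₁, hP₁⟩ := (hp C.J hJX C.card_J).exists_le_sylow
  obtain ⟨P₂, hP₂⟩ := (hp J' hJ'X hJ'card).exists_le_sylow
  obtain ⟨k, hk⟩ := MulAction.exists_smul_eq X P₂ P₁
  have hQ : IsPGroup 3 ((P₁ : Subgroup X).map X.subtype) := P₁.isPGroup'.map _
  have h2 : J'.map (MulAut.conj (k : G)).toMonoidHom = C.J := by
    refine C.eq_J_of_isPGroup hQ ?_ ?_ ?_ ?_
    · intro z hz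
      exact ⟨⟨z, hJX hz⟩, hP₁ (Subgroup.mem_subgroupOf.mpr hz), rfl⟩
    · rintro - ⟨z, hz, rfl⟩
      refine ⟨k * ⟨z, hJ'X hz⟩ * k⁻¹, ?_, rfl⟩
      rw [← hk, Sylow.coe_subgroup_smul]
      exact Subgroup.smul_mem_pointwise_smul _ (MulAut.conj k) (P₂ : Subgroup X)
        (hP₂ (Subgroup.mem_subgroupOf.mpr hz))
    · rw [Subgroup.card_map_of_injective (MulEquiv.injective _), hJ'card]
    · rintro - ⟨z, hz, rfl⟩ - ⟨z', hz', rfl⟩
      obtain ⟨w, hw, rfl⟩ := hz
      obtain ⟨w', hw', rfl⟩ := hz'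
      simp only [← map_mul, C.J_comm hw hw']
  refine ⟨(k : G) * g, ?_, ?_⟩
  · rw [Subgroup.mem_normalizer_iff_map_conj_eq]
    refine Eq.trans ?_ h2
    rw [Subgroup.map_map]
    congr 1
    ext z
    simp [mul_assoc]
  · have hk' := Subgroup.mem_centralizer_singleton_iff.mp k.2
    calc (k : G) * g * x * ((k : G) * g)⁻¹ = (k : G) * y * (k : G)⁻¹ := by rw [hydef]; group
      _ = _ := by rw [hk', mul_inv_cancel_right]

/-- Fusion in `J` is given by the type. -/
theorem isConj_j_iff (i k : Fin 3 × Fin 3 × Fin 3) : IsConj (C.j i) (C.j k) ↔ typ i = typ k := by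
  constructor
  · intro h
    obtain ⟨g, hg⟩ := isConj_iff.mp h
    obtain ⟨n, hn, he⟩ := C.exists_conj_in_normalizer (C.j_mem i) (g := g) (hg ▸ C.j_mem k)
    obtain ⟨w, rfl⟩ := C.exists_E hn
    rw [hg, mul_inv_eq_iff_eq_mul] at he
    have h2 : el w * jel i = jel k * el w := by
      rw [← el_base i, ← el_base k]
      simp only [j, E, ← map_mul] at he
      exact congrArg Subtype.val (C.inj he)
    refine typ_conj i k w.2 ?_
    have hjj : ∀ a b, jel a * jel b = jel b * jel a := by decide +kernel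
    have h3 : jel w.1 * (mel w.2 * jel i) = jel w.1 * (jel k * mel w.2) := by
      rw [← mul_assoc, ← mul_assoc, hjj w.1 k, mul_assoc (jel k)]
      exact h2
    exact mul_left_cancel h3
  · intro h
    obtain ⟨k', hk⟩ := conj_of_typ i k h
    refine isConj_iff.mpr ⟨C.E ((0, 0, 0), k'), mul_inv_eq_iff_eq_mul.mpr ?_⟩
    rw [j, j, E, E, E, ← map_mul, ← map_mul]
    refine congrArg C.φ (Subtype.ext ?_)
    show el _ * el _ = el _ * el _
    rw [el_base, el_base]
    simpa [el, jel] using hk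

end Cfg

end Cfsg.Agent.Lib.A9Norm79
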