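import Mathlib.Tactic
import Mathlib.Algebra.BigOperators.Field
import Mathlib.Algebra.Order.BigOperators.Ring.Finset
import Mathlib.Data.Rat.Cast.Order
import Mathlib.Data.Int.Star

/-!
# The arithmetic of the three exceptional columns
-/

set_option autoImplicit false

namespace Cfsg.Agent.Lib.A9Norm79.ArithI

variable {ι : Type*} [Fintype ι]

/-- An integer vector of norm two has two entries of absolute value one. -/
theorem norm_two [DecidableEq ι] {f : ι → ℤ} (h : ∑ x, f x * f x = 2) :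
    ∃ a b, a ≠ b ∧ f a * f a = 1 ∧ f b * f b = 1 ∧ ∀ x, x ≠ a → x ≠ b → f x = 0 := by
  have hex : ∃ a, f a ≠ 0 := by
    by_contra hc
    push Not at hc
    rw [Finset.sum_eq_zero fun x _ => by rw [hc x, zero_mul]] at h
    omega
  obtain ⟨a, ha⟩ := hex
  have h1 := Finset.add_sum_erase Finset.univ (fun x => f x * f x) (Finset.mem_univ a)
  rw [h] at h1
  have hnn : ∀ (s : Finset ι), 0 ≤ ∑ x ∈ s, f x * f x := fun s =>
    Finset.sum_nonneg fun x _ => mul_self_nonneg (f x)
  have ha1 : f a * f a = 1 := by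
    have hlo : f a ≤ -1 ∨ 1 ≤ f a := by omega
    have hhi := hnn (Finset.univ.erase a)
    have : f a * f a ≤ 2 := by omega
    rcases hlo with h' | h'
    · have : -1 ≤ f a := by nlinarith
      rw [show f a = -1 by omega]; norm_num
    · have : f a ≤ 1 := by nlinarith
      rw [show f a = 1 by omega]; norm_num
  obtain ⟨b, hb, hb0⟩ : ∃ b ∈ Finset.univ.erase a, f b ≠ 0 := by
    by_contra hc
    push Not at hc
    rw [Finset.sum_eq_zero fun x hx => by rw [hc x hx, zero_mul]] at h1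
    omega
  have h2 := Finset.add_sum_erase (Finset.univ.erase a) (fun x => f x * f x) hb
  have hhi := hnn ((Finset.univ.erase a).erase b)
  have hb1 : f b * f b = 1 := by
    have : 1 ≤ f b * f b := by
      rcases (show f b ≤ -1 ∨ 1 ≤ f b by omega) with h' | h' <;> nlinarith
    omega
  refine ⟨a, b, fun e => (Finset.ne_of_mem_erase hb) e.symm, ha1, hb1, fun x hxa hxb => ?_⟩
  have hz : ∑ x ∈ (Finset.univ.erase a).erase b, f x * f x = 0 := by omega
  exact mul_self_eq_zero.mp ((Finset.sum_eq_zero_iff_of_nonneg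
    (fun x _ => mul_self_nonneg (f x))).mp hz x
      (Finset.mem_erase.mpr ⟨hxb, Finset.mem_erase.mpr ⟨hxa, Finset.mem_univ _⟩⟩))

/-- Sums over a support of three. -/
theorem sum_three [DecidableEq ι] {M : Type*} [AddCommMonoid M] {a b c : ι} (hab : a ≠ b)
    (hac : a ≠ c) (hbc : b ≠ c) (F : ι → M) (h : ∀ x, x ≠ a → x ≠ b → x ≠ c → F x = 0) :
    ∑ x, F x = F a + F b + F c := by
  rw [← Finset.sum_subset (Finset.subset_univ ({a, b, c} : Finset ι)) fun x _ hx => by
    simp only [Finset.mem_insert, Finset.mem_singleton, not_or] at hx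
    exact h x hx.1 hx.2.1 hx.2.2]
  rw [Finset.sum_insert (by simp [hab, hac]), Finset.sum_insert (by simp [hbc]),
    Finset.sum_singleton, add_assoc]

/-- Sums over a support of two. -/
theorem sum_two [DecidableEq ι] {M : Type*} [AddCommMonoid M] {a b : ι} (hab : a ≠ b)
    (F : ι → M) (h : ∀ x, x ≠ a → x ≠ b → F x = 0) : ∑ x, F x = F a + F b := by
  rw [← Finset.sum_subset (Finset.subset_univ ({a, b} : Finset ι)) fun x _ hx => by
    simp only [Finset.mem_insert, Finset.mem_singleton, not_or] at hx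
    exact h x hx.1 hx.2]
  exact Finset.sum_pair hab

/-- The final bound. -/
theorem bound {m : ℕ} {t y : ℤ} (hE : 2 * (m : ℤ) * (t + 2 * y) = 3 * t)
    (hnorm : 2 + 3 * (y * y) ≤ 54) (ht : 0 < t) (hm : 0 < m) (hm3 : m % 3 = 1) : m ≤ 5 := by
  have hm' : (0 : ℤ) < m := by exact_mod_cast hm
  have hy : -4 ≤ y ∧ y ≤ 4 := by constructor <;> nlinarith
  have hs : 0 < t + 2 * y := by
    by_contra hcon
    have : 2 * (m : ℤ) * (t + 2 * y) ≤ 0 :=
      mul_nonpos_of_nonneg_of_nonpos (by omega) (by omega)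
    omega
  have h3 : (3 : ℤ) ∣ t + 2 * y := by
    have h : (3 : ℤ) ∣ 2 * (m : ℤ) * (t + 2 * y) := ⟨t, hE⟩
    rcases Int.prime_three.dvd_or_dvd h with h' | h'
    · rcases Int.prime_three.dvd_or_dvd h' with h'' | h'' <;> omega
    · exact h'
  have hs3 : 3 ≤ t + 2 * y := by omega
  by_contra hcon
  have h6 : (6 : ℤ) ≤ m := by omega
  have : 6 * 2 * (t + 2 * y) ≤ 2 * (m : ℤ) * (t + 2 * y) :=
    mul_le_mul_of_nonneg_right (by omega) (by omega)
  omega

/-- The index bound from the two structure constants. -/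
theorem index_le (o : ι) (v p q w d : ι → ℤ) (hd : ∀ χ, 0 < d χ)
    (ho : v o = 1 ∧ p o = 1 ∧ q o = 1 ∧ w o = 1 ∧ d o = 1)
    (hvv : ∑ χ, v χ * v χ = 9) (hpp : ∑ χ, p χ * p χ = 9) (hqq : ∑ χ, q χ * q χ = 9)
    (hww : ∑ χ, w χ * w χ = 54)
    (hvp : ∑ χ, v χ * p χ = 0) (hvq : ∑ χ, v χ * q χ = 0) (hpq : ∑ χ, p χ * q χ = 0)
    (hvw : ∑ χ, v χ * w χ = 0) (hpw : ∑ χ, p χ * w χ = 0) (hqw : ∑ χ, q χ * w χ = 0)
    (hvd : ∑ χ, v χ * d χ = 0) (hpd : ∑ χ, p χ * d χ = 0) (hqd : ∑ χ, q χ * d χ = 0)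
    (hcp : ∀ χ, (3 : ℤ) ∣ p χ - d χ) (hcq : ∀ χ, (3 : ℤ) ∣ q χ - d χ)
    (hcv : ∀ χ, (3 : ℤ) ∣ v χ - d χ)
    (m : ℕ) (hm : 0 < m) (hm3 : m % 3 = 1)
    (e1 : ∑ χ, (v χ : ℚ) * w χ * w χ / d χ = 0)
    (e2 : (648 * m : ℚ) * ∑ χ, (v χ : ℚ) * v χ * w χ / d χ = 2916) : m ≤ 5 := by
  classical
  have hA : ∀ χ, ∃ a : ℤ, v χ + p χ + q χ = 3 * a := fun χ =>
    ⟨(v χ + p χ + q χ) / 3, by have := hcp χ; have := hcq χ; have := hcv χ; omega⟩
  have hB : ∀ χ, ∃ b : ℤ, v χ - q χ = 3 * b := fun χ =>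
    ⟨(v χ - q χ) / 3, by have := hcq χ; have := hcv χ; omega⟩
  have hC : ∀ χ, ∃ c : ℤ, v χ - p χ = 3 * c := fun χ =>
    ⟨(v χ - p χ) / 3, by have := hcp χ; have := hcv χ; omega⟩
  choose a ha using hA
  choose b hb using hB
  choose c hc using hC
  have hv : ∀ χ, v χ = a χ + b χ + c χ := fun χ => by
    have := ha χ; have := hb χ; have := hc χ; omega
  -- products
  have key : ∀ (F : ι → ℤ) (α β γ : ℤ), (∑ χ, v χ * F χ = α) → (∑ χ, p χ * F χ = β) →
      (∑ χ, q χ * F χ = γ) → 3 * ∑ χ, a χ * F χ = α + β + γ ∧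
      3 * ∑ χ, b χ * F χ = α - γ ∧ 3 * ∑ χ, c χ * F χ = α - β := by
    intro F α β γ h1 h2 h3
    refine ⟨?_, ?_, ?_⟩
    · rw [← h1, ← h2, ← h3, Finset.mul_sum, ← Finset.sum_add_distrib, ← Finset.sum_add_distrib]
      exact Finset.sum_congr rfl fun χ _ => by linear_combination (-F χ) * ha χ
    · rw [← h1, ← h3, Finset.mul_sum, ← Finset.sum_sub_distrib]
      exact Finset.sum_congr rfl fun χ _ => by linear_combination (-F χ) * hb χ
    · rw [← h1, ← h2, Finset.mul_sum, ← Finset.sum_sub_distrib]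
      exact Finset.sum_congr rfl fun χ _ => by linear_combination (-F χ) * hc χ
  have hsymm : ∀ (F H : ι → ℤ), ∑ χ, F χ * H χ = ∑ χ, H χ * F χ := fun F H =>
    Finset.sum_congr rfl fun χ _ => mul_comm _ _
  obtain ⟨av, bv, cv⟩ := key v 9 0 0 hvv (hsymm p v ▸ hvp) (hsymm q v ▸ hvq)
  obtain ⟨ap, bp, cp⟩ := key p 0 9 0 hvp hpp (hsymm q p ▸ hpq)
  obtain ⟨aq, bq, cq⟩ := key q 0 0 9 hvq hpq hqq
  obtain ⟨aw, bw, cw⟩ := key w 0 0 0 hvw hpw hqw
  obtain ⟨ad, bd, cd⟩ := key d 0 0 0 hvd hpd hqd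
  have gram : ∀ (F : ι → ℤ), 3 * ∑ χ, F χ * a χ =
        (∑ χ, F χ * v χ) + (∑ χ, F χ * p χ) + (∑ χ, F χ * q χ) ∧
      3 * ∑ χ, F χ * b χ = (∑ χ, F χ * v χ) - (∑ χ, F χ * q χ) ∧
      3 * ∑ χ, F χ * c χ = (∑ χ, F χ * v χ) - (∑ χ, F χ * p χ) := by
    intro F
    obtain ⟨h1, h2, h3⟩ := key F _ _ _ rfl rfl rfl
    rw [hsymm F a, hsymm F b, hsymm F c, hsymm F v, hsymm F p, hsymm F q]
    exact ⟨h1, h2, h3⟩
  have haa : ∑ χ, a χ * a χ = 3 := by have := (gram a).1; omega
  have hbb : ∑ χ, b χ * b χ = 2 := by have := (gram b).2.1; omega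
  have hcc : ∑ χ, c χ * c χ = 2 := by have := (gram c).2.2; omega
  have hbc : ∑ χ, b χ * c χ = 1 := by have := (gram b).2.2; omega
  have hab : ∑ χ, a χ * b χ = 0 := by have := (gram a).2.1; omega
  have hac : ∑ χ, a χ * c χ = 0 := by have := (gram a).2.2; omega
  obtain ⟨hvo, hpo, hqo, hwo, hdo⟩ := ho
  have hao : a o = 1 := by have := ha o; omega
  have hbo : b o = 0 := by have := hb o; omega
  have hco : c o = 0 := by have := hc o; omega
  -- the two other entries of `a`
  obtain ⟨i, j, hij, hai, haj, hoff⟩ := norm_two (f := fun χ => if χ = o then 0 else a χ) (by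
    have h1 := Finset.add_sum_erase Finset.univ (fun χ => a χ * a χ) (Finset.mem_univ o)
    have h2 := Finset.add_sum_erase Finset.univ
      (fun χ => (if χ = o then 0 else a χ) * (if χ = o then 0 else a χ)) (Finset.mem_univ o)
    simp only [if_pos, mul_zero, zero_add, haa, hao, mul_one] at h1 h2
    rw [← h2, Finset.sum_congr rfl fun x hx => by rw [if_neg (Finset.ne_of_mem_erase hx)]]
    omega)
  have hio : i ≠ o := fun e => by simp [e] at hai
  have hjo : j ≠ o := fun e => by simp [e] at haj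
  simp only [if_neg hio, if_neg hjo] at hai haj
  have ha0 : ∀ x, x ≠ o → x ≠ i → x ≠ j → a x = 0 := fun x h1 h2 h3 => by
    simpa [if_neg h1] using hoff x h2 h3
  -- the entries of `b` and `c`
  obtain ⟨k, l, hkl, hbk, hbl, hb0⟩ := norm_two hbb
  obtain ⟨k', n, hkn, hck, hcn, hc0⟩ := norm_two hcc
  have hsq : ∀ x : ℤ, x * x = 1 → x = 1 ∨ x = -1 := fun x hx => Int.eq_one_or_neg_one_of_mul_eq_one hx
  -- `b` and `c` share exactly one constituent
  obtain ⟨K, L, M, hKL, hKM, hLM, hbK, hbL, hcK, hcM, hbz, hcz⟩ : ∃ K L M : ι, K ≠ L ∧ K ≠ M ∧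
      L ≠ M ∧ b K * b K = 1 ∧ b L * b L = 1 ∧ c K * c K = 1 ∧ c M * c M = 1 ∧
      (∀ x, x ≠ K → x ≠ L → b x = 0) ∧ (∀ x, x ≠ K → x ≠ M → c x = 0) := by
    have h := sum_two hkl (fun x => b x * c x) fun x h1 h2 => by rw [hb0 x h1 h2, zero_mul]
    rw [hbc] at h
    have hk : c k ≠ 0 → k = k' ∨ k = n := fun h0 => by
      by_contra hne; push Not at hne; exact h0 (hc0 k hne.1 hne.2)
    have hl : c l ≠ 0 → l = k' ∨ l = n := fun h0 => by
      by_contra hne; push Not at hne; exact h0 (hc0 l hne.1 hne.2)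
    have c1 : ∀ x, c x = 0 ∨ c x = 1 ∨ c x = -1 := fun x => by
      by_cases e1 : x = k'
      · rcases hsq _ hck with h' | h' <;> subst e1 <;> omega
      by_cases e2 : x = n
      · rcases hsq _ hcn with h' | h' <;> subst e2 <;> omega
      exact Or.inl (hc0 x e1 e2)
    by_cases hck0 : c k = 0
    · have hcl0 : c l ≠ 0 := fun e => by simp [hck0, e] at h
      rcases hl hcl0 with rfl | rfl
      · refine ⟨l, k, n, hkl.symm, hkn, fun e => ?_, hbl, hbk, hck, hcn,
          fun x h1 h2 => hb0 x h2 h1, hc0⟩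
        subst e; simp [hck0] at hcn
      · refine ⟨l, k, k', hkl.symm, hkn.symm, fun e => ?_, hbl, hbk, hcn, hck,
          fun x h1 h2 => hb0 x h2 h1, fun x h1 h2 => hc0 x h2 h1⟩
        subst e; simp [hck0] at hck
    · have hcl0 : c l = 0 := by
        rcases c1 k with e | e | e <;> rcases c1 l with e' | e' | e' <;>
          rcases hsq _ hbk with f | f <;> rcases hsq _ hbl with f' | f' <;>
          simp [e, e', f, f'] at h ⊢ <;> omega
      rcases hk hck0 with rfl | rfl
      · refine ⟨k, l, n, hkl, hkn, fun e => ?_, hbk, hbl, hck, hcn, hb0, hc0⟩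
        subst e; simp [hcl0] at hcn
      · refine ⟨k, l, k', hkl, hkn.symm, fun e => ?_, hbk, hbl, hcn, hck, hb0,
          fun x h1 h2 => hc0 x h2 h1⟩
        subst e; simp [hcl0] at hck
  obtain ⟨e, he⟩ : ∃ e, b K = e := ⟨_, rfl⟩
  rw [he] at hbK
  have hcKe : c K = e := by
    have h := sum_two hKL (fun x => b x * c x) fun x h1 h2 => by rw [hbz x h1 h2, zero_mul]
    rw [hbc, hcz L hKL.symm hLM, mul_zero, add_zero, he] at h
    rcases hsq _ hbK with f | f <;> rw [f] at h <;> omega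
  -- degree relations
  have hd2 : b K * d K + b L * d L = 0 := by
    have h := sum_two hKL (fun x => b x * d x) fun x h1 h2 => by rw [hbz x h1 h2, zero_mul]
    omega
  rw [he] at hd2
  have hd3 : c K * d K + c M * d M = 0 := by
    have h := sum_two hKM (fun x => c x * d x) fun x h1 h2 => by rw [hcz x h1 h2, zero_mul]
    omega
  have hbLe : b L = -e ∧ d L = d K := by
    rcases hsq _ hbK with f | f <;> rcases hsq _ hbL with f' | f' <;>
      rw [f, f'] at hd2 <;> have := hd K <;> have := hd L <;>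
      constructor <;> omega
  have hcMe : c M = -e ∧ d M = d K := by
    rw [hcKe] at hd3
    rcases hsq _ hbK with f | f <;> rcases hsq _ hcM with f' | f' <;>
      rw [f, f'] at hd3 <;> have := hd K <;> have := hd M <;>
      constructor <;> omega
  have hwL : w L = w K := by
    have h := sum_two hKL (fun x => b x * w x) fun x h1 h2 => by rw [hbz x h1 h2, zero_mul]
    rw [hbLe.1, he] at h
    rcases hsq _ hbK with f | f <;> rw [f] at h <;> omega
  have hwM : w M = w K := by
    have h := sum_two hKM (fun x => c x * w x) fun x h1 h2 => by rw [hcz x h1 h2, zero_mul]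
    rw [hcMe.1, hcKe] at h
    rcases hsq _ hbK with f | f <;> rw [f] at h <;> omega
  -- disjointness of the supports
  have hsupp : ∀ x, x = o ∨ x = i ∨ x = j → x ≠ K ∧ x ≠ L ∧ x ≠ M := by
    have hno : ∀ x, a x ≠ 0 → x ≠ K ∧ x ≠ L ∧ x ≠ M := by
      have hpar : a K * b K + a L * b L = 0 := by
        have h := sum_two hKL (fun x => a x * b x) fun x h1 h2 => by rw [hbz x h1 h2, mul_zero]
        omega
      have hpac : a K * c K + a M * c M = 0 := by
        have h := sum_two hKM (fun x => a x * c x) fun x h1 h2 => by rw [hcz x h1 h2, mul_zero]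
        omega
      rw [hbLe.1, he] at hpar
      rw [hcKe, hcMe.1] at hpac
      have haL : a L = a K := by rcases hsq _ hbK with f | f <;> rw [f] at hpar <;> omega
      have haM : a M = a K := by rcases hsq _ hbK with f | f <;> rw [f] at hpac <;> omega
      have hzero : a K = 0 := by
        by_contra hne
        have hin : ∀ x, a x ≠ 0 → x = o ∨ x = i ∨ x = j := fun x hx => by
          by_contra hh; push Not at hh; exact hx (ha0 x hh.1 hh.2.1 hh.2.2)
        have hKo : K ≠ o := fun e' => by rw [← he, e', hbo] at hbK; simp at hbK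
        have hLo : L ≠ o := fun e' => by rw [e', hbo] at hbL; simp at hbL
        have hMo : M ≠ o := fun e' => by rw [e', hco] at hcM; simp at hcM
        rcases hin K hne with h1 | h1 | h1 <;> rcases hin L (haL ▸ hne) with h2 | h2 | h2 <;>
          rcases hin M (haM ▸ hne) with h3 | h3 | h3 <;>
          first
            | exact hKo h1 | exact hLo h2 | exact hMo h3
            | exact hKL (h1.trans h2.symm) | exact hKM (h1.trans h3.symm)
            | exact hLM (h2.trans h3.symm)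
      intro x hx
      refine ⟨?_, ?_, ?_⟩ <;> rintro rfl
      · exact hx hzero
      · exact hx (haL.trans hzero)
      · exact hx (haM.trans hzero)
    rintro x (rfl | rfl | rfl)
    · exact hno _ (by omega)
    · exact hno _ fun e' => by simp [e'] at hai
    · exact hno _ fun e' => by simp [e'] at haj
  -- the column `v`
  have hvx : ∀ x, x ≠ K → x ≠ L → x ≠ M → v x = a x := fun x h1 h2 h3 => by
    rw [hv x, hbz x h1 h2, hcz x h1 h3]; ring
  have haK : a K = 0 ∧ a L = 0 ∧ a M = 0 := by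
    refine ⟨ha0 _ ?_ ?_ ?_, ha0 _ ?_ ?_ ?_, ha0 _ ?_ ?_ ?_⟩ <;> intro e' <;>
      first
        | exact (hsupp _ (Or.inl rfl)).1 e'.symm | exact (hsupp _ (Or.inl rfl)).2.1 e'.symm
        | exact (hsupp _ (Or.inl rfl)).2.2 e'.symm | exact (hsupp _ (Or.inr (Or.inl rfl))).1 e'.symm
        | exact (hsupp _ (Or.inr (Or.inl rfl))).2.1 e'.symm
        | exact (hsupp _ (Or.inr (Or.inl rfl))).2.2 e'.symm
        | exact (hsupp _ (Or.inr (Or.inr rfl))).1 e'.symm
        | exact (hsupp _ (Or.inr (Or.inr rfl))).2.1 e'.symm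
        | exact (hsupp _ (Or.inr (Or.inr rfl))).2.2 e'.symm
  have hvK : v K = 2 * e := by rw [hv K, haK.1, he, hcKe]; ring
  have hvL : v L = -e := by rw [hv L, haK.2.1, hbLe.1, hcz L hKL.symm hLM]; ring
  have hvM : v M = -e := by rw [hv M, haK.2.2, hcMe.1, hbz M hKM.symm hLM.symm]; ring
  have sum_six : ∀ F : ι → ℚ, (∀ x, v x = 0 → F x = 0) →
      ∑ x, F x = F o + F i + F j + (F K + F L + F M) := by
    intro F hF
    rw [← Finset.sum_filter_add_sum_filter_not Finset.univ (fun x => x = o ∨ x = i ∨ x = j)]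
    congr 1
    · rw [Finset.sum_filter, sum_three hio.symm hjo.symm hij _ fun x h1 h2 h3 => by
        simp [h1, h2, h3]]
      simp
    · rw [Finset.sum_filter, sum_three hKL hKM hLM _ fun x h1 h2 h3 => by
        by_cases hx : x = o ∨ x = i ∨ x = j
        · simp [hx]
        · rw [if_pos hx]
          push Not at hx
          exact hF x (by rw [hvx x h1 h2 h3, ha0 x hx.1 hx.2.1 hx.2.2])]
      have n1 : ¬(K = o ∨ K = i ∨ K = j) := fun h => (hsupp K h).1 rfl
      have n2 : ¬(L = o ∨ L = i ∨ L = j) := fun h => (hsupp L h).2.1 rfl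
      have n3 : ¬(M = o ∨ M = i ∨ M = j) := fun h => (hsupp M h).2.2 rfl
      rw [if_pos n1, if_pos n2, if_pos n3]
  have hvi : v i = a i := hvx i (hsupp i (Or.inr (Or.inl rfl))).1
    (hsupp i (Or.inr (Or.inl rfl))).2.1 (hsupp i (Or.inr (Or.inl rfl))).2.2
  have hvj : v j = a j := hvx j (hsupp j (Or.inr (Or.inr rfl))).1
    (hsupp j (Or.inr (Or.inr rfl))).2.1 (hsupp j (Or.inr (Or.inr rfl))).2.2
  have hsum : ∀ F : ι → ℤ, ∑ x, a x * F x = F o + a i * F i + a j * F j := fun F => by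
    rw [sum_three hio.symm hjo.symm hij _ fun x h1 h2 h3 => by rw [ha0 x h1 h2 h3, zero_mul],
      hao, one_mul]
  -- signed degrees
  set A := a i * d i with hAdef
  set f := a i * w i with hfdef
  have hBj : a j * d j = -1 - A := by
    have h := hsum d; rw [hdo] at h; rw [hAdef]; omega
  have hgj : a j * w j = -1 - f := by
    have h := hsum w; rw [hwo] at h; rw [hfdef]; omega
  have hA0 : A ≠ 0 := by
    rw [hAdef]; exact mul_ne_zero (fun e' => by simp [e'] at hai) (hd i).ne'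
  have hB0 : -1 - A ≠ 0 := by
    rw [← hBj]; exact mul_ne_zero (fun e' => by simp [e'] at haj) (hd j).ne'
  have hdK : (d K : ℚ) ≠ 0 := by exact_mod_cast (hd K).ne'
  have conv : ∀ (s t u : ℤ), s * s = 1 → t ≠ 0 →
      (s : ℚ) * u * u / t = ((s * u : ℤ) : ℚ) * ((s * u : ℤ) : ℚ) / ((s * t : ℤ) : ℚ) := by
    intro s t u hs ht
    have hs0 : (s : ℚ) ≠ 0 := by
      rcases hsq s hs with rfl | rfl <;> norm_num
    have ht0 : (t : ℚ) ≠ 0 := by exact_mod_cast ht
    push_cast
    field_simp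
  have E1 : (1 : ℚ) + (f : ℚ) * f / A + ((-1 - f : ℤ) : ℚ) * ((-1 - f : ℤ) : ℚ) /
      ((-1 - A : ℤ) : ℚ) = 0 := by
    have h := e1
    rw [sum_six _ (fun x hx => by simp [hx])] at h
    rw [hvo, hvi, hvj, hvK, hvL, hvM, hwL, hwM, hbLe.2, hcMe.2, hwo, hdo] at h
    rw [conv _ _ _ hai (hd i).ne', conv _ _ _ haj (hd j).ne', hBj, hgj] at h
    rw [← hAdef, ← hfdef] at h
    push_cast at h ⊢
    linear_combination h + (0 : ℚ) * h
  have hfA : f = A := by
    have hA0' : (A : ℚ) ≠ 0 := by exact_mod_cast hA0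
    have hB0' : ((-1 - A : ℤ) : ℚ) ≠ 0 := by exact_mod_cast hB0
    field_simp at E1
    push_cast at E1
    have : ((f : ℚ) - A) ^ 2 = 0 := by linear_combination (-1 : ℚ) * E1
    have h0 := pow_eq_zero_iff (n := 2) (by norm_num) |>.mp this
    exact_mod_cast sub_eq_zero.mp h0
  have E2 : (648 * m : ℚ) * (3 + 6 * (w K : ℚ) / d K) = 2916 := by
    have h := e2
    rw [sum_six _ (fun x hx => by simp [hx])] at h
    rw [hvo, hvi, hvj, hvK, hvL, hvM, hwL, hwM, hbLe.2, hcMe.2, hwo, hdo] at h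
    have hi' : (a i : ℚ) * a i * w i / d i = 1 := by
      have h1 : (w i : ℤ) = d i := by
        rcases hsq _ hai with f' | f' <;> rw [hfdef, hAdef, f'] at hfA <;> omega
      rw [h1, show (a i : ℚ) * a i = 1 by exact_mod_cast hai, one_mul]
      exact div_self (by exact_mod_cast (hd i).ne')
    have hj' : (a j : ℚ) * a j * w j / d j = 1 := by
      have h1 : (w j : ℤ) = d j := by
        rcases hsq _ haj with f' | f' <;> rw [f'] at hBj hgj <;> omega
      rw [h1, show (a j : ℚ) * a j = 1 by exact_mod_cast haj, one_mul]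
      exact div_self (by exact_mod_cast (hd j).ne')
    rw [hi', hj'] at h
    have hee : (e : ℚ) * e = 1 := by exact_mod_cast hbK
    push_cast at h
    have hK3 : (2 * e : ℚ) * (2 * e) * w K / d K + -(e : ℚ) * -(e : ℚ) * w K / d K +
        -(e : ℚ) * -(e : ℚ) * w K / d K = 6 * w K / d K := by
      rw [← add_div, ← add_div]
      congr 1
      linear_combination (6 * (w K : ℚ)) * hee
    linear_combination h - (648 * m : ℚ) * hK3
  -- the bound
  have hE : 2 * (m : ℤ) * (d K + 2 * w K) = 3 * d K := by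
    have h2 : (2 * (m : ℚ) * (d K + 2 * w K)) = 3 * d K := by
      field_simp at E2
      linarith
    exact_mod_cast h2
  have hnorm : 2 + 3 * (w K * w K) ≤ 54 := by
    have hle : ∑ x ∈ ({o, i, K, L, M} : Finset ι), w x * w x ≤ 54 := by
      rw [← hww]
      exact Finset.sum_le_univ_sum_of_nonneg fun x => mul_self_nonneg (w x)
    have hs := fun (y : ι) (hy : y = o ∨ y = i ∨ y = j) => hsupp y hy
    obtain ⟨o1, o2, o3⟩ := hs o (Or.inl rfl)
    obtain ⟨i1, i2, i3⟩ := hs i (Or.inr (Or.inl rfl))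
    rw [Finset.sum_insert (by simp [hio.symm, o1, o2, o3]),
      Finset.sum_insert (by simp [i1, i2, i3]), Finset.sum_insert (by simp [hKL, hKM]),
      Finset.sum_insert (by simp [hLM]), Finset.sum_singleton, hwL, hwM, hwo] at hle
    have h1 : 1 ≤ w i * w i := by
      have h' : w i = d i := by
        rcases hsq _ hai with f' | f' <;> rw [hfdef, hAdef, f'] at hfA <;> omega
      have := hd i
      nlinarith
    omega
  exact bound hE hnorm (hd K) hm hm3

end Cfsg.Agent.Lib.A9Norm79.ArithI
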