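import Cfsg.Agent.Lib.A9Norm79.Embeddings

/-!
# None of the four representations carries degrees and structure constants
-/

set_option autoImplicit false

namespace Cfsg.Agent.Lib.A9Norm79.ModelII

/-- An entry. -/
def ent (rows : List (List ℤ)) (j : ℕ) (i : Fin 9) : ℤ := (rows.getD j []).getD (i : ℕ) 0

/-- The value in one of the three classes. -/
def valAt (rows : List (List ℤ)) (j : ℕ) (t : Fin 3) : ℤ := ∑ i, back t i * ent rows j i

/-- The product of three values. -/
def prodAt (rows : List (List ℤ)) (j : ℕ) (e : Fin 7) : ℤ :=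
  valAt rows j (triples e).1 * valAt rows j (triples e).2.1 * valAt rows j (triples e).2.2

/-- The structure constants. -/
def rhs : Fin 7 → ℤ := ![23328, 0, 11664, 17496, 26244, 17496, 249318]

variable {rows : List (List ℤ)} {D : ℕ → ℤ} {N : ℕ}

theorem comb_deg (hdeg : ∀ i, ∑ j ∈ Finset.range rows.length, D j * ent rows j i = 0)
    (κ : Fin 9 → ℤ) (T : ℕ → ℤ)
    (hT : ∀ j < rows.length, (∑ i, κ i * ent rows j i) = T j) :
    ∑ j ∈ Finset.range rows.length, D j * T j = 0 := by
  rw [Finset.sum_congr rfl fun j hj => by rw [← hT j (Finset.mem_range.mp hj), Finset.mul_sum],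
    Finset.sum_comm]
  refine Finset.sum_eq_zero fun i _ => ?_
  simp_rw [mul_left_comm (D _) (κ i)]
  rw [← Finset.mul_sum, hdeg, mul_zero]

theorem comb_eq (heq : ∀ e, (N : ℚ) * ∑ j ∈ Finset.range rows.length,
      (prodAt rows j e : ℚ) / D j = rhs e) (κ : Fin 7 → ℤ) (T : ℕ → ℤ)
    (hT : ∀ j < rows.length, (∑ e, κ e * prodAt rows j e) = T j) :
    (N : ℚ) * ∑ j ∈ Finset.range rows.length, (T j : ℚ) / D j = ((∑ e, κ e * rhs e : ℤ) : ℚ) := by
  push_cast
  rw [Finset.sum_congr rfl fun j hj => by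
      rw [← hT j (Finset.mem_range.mp hj), Int.cast_sum, Finset.sum_div],
    Finset.sum_comm, Finset.mul_sum]
  refine Finset.sum_congr rfl fun e _ => ?_
  rw [← heq e, Finset.mul_sum, Finset.mul_sum, Finset.mul_sum]
  refine Finset.sum_congr rfl fun j _ => ?_
  push_cast
  ring

/-- The contradiction. -/
theorem no_bundle (hrows : rows ∈ finalStates) (hN : 0 < N)
    (hne : ∀ j < rows.length, D j ≠ 0)
    (hmod : ∀ j < rows.length, (3 : ℤ) ∣ valAt rows j 2 - D j)
    (hdeg : ∀ i, ∑ j ∈ Finset.range rows.length, D j * ent rows j i = 0)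
    (heq : ∀ e, (N : ℚ) * ∑ j ∈ Finset.range rows.length,
      (prodAt rows j e : ℚ) / D j = rhs e) : False := by
  simp only [finalStates, List.mem_cons, List.not_mem_nil, or_false] at hrows
  rcases hrows with rfl | rfl | rfl | rfl
  · have h := comb_deg hdeg ![-1, 1, -1, -1, 0, 0, 0, 0, 0] (fun j => if j = 4 then 3 else 0)
      (by decide +kernel)
    simp only [mul_ite, mul_zero, Finset.sum_ite_eq'] at h
    norm_num at h
    exact hne 4 (by norm_num) h
  · have h := comb_deg hdeg ![-1, 1, -1, -1, 0, 0, 0, 0, 0] (fun j => if j = 4 then 3 else 0)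
      (by decide +kernel)
    simp only [mul_ite, mul_zero, Finset.sum_ite_eq'] at h
    norm_num at h
    exact hne 4 (by norm_num) h
  · have h1 := comb_deg hdeg ![1, 0, 0, 0, 0, 0, 0, 0, 0]
      (fun j => (if j = 1 then 1 else 0) + (if j = 2 then 1 else 0)) (by decide +kernel)
    simp only [mul_add, Finset.sum_add_distrib, mul_ite, mul_zero, Finset.sum_ite_eq'] at h1
    norm_num at h1
    have h9 := comb_eq heq ![2, -1, 2, -6, -1, 2, 2] (fun j => if j = 9 then 108 else 0)
      (by decide +kernel)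
    have h2 := comb_eq heq ![2, -1, 2, 6, -1, -4, -4]
      (fun j => (if j = 2 then 108 else 0) + (if j = 1 then -108 else 0)) (by decide +kernel)
    rw [show (∑ e, (![2, -1, 2, -6, -1, 2, 2] : Fin 7 → ℤ) e * rhs e) = 472392 by decide +kernel]
      at h9
    rw [show (∑ e, (![2, -1, 2, 6, -1, -4, -4] : Fin 7 → ℤ) e * rhs e) = -918540 by decide +kernel]
      at h2
    simp only [Int.cast_add, add_div, Finset.sum_add_distrib, apply_ite (Int.cast (R := ℚ)),
      Int.cast_zero, ite_div, zero_div, Finset.sum_ite_eq'] at h9 h2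
    norm_num at h9 h2
    have hD9 : (D 9 : ℚ) ≠ 0 := Int.cast_ne_zero.mpr (hne 9 (by norm_num))
    have hD2 : (D 2 : ℚ) ≠ 0 := Int.cast_ne_zero.mpr (hne 2 (by norm_num))
    have hD1 : (D 1 : ℚ) = -(D 2 : ℚ) := by
      have : ((D 1 + D 2 : ℤ) : ℚ) = 0 := by rw [h1]; norm_num
      push_cast at this; linarith
    rw [hD1] at h2
    field_simp at h9 h2
    have key : (36 * D 9 : ℤ) = -35 * D 2 := by
      have : ((36 * D 9 : ℤ) : ℚ) = ((-35 * D 2 : ℤ) : ℚ) := by push_cast; linarith
      exact_mod_cast this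
    have hm := hmod 2 (by norm_num)
    rw [show valAt _ 2 2 = -1 by decide +kernel] at hm
    omega
  · have h := comb_eq heq ![3, 0, 0, -11, 0, 4, 4] (fun _ => 0) (by decide +kernel)
    rw [show (∑ e, (![3, 0, 0, -11, 0, 4, 4] : Fin 7 → ℤ) e * rhs e) = 944784 by decide +kernel]
      at h
    simp at h

end Cfsg.Agent.Lib.A9Norm79.ModelII
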