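import Cfsg.Agent.Lib.BC78.Galois
import Cfsg.Agent.Lib.BC78.Roots
import Cfsg.Agent.Lib.Blocks.Basic
import Cfsg.Agent.Lib.H80.ClassMult

/-!
# Rational values at elements of three-power order and the structure constant identity
-/

set_option autoImplicit false

namespace Cfsg.Agent.Lib.A9Norm79.Values

open Cfsg.Agent.Lib.Characters.Basic Cfsg.Agent.Lib.Characters.Complete
open scoped ComplexConjugate

universe u

variable {G : Type u} [Group G] [Finite G]

/-- A rational element of three-power order takes integer values congruent to the degree. -/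
theorem exists_int_value (χ : Cfsg.IrrCharacter G) {g : G} {j : ℕ} (hg : g ^ 3 ^ j = 1)
    (hrat : ∀ k : ℕ, k.Coprime (orderOf g) → IsConj g (g ^ k)) :
    ∃ a : ℤ, (χ : G → ℂ) g = a ∧ (3 : ℤ) ∣ a - (Cfsg.charDegree (χ : G → ℂ) : ℤ) := by
  have hχ := isCharacter_irr χ
  have hint := BC78.Roots.isIntegral_char hχ g
  obtain ⟨a, ha⟩ := BC78.Galois.exists_int_of_fixed hint fun σ => by
    obtain ⟨k, hk, hσ⟩ := BC78.Galois.exists_exponent_char (G := G) σ
    rw [hσ (χ : G → ℂ) hχ g]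
    exact (classFunction_apply_of_isConj (isClassFunction_irr χ)
      (hrat k (hk.coprime_dvd_right (orderOf_dvd_natCard g)))).symm
  refine ⟨a, ha.symm, ?_⟩
  obtain ⟨M, hM⟩ := Blocks.exists_isPModular 3 Nat.prime_three
  haveI : M.IsMaximal := hM.2.1
  haveI : Fact (Nat.Prime 3) := ⟨Nat.prime_three⟩
  have h3 : ((3 : ℕ) : Cfsg.AlgInt ⧸ M) = 0 := by
    rw [← map_natCast (Ideal.Quotient.mk M)]
    exact Ideal.Quotient.eq_zero_iff_mem.mpr hM.2.2
  haveI : CharP (Cfsg.AlgInt ⧸ M) 3 :=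
    ringChar.eq_iff.mp ((CharP.ringChar_of_prime_eq_zero Nat.prime_three h3))
  have hint' : IsIntegral ℤ ((χ : G → ℂ) g) := hint
  have h := BC78.Roots.char_eq_degree_mod (k := Cfsg.AlgInt ⧸ M) hχ g hg (Ideal.Quotient.mk M) hint'
  have hval : (⟨(χ : G → ℂ) g, hint'⟩ : Cfsg.AlgInt) = (a : Cfsg.AlgInt) :=
    Subtype.ext (by simp [← ha])
  rw [hval, map_intCast] at h
  have h0 : ((a - (Cfsg.charDegree (χ : G → ℂ) : ℤ) : ℤ) : Cfsg.AlgInt ⧸ M) = 0 := by
    push_cast
    rw [h, sub_self]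
  exact (CharP.intCast_eq_zero_iff (Cfsg.AlgInt ⧸ M) 3 _).mp h0

open scoped Classical in
/-- The structure constant identity. -/
theorem structure_sum [Fintype G] [Fintype (Cfsg.IrrCharacter G)] (x y z : G) :
    (Nat.card G : ℂ) * ∑ χ : Cfsg.IrrCharacter G,
      (χ : G → ℂ) x * (χ : G → ℂ) y * conj ((χ : G → ℂ) z) / (χ : G → ℂ) 1 =
    ((Finset.univ.filter fun a : G => IsConj z (x * (a * y * a⁻¹))).card : ℂ) *
      (Nat.card (Subgroup.centralizer ({z} : Set G)) : ℂ) := by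
  have h : ∑ a : G, ∑ χ : Cfsg.IrrCharacter G,
      (χ : G → ℂ) (x * (a * y * a⁻¹)) * conj ((χ : G → ℂ) z) =
      (Nat.card G : ℂ) * ∑ χ : Cfsg.IrrCharacter G,
        (χ : G → ℂ) x * (χ : G → ℂ) y * conj ((χ : G → ℂ) z) / (χ : G → ℂ) 1 := by
    rw [Finset.sum_comm, Finset.mul_sum]
    refine Finset.sum_congr rfl fun χ _ => ?_
    rw [← Finset.sum_mul, H80.ClassMult.sum_apply_mul_conj]
    ring
  have h2 : ∀ a : G, ∑ χ : Cfsg.IrrCharacter G,
      (χ : G → ℂ) (x * (a * y * a⁻¹)) * conj ((χ : G → ℂ) z) =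
      if IsConj z (x * (a * y * a⁻¹)) then
        (Nat.card (Subgroup.centralizer ({z} : Set G)) : ℂ) else 0 := by
    intro a
    by_cases hh : IsConj z (x * (a * y * a⁻¹))
    · have e : ∀ χ : Cfsg.IrrCharacter G, (χ : G → ℂ) (x * (a * y * a⁻¹)) = (χ : G → ℂ) z :=
        fun χ => (classFunction_apply_of_isConj (isClassFunction_irr χ) hh).symm
      simp only [e]
      rw [sum_irr_mul_conj, if_pos (IsConj.refl z), if_pos hh]
    · rw [sum_irr_mul_conj, if_neg fun hh' => hh hh'.symm, if_neg hh]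
  simp only [h2] at h
  rw [← h, ← Finset.sum_filter, Finset.sum_const, nsmul_eq_mul]

end Cfsg.Agent.Lib.A9Norm79.Values
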