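import Cfsg.Agent.Lib.A9Norm79.Types
import Cfsg.Agent.Lib.A9Norm79.Values
import Cfsg.Agent.Lib.A9Norm79.ArithI

/-!
# Without fusion of the cycling element the subgroup `J` is normal
-/

set_option autoImplicit false

namespace Cfsg.Agent.Lib.A9Norm79

open Model Cfsg.Agent.Lib.Characters.Basic Cfsg.Agent.Lib.Characters.Complete
open scoped ComplexConjugate Pointwise

universe u

namespace Cfg

variable {G : Type u} [Group G] [Finite G] {C : Cfg G}

theorem g_cube (b : Bool) : C.g b ^ 3 = C.z := by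
  rw [g, z, j, E, E, ← map_pow]
  refine congrArg C.φ (Subtype.ext ?_)
  show el (ig b) ^ 3 = el _
  rw [el_base]
  exact (ig_facts b).1

theorem g_mem_S (b : Bool) : C.g b ∈ C.S := C.mem_S.mpr ⟨_, (ig_facts b).2.2.1, rfl⟩

theorem g_cube_ne (b : Bool) : C.g b ^ 3 ≠ 1 := fun h =>
  (ig_facts b).2.2.2 ((C.E_pow_eq_one_iff _ _).mp h)

theorem orderOf_g (b : Bool) : orderOf (C.g b) = 9 := by
  haveI : Fact (Nat.Prime 3) := ⟨Nat.prime_three⟩
  exact orderOf_eq_prime_pow (p := 3) (n := 1) (by simpa using g_cube_ne b)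
    ((C.E_pow_eq_one_iff _ _).mpr (ig_facts b).2.1)

theorem card_centralizer_g (b : Bool) :
    Nat.card (Subgroup.centralizer ({C.g b} : Set G)) = 9 := by
  classical
  have hle : Subgroup.centralizer ({C.g b} : Set G) ≤ C.S := fun x hx => by
    rw [← C.centralizer_z, Subgroup.mem_centralizer_singleton_iff, ← z, ← g_cube b]
    exact (Commute.pow_right (Subgroup.mem_centralizer_singleton_iff.mp hx) 3).eq
  have hbij : Function.Bijective
      (fun v : {w : W // w ∈ Finset.univ.filter fun w : W =>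
        inS w ∧ el w * el (ig b) = el (ig b) * el w} =>
      (⟨C.E v.1, Subgroup.mem_centralizer_singleton_iff.mpr
        ((C.E_comm_iff _ _).mpr (Finset.mem_filter.mp v.2).2.2)⟩ :
          Subgroup.centralizer ({C.g b} : Set G))) := by
    refine ⟨fun v v' e => Subtype.ext (C.E_injective (congrArg Subtype.val e)), fun x => ?_⟩
    obtain ⟨w, hw, he⟩ := C.mem_S.mp (hle x.2)
    exact ⟨⟨w, Finset.mem_filter.mpr ⟨Finset.mem_univ _, hw, (C.E_comm_iff _ _).mp
      (by rw [he]; exact Subgroup.mem_centralizer_singleton_iff.mp x.2)⟩⟩, Subtype.ext he⟩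
  rw [← Nat.card_congr (Equiv.ofBijective _ hbij), Nat.card_eq_finsetCard, cent_ig]

theorem g_not_isConj : ¬ IsConj (C.g true) (C.g false) := by
  intro h
  obtain ⟨c, hc⟩ := isConj_iff.mp h
  have hcz : c ∈ C.S := by
    rw [← C.centralizer_z, Subgroup.mem_centralizer_singleton_iff, ← z]
    have h3 := congrArg (· ^ 3) hc
    simp only [conj_pow, g_cube] at h3
    exact mul_inv_eq_iff_eq_mul.mp h3
  obtain ⟨v, hv, rfl⟩ := C.mem_S.mp hcz
  have h' := mul_inv_eq_iff_eq_mul.mp hc
  simp only [g, E, ← map_mul] at h'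
  exact ig_not_conj v hv (congrArg Subtype.val (C.inj h'))

theorem rational_g (b : Bool) (k : ℕ) (hk : k.Coprime (orderOf (C.g b))) :
    IsConj (C.g b) (C.g b ^ k) := by
  rw [orderOf_g] at hk
  have hk3 : k % 9 % 3 ≠ 0 := by
    intro h
    have h1 : 3 ∣ k := by omega
    have := Nat.dvd_gcd h1 (by norm_num : 3 ∣ 9)
    rw [hk] at this
    norm_num at this
  obtain ⟨w, hw⟩ := rat_ig b ⟨k % 9, by omega⟩ hk3
  rw [← pow_mod_orderOf, orderOf_g]
  exact C.conj_pow_of_el hw

theorem rational_three {x : G} (hx : x ^ 3 = 1) (h2 : IsConj x (x ^ 2)) (k : ℕ)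
    (hk : k.Coprime (orderOf x)) : IsConj x (x ^ k) := by
  have hd : orderOf x ∣ 3 := orderOf_dvd_of_pow_eq_one hx
  rcases (Nat.dvd_prime Nat.prime_three).mp hd with h | h
  · rw [orderOf_eq_one_iff.mp h, one_pow]
  · rw [h] at hk
    rw [← pow_mod_orderOf, h]
    have : k % 3 ≠ 0 := fun h0 => by
      rw [Nat.coprime_comm, Nat.prime_three.coprime_iff_not_dvd] at hk
      exact hk (Nat.dvd_of_mod_eq_zero h0)
    rcases (show k % 3 = 1 ∨ k % 3 = 2 by omega) with e | e <;> rw [e]
    · rw [pow_one]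
    · exact h2

/-- The middle type element. -/
def d (C : Cfg G) : G := C.j (1, 1, 0)

theorem d_pow : C.d ^ 3 = 1 := C.J_pow _ (C.j_mem _)

theorem isConj_d_pow : IsConj C.d (C.d ^ 2) := by
  have h : C.d ^ 2 = C.j (2, 2, 0) := by
    rw [d, j, j, E, E, ← map_pow]
    refine congrArg C.φ (Subtype.ext ?_)
    show el _ ^ 2 = el _
    rw [el_base, el_base]
    decide +kernel
  rw [h, d, isConj_j_iff]
  decide

theorem d_ne_one : C.d ≠ 1 := by
  intro h
  have h1 : el ((1, 1, 0), (0, 0)) = 1 := by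
    simpa using (C.E_pow_eq_one_iff ((1, 1, 0), (0, 0)) 1).mp (by rw [pow_one]; exact h)
  rw [el_base] at h1
  revert h1; decide +kernel

theorem pow_eq_one_of_isConj {x y : G} (h : IsConj x y) {n : ℕ} (hx : x ^ n = 1) : y ^ n = 1 := by
  obtain ⟨c, rfl⟩ := isConj_iff.mp h
  rw [conj_pow, hx]
  group

/-- Two elements of order three as in the triangle lie in the Sylow subgroup. -/
theorem mem_S_of_triangle (hI : ¬ IsConj C.r C.z) {y : G} (hy : y ^ 3 = 1)
    (hry : IsConj C.d (C.r * y)) : y ∈ C.S := by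
  rcases Triangle.exists_central_or_conj C.r_pow hy (pow_eq_one_of_isConj hry d_pow) with
    ⟨f, -, hf1, hrf, hyf⟩ | ⟨-, h2⟩
  · exact centralizer_le_S hI hf1 hrf (Subgroup.mem_centralizer_singleton_iff.mpr hyf.eq)
  · refine absurd ?_ (C.d_not_isConj_r (i := (1, 1, 0)) (Or.inr rfl))
    exact hry.trans (h2.symm.trans (pow_two C.r ▸ C.isConj_r_pow.symm))

theorem no_first (hI : ¬ IsConj C.r C.z) (a : G) :
    ¬ IsConj C.d (C.r * (a * C.d * a⁻¹)) := by
  intro h
  have hy3 : (a * C.d * a⁻¹) ^ 3 = 1 := by rw [conj_pow, d_pow]; group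
  have hyS := mem_S_of_triangle hI hy3 h
  have hyJ := C.mem_J_of_isConj (i := (1, 1, 0)) (Or.inr rfl) hyS (isConj_iff.mpr ⟨a, rfl⟩)
  have hpJ := C.mem_J_of_isConj (i := (1, 1, 0)) (Or.inr rfl) (mul_mem C.r_mem_S hyS) h
  refine C.r_not_mem_J ?_
  have := mul_mem hpJ (inv_mem hyJ)
  rwa [mul_inv_cancel_right] at this

open scoped Classical in
theorem count_second [Fintype G] (hI : ¬ IsConj C.r C.z) :
    (Finset.univ.filter fun a : G => IsConj C.d (C.r * (a * C.r * a⁻¹))).card = 54 := by
  have hmem : ∀ i ∈ six, IsConj C.r (C.E (i, (0, 2))) := fun i hi => by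
    obtain ⟨w, hw⟩ := six_conj i hi
    exact C.conj_of_el hw
  have hiff : ∀ a : G, IsConj C.d (C.r * (a * C.r * a⁻¹)) ↔
      ∃ i ∈ six, a * C.r * a⁻¹ = C.E (i, (0, 2)) := by
    intro a
    constructor
    · intro h
      have hy3 : (a * C.r * a⁻¹) ^ 3 = 1 := by rw [conj_pow, C.r_pow]; group
      have hyS := mem_S_of_triangle hI hy3 h
      have hpJ := C.mem_J_of_isConj (i := (1, 1, 0)) (Or.inr rfl) (mul_mem C.r_mem_S hyS) h
      obtain ⟨u, hu, hue⟩ := C.mem_S.mp hyS
      obtain ⟨k, hk⟩ := C.exists_j hpJ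
      rw [← hue, r, j, E, E, E, ← map_mul] at hk
      have hk' : el ir * el u = jel k := by
        rw [← el_base k]; exact (congrArg Subtype.val (C.inj hk)).symm
      have h2 := six_of u hu k hk'
      obtain ⟨i, k2⟩ := u
      change k2 = (0, 2) at h2
      subst h2
      refine ⟨i, Finset.mem_filter.mpr ⟨Finset.mem_univ _, ?_, k, ?_, hk'⟩, hue.symm⟩
      · exact (C.E_pow_eq_one_iff _ _).mp (by rw [hue]; exact hy3)
      · have hjk : C.j k = C.r * (a * C.r * a⁻¹) := by
          rw [← hue, r, j, E, E, E, ← map_mul]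
          exact congrArg C.φ (Subtype.ext (by rw [← el_base] at hk'; exact hk'.symm))
        rw [← hjk, d, isConj_j_iff] at h
        exact h.symm.trans (by decide)
    · rintro ⟨i, hi, he⟩
      obtain ⟨-, -, k, hk, hrk⟩ := Finset.mem_filter.mp hi
      have hjk : C.j k = C.r * (a * C.r * a⁻¹) := by
        rw [he, r, j, E, E, E, ← map_mul]
        exact congrArg C.φ (Subtype.ext (by rw [← el_base] at hrk; exact hrk.symm))
      rw [← hjk, d, isConj_j_iff, hk]
      decide
  have heq : (Finset.univ.filter fun a : G => IsConj C.d (C.r * (a * C.r * a⁻¹))) =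
      six.biUnion fun i => Finset.univ.filter fun a : G => a * C.r * a⁻¹ = C.E (i, (0, 2)) := by
    ext a
    simp only [Finset.mem_filter, Finset.mem_univ, true_and, Finset.mem_biUnion, hiff]
  rw [heq, Finset.card_biUnion]
  · have hf : ∀ i ∈ six,
        (Finset.univ.filter fun a : G => a * C.r * a⁻¹ = C.E (i, (0, 2))).card = 9 := by
      intro i hi
      obtain ⟨c, hc⟩ := isConj_iff.mp (hmem i hi)
      rw [← card_centralizer_r hI, ← Fintype.card_subtype, ← Nat.card_eq_fintype_card]
      refine Nat.card_congr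
        { toFun := fun a => ⟨c⁻¹ * a, ?_⟩
          invFun := fun b => ⟨c * (b : G), ?_⟩
          left_inv := fun a => Subtype.ext (mul_inv_cancel_left _ _)
          right_inv := fun b => Subtype.ext (inv_mul_cancel_left _ _) }
      · rw [Subgroup.mem_centralizer_singleton_iff]
        calc c⁻¹ * (a : G) * C.r = c⁻¹ * ((a : G) * C.r * (a : G)⁻¹) * a := by group
          _ = c⁻¹ * (c * C.r * c⁻¹) * a := by rw [a.2, hc]
          _ = _ := by group
      · have h := Subgroup.mem_centralizer_singleton_iff.mp b.2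
        show c * (b : G) * C.r * (c * (b : G))⁻¹ = _
        rw [mul_assoc c, h, ← hc]
        group
    rw [Finset.sum_congr rfl hf, Finset.sum_const, six_card, smul_eq_mul]
  · intro i _ i' _ hne
    rw [Function.onFun, Finset.disjoint_left]
    intro a ha ha'
    rw [Finset.mem_filter] at ha ha'
    exact hne (Prod.ext_iff.mp (C.E_injective (ha.2.symm.trans ha'.2))).1

/-- The conjugates of `J` other than `J` fall into orbits of length divisible by three. -/
theorem index_mod (C : Cfg G) : (Subgroup.normalizer (C.J : Set G)).index % 3 = 1 := by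
  haveI : Fact (Nat.Prime 3) := ⟨Nat.prime_three⟩
  set N := Subgroup.normalizer (C.J : Set G) with hN
  have hp : IsPGroup 3 C.J := IsPGroup.of_card (p := 3) (n := 3) (by rw [C.card_J]; norm_num)
  have hfix : ∀ q : G ⧸ N, q ∈ MulAction.fixedPoints C.J (G ⧸ N) ↔ q = ((1 : G) : G ⧸ N) := by
    intro q
    constructor
    · intro hq
      induction q using QuotientGroup.induction_on with
      | H g =>
        set J' := C.J.map (MulAut.conj g⁻¹).toMonoidHom
        have hle : J' ≤ N := by
          rintro - ⟨x, hx, rfl⟩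
          have h1 : ((x * g : G) : G ⧸ N) = (g : G ⧸ N) := hq ⟨x, hx⟩
          have h2 : (g : G)⁻¹ * (x * g) ∈ N := QuotientGroup.eq.mp h1.symm
          show g⁻¹ * x * g⁻¹⁻¹ ∈ N
          simpa [mul_assoc] using h2
        have hJ'c : Nat.card J' = 27 := by
          rw [Subgroup.card_map_of_injective (MulEquiv.injective _), C.card_J]
        have hJ'p : IsPGroup 3 J' := hp.map _
        have hjoin : IsPGroup 3 (J' ⊔ C.J : Subgroup G) :=
          hJ'p.to_sup_of_normal_right' hp hle
        have he : J' = C.J := C.eq_J_of_isPGroup hjoin le_sup_right le_sup_left hJ'c (by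
          rintro - ⟨x, hx, rfl⟩ - ⟨y, hy, rfl⟩
          rw [← map_mul, ← map_mul, C.J_comm hx hy])
        refine QuotientGroup.eq.mpr ?_
        rw [mul_one]
        exact Subgroup.mem_normalizer_iff_map_conj_eq.mpr he
    · rintro rfl x
      show (((x : G) * 1 : G) : G ⧸ N) = _
      refine QuotientGroup.eq.mpr ?_
      rw [mul_one, mul_one]
      exact inv_mem (Subgroup.le_normalizer x.2)
  have h1 : Nat.card (MulAction.fixedPoints C.J (G ⧸ N)) = 1 := by
    rw [Nat.card_eq_one_iff_unique]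
    exact ⟨⟨fun a b => Subtype.ext (((hfix _).mp a.2).trans ((hfix _).mp b.2).symm)⟩,
      ⟨⟨_, (hfix _).mpr rfl⟩⟩⟩
  have h2 := hp.card_modEq_card_fixedPoints (G ⧸ N)
  rw [h1] at h2
  rw [Subgroup.index_eq_card]
  exact h2

/-- Without the fusion, `J` is normal. -/
theorem normalizer_eq_top (hI : ¬ IsConj C.r C.z) :
    Subgroup.normalizer (C.J : Set G) = ⊤ := by
  classical
  haveI := Fintype.ofFinite G
  haveI : Fintype (Cfsg.IrrCharacter G) := Fintype.ofFinite _
  haveI : Fact (Nat.Prime 3) := ⟨Nat.prime_three⟩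
  set N := Subgroup.normalizer (C.J : Set G) with hN
  have hd_rat := fun k hk => rational_three (x := C.d) d_pow isConj_d_pow k hk
  choose v hv hvc using fun χ : Cfsg.IrrCharacter G =>
    Values.exists_int_value χ (g := C.r) (j := 1) (by rw [pow_one]; exact C.r_pow)
      (rational_three C.r_pow C.isConj_r_pow)
  choose p hp hpc using fun χ : Cfsg.IrrCharacter G =>
    Values.exists_int_value χ (g := C.g true) (j := 2)
      ((C.E_pow_eq_one_iff _ _).mpr (ig_facts true).2.1) (rational_g true)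
  choose q hq hqc using fun χ : Cfsg.IrrCharacter G =>
    Values.exists_int_value χ (g := C.g false) (j := 2)
      ((C.E_pow_eq_one_iff _ _).mpr (ig_facts false).2.1) (rational_g false)
  choose w hw hwc using fun χ : Cfsg.IrrCharacter G =>
    Values.exists_int_value χ (g := C.d) (j := 1) (by rw [pow_one]; exact d_pow) hd_rat
  set dd : Cfsg.IrrCharacter G → ℤ := fun χ => (Cfsg.charDegree (χ : G → ℂ) : ℤ) with hdd
  have hd : ∀ χ : Cfsg.IrrCharacter G, (χ : G → ℂ) 1 = ((dd χ : ℤ) : ℂ) := fun χ => by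
    rw [(H80.ClassMult.deg_spec χ).2]; simp [dd]
  let o : Cfsg.IrrCharacter G := oneChar G
  have ho : ∀ x : G, (o : G → ℂ) x = 1 := fun x => oneChar_apply x
  -- orthogonality
  have orth : ∀ (f h : Cfsg.IrrCharacter G → ℤ) (x y : G) (n : ℕ),
      (∀ χ : Cfsg.IrrCharacter G, (χ : G → ℂ) x = f χ) →
      (∀ χ : Cfsg.IrrCharacter G, (χ : G → ℂ) y = h χ) →
      (if IsConj x y then (Nat.card (Subgroup.centralizer ({x} : Set G)) : ℂ) else 0) = n →
      ∑ χ, f χ * h χ = (n : ℤ) := by
    intro f h x y n hf hh hn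
    have h0 := sum_irr_mul_conj x y
    simp only [hf, hh, map_intCast] at h0
    by_cases hxy : IsConj x y
    · rw [if_pos hxy] at h0 hn
      rw [hn] at h0
      exact_mod_cast h0
    · rw [if_neg hxy] at h0 hn
      rw [hn] at h0
      exact_mod_cast h0
  have z9 : ∀ (b : Bool) {x : G}, x ^ 3 = 1 → ¬ IsConj x (C.g b) := fun b x hx h =>
    g_cube_ne b (pow_eq_one_of_isConj h hx)
  have one9 : ∀ {x : G}, x ≠ 1 → ¬ IsConj x 1 := fun hx h => hx (isConj_one_left.mp h)
  have g1 : ∀ b, C.g b ≠ 1 := fun b h => g_cube_ne b (by rw [h, one_pow])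
  have hndr : ¬ IsConj C.r C.d := fun h => C.d_not_isConj_r (i := (1, 1, 0)) (Or.inr rfl) h.symm
  have hbase := ArithI.index_le o v p q w dd
    (fun χ => by simpa [dd] using (H80.ClassMult.deg_spec χ).1)
    ⟨Int.cast_injective (α := ℂ) (by rw [← hv o, ho, Int.cast_one]),
      Int.cast_injective (α := ℂ) (by rw [← hp o, ho, Int.cast_one]),
      Int.cast_injective (α := ℂ) (by rw [← hq o, ho, Int.cast_one]),
      Int.cast_injective (α := ℂ) (by rw [← hw o, ho, Int.cast_one]),
      Int.cast_injective (α := ℂ) (by rw [← hd o, ho, Int.cast_one])⟩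
    (orth v v _ _ 9 hv hv (by rw [if_pos (IsConj.refl _), card_centralizer_r hI]))
    (orth p p _ _ 9 hp hp (by rw [if_pos (IsConj.refl _), card_centralizer_g]))
    (orth q q _ _ 9 hq hq (by rw [if_pos (IsConj.refl _), card_centralizer_g]))
    (orth w w _ _ 54 hw hw (by
      rw [if_pos (IsConj.refl _), d, C.card_centralizer_d]))
    (orth v p _ _ 0 hv hp (by rw [if_neg (z9 true C.r_pow), Nat.cast_zero]))
    (orth v q _ _ 0 hv hq (by rw [if_neg (z9 false C.r_pow), Nat.cast_zero]))
    (orth p q _ _ 0 hp hq (by rw [if_neg g_not_isConj, Nat.cast_zero]))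
    (orth v w _ _ 0 hv hw (by rw [if_neg hndr, Nat.cast_zero]))
    (orth p w _ _ 0 hp hw (by rw [if_neg fun h => z9 true d_pow h.symm, Nat.cast_zero]))
    (orth q w _ _ 0 hq hw (by rw [if_neg fun h => z9 false d_pow h.symm, Nat.cast_zero]))
    (orth v dd _ _ 0 hv hd (by rw [if_neg (one9 C.r_ne_one), Nat.cast_zero]))
    (orth p dd _ _ 0 hp hd (by rw [if_neg (one9 (g1 true)), Nat.cast_zero]))
    (orth q dd _ _ 0 hq hd (by rw [if_neg (one9 (g1 false)), Nat.cast_zero]))
    hpc hqc hvc
    N.index (Nat.pos_of_ne_zero Subgroup.index_ne_zero_of_finite) C.index_mod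
  have hG : Nat.card G = 648 * N.index := by
    rw [← C.card_normalizer_J, ← N.card_mul_index]
  have e1 : ∑ χ, (v χ : ℚ) * w χ * w χ / dd χ = 0 := by
    have h := Values.structure_sum C.r C.d C.d
    simp only [hv, hw, hd, map_intCast] at h
    rw [Finset.filter_eq_empty_iff.mpr fun a _ => no_first hI a, Finset.card_empty, Nat.cast_zero,
      zero_mul] at h
    have h' := (mul_eq_zero.mp h).resolve_left (Nat.cast_ne_zero.mpr Nat.card_pos.ne')
    apply Rat.cast_injective (α := ℂ)
    push_cast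
    exact h'
  have e2 : (648 * N.index : ℚ) * ∑ χ, (v χ : ℚ) * v χ * w χ / dd χ = 2916 := by
    have h := Values.structure_sum C.r C.r C.d
    simp only [hv, hw, hd, map_intCast] at h
    rw [count_second hI, show Nat.card (Subgroup.centralizer ({C.d} : Set G)) = 54 from
      C.card_centralizer_d, hG] at h
    apply Rat.cast_injective (α := ℂ)
    push_cast at h ⊢
    rw [h]; norm_num
  have hle := hbase e1 e2
  -- the kernel of the action on the cosets
  set K := N.normalCore with hK
  haveI : K.Normal := N.normalCore_normal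
  have hKN : K ≤ N := N.normalCore_le
  have hidx : ¬ 27 ∣ K.index := by
    intro h
    have h1 : K.index ∣ Nat.card (Equiv.Perm (G ⧸ N)) := by
      rw [hK, Subgroup.normalCore_eq_ker, Subgroup.index_ker]
      exact Subgroup.card_subgroup_dvd_card _
    rw [Nat.card_perm, ← Subgroup.index_eq_card] at h1
    have h2 := (h.trans h1).trans (Nat.factorial_dvd_factorial hle)
    norm_num [Nat.factorial] at h2
  have hJK : C.J ≤ K := by
    have hinf : C.J ⊓ K ≠ ⊥ := by
      intro hbot
      refine hidx ?_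
      rw [Subgroup.index_eq_card]
      have hinj : Function.Injective ((QuotientGroup.mk' K).comp C.J.subtype) := by
        rw [injective_iff_map_eq_one]
        intro x hx
        have hxK : (x : G) ∈ K := (QuotientGroup.eq_one_iff _).mp hx
        exact Subtype.ext (Subgroup.mem_bot.mp (hbot ▸ Subgroup.mem_inf.mpr ⟨x.2, hxK⟩))
      rw [← C.card_J]
      exact Subgroup.card_dvd_of_injective _ hinj
    obtain ⟨x, hx, hx1⟩ := (Subgroup.bot_or_exists_ne_one _).resolve_left hinf
    obtain ⟨i, rfl⟩ := C.exists_j (Subgroup.mem_inf.mp hx).1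
    have hxK := (Subgroup.mem_inf.mp hx).2
    have hi : i ≠ (0, 0, 0) := by
      rintro rfl
      refine hx1 ?_
      rw [j, E]
      exact (map_eq_one_iff _ C.inj).mpr (Subtype.ext (by simpa [el_base] using jel_gen.2.2.2))
    have hclosed : ∀ {u v : G}, IsConj u v → u ∈ K → v ∈ K := by
      intro u v h hu
      obtain ⟨c, rfl⟩ := isConj_iff.mp h
      exact Subgroup.Normal.conj_mem inferInstance u hu c
    have hmul : ∀ a b : Fin 3 × Fin 3 × Fin 3, ∀ c, jel a * jel b = jel c →
        C.j a ∈ K → C.j b ∈ K → C.j c ∈ K := by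
      intro a b c h ha hb
      have : C.j a * C.j b = C.j c := by
        rw [j, j, j, C.E_mul]
        rw [el_base, el_base, el_base, h]
      exact this ▸ mul_mem ha hb
    have hone : ∀ a, typ a = typ i → C.j a ∈ K := fun a h =>
      hclosed ((C.isConj_j_iff i a).mpr h.symm) hxK
    have h1 : C.j (1, 0, 0) ∈ K := by
      have hcases : ∀ i, i ≠ (0, 0, 0) → typ i = 1 ∨ typ i = 2 ∨ typ i = 3 := by decide +kernel
      rcases hcases i hi with h | h | h
      · exact hone _ (by rw [h]; decide)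
      · have h2 := hmul (1, 1, 0) (1, 2, 0) (2, 0, 0) (by decide +kernel)
          (hone _ (by rw [h]; decide)) (hone _ (by rw [h]; decide))
        exact hclosed ((C.isConj_j_iff _ _).mpr (by decide)) h2
      · have h2 := hmul (1, 1, 1) (1, 1, 2) (2, 2, 0) (by decide +kernel)
          (hone _ (by rw [h]; decide)) (hone _ (by rw [h]; decide))
        have h3 := hmul (1, 1, 1) (1, 2, 1) (2, 0, 2) (by decide +kernel)
          (hone _ (by rw [h]; decide)) (hone _ (by rw [h]; decide))
        have h4 := hmul (2, 2, 0) (2, 0, 2) (1, 2, 2) (by decide +kernel) h2 h3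
        have h5 := hmul (1, 2, 2) (1, 1, 1) (2, 0, 0) (by decide +kernel) h4
          (hone _ (by rw [h]; decide))
        exact hclosed ((C.isConj_j_iff _ _).mpr (by decide)) h5
    have hone' : ∀ a, typ a = 1 → C.j a ∈ K := fun a h =>
      hclosed ((C.isConj_j_iff (1, 0, 0) a).mpr (by rw [h]; decide)) h1
    intro y hy
    obtain ⟨k, rfl⟩ := C.exists_j hy
    have h0 : C.j (0, 0, 0) ∈ K := by
      rw [show C.j (0, 0, 0) = 1 by
        rw [j, E]; exact (map_eq_one_iff _ C.inj).mpr (Subtype.ext (by simpa [el_base] using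
          jel_gen.2.2.2))]
      exact one_mem K
    have hax : ∀ a : Fin 3 × Fin 3 × Fin 3, (typ a = 0 ∨ typ a = 1) → C.j a ∈ K := by
      rintro a (h | h)
      · have : a = (0, 0, 0) := (by decide +kernel : ∀ a, typ a = 0 → a = (0, 0, 0)) a h
        exact this ▸ h0
      · exact hone' a h
    obtain ⟨k1, k2, k3⟩ := k
    refine hmul (k1, k2, 0) (0, 0, k3) _ ?_ (hmul (k1, 0, 0) (0, k2, 0) _ ?_ (hax _ ?_) (hax _ ?_))
      (hax _ ?_)
    · exact (by decide +kernel : ∀ x y z : Fin 3,
        jel (x, y, 0) * jel (0, 0, z) = jel (x, y, z)) k1 k2 k3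
    · exact (by decide +kernel : ∀ x y : Fin 3, jel (x, 0, 0) * jel (0, y, 0) = jel (x, y, 0)) k1 k2
    · exact (by decide +kernel : ∀ x : Fin 3, typ (x, 0, 0) = 0 ∨ typ (x, 0, 0) = 1) k1
    · exact (by decide +kernel : ∀ x : Fin 3, typ (0, x, 0) = 0 ∨ typ (0, x, 0) = 1) k2
    · exact (by decide +kernel : ∀ x : Fin 3, typ (0, 0, x) = 0 ∨ typ (0, 0, x) = 1) k3
  -- every conjugate of `J` is `J`
  rw [eq_top_iff]
  intro g _
  rw [hN, Subgroup.mem_normalizer_iff_map_conj_eq]
  set J' := C.J.map (MulAut.conj g).toMonoidHom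
  have hJ'K : J' ≤ N := by
    rintro - ⟨x, hx, rfl⟩
    exact hKN (Subgroup.Normal.conj_mem inferInstance x (hJK hx) g)
  have hp3 : IsPGroup 3 C.J := IsPGroup.of_card (p := 3) (n := 3) (by rw [C.card_J]; norm_num)
  exact C.eq_J_of_isPGroup ((hp3.map _).to_sup_of_normal_right' hp3 hJ'K) le_sup_right le_sup_left
    (by rw [Subgroup.card_map_of_injective (MulEquiv.injective _), C.card_J]) (by
      rintro - ⟨x, hx, rfl⟩ - ⟨y, hy, rfl⟩
      rw [← map_mul, ← map_mul, C.J_comm hx hy])

end Cfg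

end Cfsg.Agent.Lib.A9Norm79
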