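import Cfsg.Agent.Lib.A9Norm79.VirtualII
import Cfsg.Agent.Lib.A9Norm79.Values

/-!
# Classes and triangle counts in the fused configuration with small centralisers
-/

set_option autoImplicit false

namespace Cfsg.Agent.Lib.A9Norm79

open Model ModelII Cfsg.Agent.Lib.Characters.Basic

universe u

namespace ModelII

theorem rep_special : rep 1 = ir ∧ rep 13 = ((1, 1, 1), (0, 0)) ∧ rep 0 = oneW ∧
    rep (sg 8) = rep 13 := by decide +kernel

theorem rep_t : ∀ t : Fin 3, rep (sg (tq t)) = (uq (tq t), (0, 0)) := by decide +kernel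

theorem rep_regular : ∀ c : Fin 14, c ≠ 1 → (∃ q, c = sg q) ∨
    powW (rep c) 3 ≠ oneW ∨ rep c = oneW := by decide +kernel

theorem t_distinct : ∀ t s : Fin 3, typ (uq (tq t)) = typ (uq (tq s)) → t = s := by decide +kernel

theorem triples_mixed : ∀ e, (triples e).1 ≠ 2 ∧
    ((triples e).1 ≠ (triples e).2.1 ∨ (triples e).1 ≠ (triples e).2.2) := by decide +kernel

theorem three_in_J : ∀ t : Fin 3, t ≠ 2 → ∀ k : Fin 4 × Fin 6, k ≠ (0, 0) →
    act k (uq (tq t)) = uq (tq t) → ∀ i : V3, powW (i, k) 3 ≠ oneW := by decide +kernel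

theorem typ_cases : ∀ i : V3, i ≠ (0, 0, 0) →
    ∃ t, typ i = typ (uq (tq t)) := by decide +kernel

theorem sq_typ : ∀ i : V3, typ (i + i) = typ i := by decide +kernel

end ModelII

namespace Cfg

variable {G : Type u} [Group G] [Finite G] (C : Cfg G)

/-- The element of the class. -/
def el9 (q : Fin 9) : G := C.E (rep (sg q))

theorem el9_t (t : Fin 3) : C.el9 (tq t) = C.j (uq (tq t)) := by
  rw [el9, rep_t]; rfl

theorem el9_pow (q : Fin 9) : C.el9 q ^ exq q = C.j (uq q) := by
  rw [el9, ← E_powW, (uq_spec q).1]; rfl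

theorem j_ne_one {i : V3} (hi : i ≠ (0, 0, 0)) : C.j i ≠ 1 := fun h => hi
  (C.j_injective (h.trans (by
    rw [j, show ((((0, 0, 0) : V3), ((0, 0) : Fin 4 × Fin 6)) : W) = oneW from rfl, E_oneW])))

theorem el9_ne_one (q : Fin 9) : C.el9 q ≠ 1 := fun h =>
  C.j_ne_one (uq_spec q).2 (by rw [← el9_pow, h, one_pow])

theorem conj_mem_normalizer_iff {n : G} (hn : n ∈ Subgroup.normalizer (C.J : Set G)) {x y : G}
    (h : n * x * n⁻¹ = y) (hx : Subgroup.centralizer ({x} : Set G) ≤
      Subgroup.normalizer (C.J : Set G)) :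
    Subgroup.centralizer ({y} : Set G) ≤ Subgroup.normalizer (C.J : Set G) := by
  intro g hg
  have hg' : n⁻¹ * g * n ∈ Subgroup.centralizer ({x} : Set G) := by
    rw [Subgroup.mem_centralizer_singleton_iff]
    have e := Subgroup.mem_centralizer_singleton_iff.mp hg
    rw [← h] at e
    calc n⁻¹ * g * n * x = n⁻¹ * (g * (n * x * n⁻¹)) * n := by group
      _ = n⁻¹ * (n * x * n⁻¹ * g) * n := by rw [e]
      _ = _ := by group
  have := mul_mem (mul_mem hn (hx hg')) (inv_mem hn)
  simpa [mul_assoc] using this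

theorem centralizer_j_le (hA : Subgroup.centralizer ({C.j (1, 0, 0)} : Set G) ≤
      Subgroup.normalizer (C.J : Set G)) {i : V3} (hi : i ≠ (0, 0, 0)) :
    Subgroup.centralizer ({C.j i} : Set G) ≤ Subgroup.normalizer (C.J : Set G) := by
  obtain ⟨t, ht⟩ := typ_cases i hi
  obtain ⟨k, hk⟩ := conj_of_typ _ _ ht.symm
  have hconj : C.E ((0, 0, 0), k) * C.j (uq (tq t)) * (C.E ((0, 0, 0), k))⁻¹ = C.j i := by
    rw [mul_inv_eq_iff_eq_mul, j, j, E, E, E, ← map_mul, ← map_mul]
    refine congrArg C.φ (Subtype.ext ?_)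
    show el _ * el _ = el _ * el _
    rw [el_base, el_base]
    simpa [el, jel] using hk
  refine C.conj_mem_normalizer_iff (C.E_mem _) hconj ?_
  obtain rfl | rfl | rfl := (by decide : ∀ t : Fin 3, t = 0 ∨ t = 1 ∨ t = 2) t
  · exact hA
  · exact C.centralizer_typ_two_le (i := (1, 1, 0)) rfl
  · show Subgroup.centralizer ({C.j (1, 1, 1)} : Set G) ≤ _
    rw [C.centralizer_z]
    exact C.S_le

variable (hA : Subgroup.centralizer ({C.j (1, 0, 0)} : Set G) ≤
  Subgroup.normalizer (C.J : Set G))

include hA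

theorem centralizer_el9_le (q : Fin 9) :
    Subgroup.centralizer ({C.el9 q} : Set G) ≤ Subgroup.normalizer (C.J : Set G) := by
  refine le_trans (fun g hg => ?_) (C.centralizer_j_le hA (uq_spec q).2)
  rw [Subgroup.mem_centralizer_singleton_iff, ← el9_pow]
  exact (Commute.pow_right (Subgroup.mem_centralizer_singleton_iff.mp hg) _).eq

theorem card_centralizer_el9 (q : Fin 9) :
    Nat.card (Subgroup.centralizer ({C.el9 q} : Set G)) = cw q := by
  classical
  have hiff : ∀ v : W, C.E v ∈ Subgroup.centralizer ({C.el9 q} : Set G) ↔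
      mulW v (rep (sg q)) = mulW (rep (sg q)) v := fun v => by
    rw [Subgroup.mem_centralizer_singleton_iff, el9, ← E_mulW, ← E_mulW, C.E_injective.eq_iff]
  have hbij : Function.Bijective
      (fun v : {w : W // w ∈ Finset.univ.filter fun w : W =>
        mulW w (rep (sg q)) = mulW (rep (sg q)) w} =>
      (⟨C.E v.1, (hiff _).mpr (Finset.mem_filter.mp v.2).2⟩ :
          Subgroup.centralizer ({C.el9 q} : Set G))) := by
    refine ⟨fun v v' e => Subtype.ext (C.E_injective (congrArg Subtype.val e)), fun x => ?_⟩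
    obtain ⟨w, hw⟩ := C.exists_E (C.centralizer_el9_le hA q x.2)
    exact ⟨⟨w, Finset.mem_filter.mpr ⟨Finset.mem_univ _, (hiff w).mp (hw ▸ x.2)⟩⟩, Subtype.ext hw⟩
  rw [← Nat.card_congr (Equiv.ofBijective _ hbij), Nat.card_eq_finsetCard, cent_count]

theorem el9_eq_of_isConj {q q' : Fin 9} (h : IsConj (C.el9 q) (C.el9 q')) : q = q' := by
  by_contra hne
  obtain ⟨c, hc⟩ := isConj_iff.mp h
  rcases separated q q' hne with ⟨n, -, hn⟩ | ⟨he, hsep⟩
  · apply hn
    rw [← C.E_injective.eq_iff, ← C.E_injective.eq_iff (b := oneW), E_powW, E_powW, E_oneW]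
    show C.el9 q ^ n = 1 ↔ C.el9 q' ^ n = 1
    rw [← hc, conj_pow, conj_eq_one_iff]
  · have hc' : c * C.j (uq q) * c⁻¹ = C.j (uq q') := by
      rw [← el9_pow, ← el9_pow, ← hc, conj_pow, he]
    rcases hsep with hsep | ⟨hu, hsep⟩
    · exact hsep ((C.isConj_j_iff _ _).mp (isConj_iff.mpr ⟨c, hc'⟩))
    · rw [← hu, mul_inv_eq_iff_eq_mul] at hc'
      obtain ⟨v, rfl⟩ := C.exists_E (C.centralizer_j_le hA (uq_spec q).2
        (Subgroup.mem_centralizer_singleton_iff.mpr hc'))
      refine hsep v (C.E_injective ?_) (C.E_injective ?_)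
      · rw [E_mulW, E_mulW]; exact hc'
      · rw [E_mulW, E_mulW]; exact mul_inv_eq_iff_eq_mul.mp hc

/-- Membership of a model element in one of the three classes of `J`. -/
theorem isConj_t_iff (hII : IsConj C.r C.z) (w : W) (s : Fin 3) :
    IsConj (C.E w) (C.el9 (tq s)) ↔ fuse (cls w) = sg (tq s) := by
  have h1 : IsConj (C.E w) (C.E (rep (fuse (cls w)))) := by
    refine (C.isConj_cls w).trans ?_
    unfold fuse
    split
    · rename_i h
      rw [h, rep_special.1, rep_special.2.1]
      exact hII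
    · exact IsConj.refl _
  constructor
  · intro h
    have h2 := h1.symm.trans h
    have hne : fuse (cls w) ≠ 1 := by
      unfold fuse; split
      · decide
      · assumption
    rcases rep_regular _ hne with ⟨q, hq⟩ | h3 | h3
    · rw [hq] at h2 ⊢
      rw [C.el9_eq_of_isConj hA h2]
    · refine absurd (C.E_injective ?_) h3
      rw [E_powW, E_oneW]
      obtain ⟨c, hc⟩ := isConj_iff.mp h2.symm
      rw [← hc, conj_pow, el9_t, C.J_pow _ (C.j_mem _)]
      group
    · rw [h3, E_oneW] at h2
      exact absurd (isConj_one_right.mp h2) (C.el9_ne_one _)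
  · intro h
    rw [h] at h1
    exact h1

open scoped Classical in
/-- The structure constants. -/
theorem count_triangle [Fintype G] (hII : IsConj C.r C.z) (e : Fin 7) :
    (Finset.univ.filter fun a : G => IsConj (C.el9 (tq (triples e).2.2))
      (C.el9 (tq (triples e).1) * (a * C.el9 (tq (triples e).2.1) * a⁻¹))).card =
    pairCount (triples e).1 (triples e).2.1 (triples e).2.2 * cw (tq (triples e).2.1) := by
  have hmix := triples_mixed e
  generalize (triples e).1 = t, (triples e).2.1 = s, (triples e).2.2 = k at hmix ⊢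
  set x := C.el9 (tq t) with hxdef
  set y := C.el9 (tq s) with hydef
  set z := C.el9 (tq k) with hzdef
  have hcube : ∀ t, C.el9 (tq t) ^ 3 = 1 := fun t => by rw [el9_t, C.J_pow _ (C.j_mem _)]
  have hpow : ∀ {u v : G}, IsConj u v → u ^ 3 = 1 → v ^ 3 = 1 := by
    intro u v h hu
    obtain ⟨c, rfl⟩ := isConj_iff.mp h
    rw [conj_pow, hu]
    group
  set U := Finset.univ.filter fun w : W => fuse (cls w) = sg (tq s) ∧
    fuse (cls (mulW (uq (tq t), (0, 0)) w)) = sg (tq k) with hU
  have hx : ∀ w, C.E (mulW (uq (tq t), (0, 0)) w) = x * C.E w := fun w => by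
    rw [E_mulW, hxdef, el9, rep_t]
  have hiff : ∀ a : G, IsConj z (x * (a * y * a⁻¹)) ↔ ∃ w ∈ U, a * y * a⁻¹ = C.E w := by
    intro a
    constructor
    · intro h
      have hy' : (a * y * a⁻¹) ^ 3 = 1 := hpow (isConj_iff.mpr ⟨a, rfl⟩) (hcube s)
      rcases Triangle.exists_central_or_conj (hcube t) hy' (hpow h (hcube k)) with
        ⟨f, hf3, hf1, hxf, hyf⟩ | ⟨h1, h2⟩
      · obtain ⟨v, rfl⟩ := C.exists_E (C.centralizer_el9_le hA (tq t)
          (Subgroup.mem_centralizer_singleton_iff.mpr hxf.eq.symm))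
        have hv : v.2 = (0, 0) := by
          by_contra hv
          refine three_in_J t hmix.1 v.2 hv ?_ v.1 (C.E_injective ?_)
          · have he : mulW v (uq (tq t), (0, 0)) = mulW (uq (tq t), (0, 0)) v :=
              C.E_injective (by rw [E_mulW, E_mulW, ← rep_t]; exact hxf.eq.symm)
            have h1 := congrArg Prod.fst he
            simp only [mulW] at h1
            have hact : ∀ i : V3, act (0, 0) i = i := by decide +kernel
            rw [hact, add_comm] at h1
            exact add_right_cancel h1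
          · rw [E_powW, E_oneW]; exact hf3
        have hv1 : v.1 ≠ (0, 0, 0) := fun h0 => hf1 (by
          rw [show v = oneW from Prod.ext h0 hv, E_oneW])
        obtain ⟨w, hw⟩ := C.exists_E (C.centralizer_j_le hA hv1
          (show a * y * a⁻¹ ∈ Subgroup.centralizer ({C.j v.1} : Set G) by
            rw [Subgroup.mem_centralizer_singleton_iff, j,
              show ((v.1, (0, 0)) : W) = v from Prod.ext rfl hv.symm]
            exact hyf.eq))
        refine ⟨w, ?_, hw.symm⟩
        rw [hU, Finset.mem_filter]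
        refine ⟨Finset.mem_univ _, (C.isConj_t_iff hA hII w s).mp ?_,
          (C.isConj_t_iff hA hII _ k).mp ?_⟩
        · rw [hw]; exact (isConj_iff.mpr ⟨a, rfl⟩).symm
        · rw [hx, hw]; exact h.symm
      · exfalso
        have hts : typ (uq (tq t)) = typ (uq (tq s)) := (C.isConj_j_iff _ _).mp (by
          rw [← el9_t, ← el9_t]; exact h1.trans (isConj_iff.mpr ⟨a, rfl⟩).symm)
        have hsq : x * x = C.j (uq (tq t) + uq (tq t)) := by
          rw [hxdef, el9_t, j, j, ← E_mulW]
          refine congrArg C.E ?_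
          have hact : ∀ i : V3, act (0, 0) i = i := by decide +kernel
          rw [mulW, hact, show kmul ((uq (tq t), (0, 0)) : W).2 ((uq (tq t), (0, 0)) : W).2 = (0, 0) from
            (by decide +kernel : kmul (0, 0) (0, 0) = (0, 0))]
        have htk : typ (uq (tq t)) = typ (uq (tq k)) := by
          rw [← sq_typ]
          refine (C.isConj_j_iff _ _).mp ?_
          rw [← hsq, ← el9_t]
          exact h2.trans h.symm
        rcases hmix.2 with h' | h'
        · exact h' (t_distinct _ _ hts)
        · exact h' (t_distinct _ _ htk)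
    · rintro ⟨w, hw, he⟩
      rw [hU, Finset.mem_filter] at hw
      rw [he, ← hx]
      exact ((C.isConj_t_iff hA hII _ k).mpr hw.2.2).symm
  have heq : (Finset.univ.filter fun a : G => IsConj z (x * (a * y * a⁻¹))) =
      U.biUnion fun w => Finset.univ.filter fun a : G => a * y * a⁻¹ = C.E w := by
    ext a
    simp only [Finset.mem_filter, Finset.mem_univ, true_and, Finset.mem_biUnion, hiff]
  have hf : ∀ w ∈ U, (Finset.univ.filter fun a : G => a * y * a⁻¹ = C.E w).card = cw (tq s) := by
    intro w hw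
    rw [hU, Finset.mem_filter] at hw
    obtain ⟨c, hc⟩ := isConj_iff.mp ((C.isConj_t_iff hA hII w s).mpr hw.2.1).symm
    replace hc : c * y * c⁻¹ = C.E w := hc
    rw [← C.card_centralizer_el9 hA (tq s), ← Fintype.card_subtype, ← Nat.card_eq_fintype_card]
    refine Nat.card_congr
      { toFun := fun a => ⟨c⁻¹ * a, ?_⟩
        invFun := fun b => ⟨c * (b : G), ?_⟩
        left_inv := fun a => Subtype.ext (mul_inv_cancel_left _ _)
        right_inv := fun b => Subtype.ext (inv_mul_cancel_left _ _) }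
    · rw [Subgroup.mem_centralizer_singleton_iff]
      calc c⁻¹ * (a : G) * y = c⁻¹ * ((a : G) * y * (a : G)⁻¹) * a := by group
        _ = c⁻¹ * (c * y * c⁻¹) * a := by rw [a.2, hc]
        _ = _ := by group; rfl
    · have h := Subgroup.mem_centralizer_singleton_iff.mp b.2
      show c * (b : G) * y * (c * (b : G))⁻¹ = _
      rw [mul_assoc c, h, ← hc]
      group
      rfl
  rw [heq, Finset.card_biUnion, Finset.sum_congr rfl hf, Finset.sum_const, smul_eq_mul]
  · rfl
  · intro w _ w' _ hne
    rw [Function.onFun, Finset.disjoint_left]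
    intro a ha ha'
    rw [Finset.mem_filter] at ha ha'
    exact hne (C.E_injective (ha.2.symm.trans ha'.2))

end Cfg

end Cfsg.Agent.Lib.A9Norm79
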