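import Cfsg.Agent.Lib.A9Norm79.CaseI
import Cfsg.Agent.Lib.A9Norm79.ClassesII
import Cfsg.Agent.Lib.A9Norm79.ArithII

/-!
# The fused configuration has a centraliser outside `N(J)`
-/

set_option autoImplicit false

namespace Cfsg.Agent.Lib.A9Norm79

open Model ModelII Cfsg.Agent.Lib.Characters.Basic Cfsg.Agent.Lib.Characters.Complete
open scoped ComplexConjugate

universe u

namespace ModelII

/-- The steps in recursive form. -/
def stepsAux : List (Fin 9) → List (Fin 9) → List Enum.Step
  | _, [] => []
  | pre, i :: l => ⟨gram i i, triv i, pre.map fun k => gram i k⟩ :: stepsAux (pre ++ [i]) l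

theorem steps_eq : steps = stepsAux [] (List.finRange 9) := by
  have h : (steps.map fun s => (s.N, s.t, s.need)) =
      (stepsAux [] (List.finRange 9)).map fun s => (s.N, s.t, s.need) := by decide +kernel
  exact List.map_injective_iff.mpr
    (fun a b e => by cases a; cases b; simp only [Prod.mk.injEq] at e; simp [e]) h

theorem fits_of_gram {ι : Type*} [Fintype ι] (o : ι) (f : Fin 9 → ι → ℤ)
    (hg : ∀ i k, ∑ χ, f i χ * f k χ = gram i k) (ht : ∀ i, f i o = triv i) :
    ∀ l pre, Enum.Fits o (pre.map f) (l.map f) (stepsAux pre l)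
  | [], pre => trivial
  | i :: l, pre => by
    refine ⟨hg i i, ht i, ?_, ?_⟩
    · rw [List.map_map]
      exact List.map_congr_left fun k _ => (hg i k).symm
    · have h := fits_of_gram o f hg ht l (pre ++ [i])
      rwa [List.map_append] at h

theorem sum_range_getD {α M : Type*} [AddCommMonoid M] (Φ : α → M) (d : α) : ∀ l : List α,
    ∑ j ∈ Finset.range l.length, Φ (l.getD j d) = (l.map Φ).sum
  | [] => by simp
  | a :: l => by
    rw [List.length_cons, Finset.sum_range_succ']
    simp only [List.getD_cons_succ, List.getD_cons_zero, List.map_cons, List.sum_cons]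
    rw [sum_range_getD Φ d l, add_comm]

end ModelII

namespace Cfg

variable {G : Type u} [Group G] [Finite G] (C : Cfg G)

theorem el9_last : C.el9 (tq 2) = C.z := by rw [el9_t]; rfl

open scoped Classical in
/-- Fusion of the cycling element and a centraliser of order `108` do not go together. -/
theorem not_centralizer_a_le (hII : IsConj C.r C.z) :
    ¬ Subgroup.centralizer ({C.j (1, 0, 0)} : Set G) ≤ Subgroup.normalizer (C.J : Set G) := by
  intro hA
  haveI := Fintype.ofFinite G
  haveI : Fintype (Cfsg.IrrCharacter G) := Fintype.ofFinite _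
  choose R hR using fun (χ : Cfsg.IrrCharacter G) (i : Fin 9) => C.exists_raw χ i
  choose va hva hvac using fun χ : Cfsg.IrrCharacter G =>
    Values.exists_int_value χ (g := C.z) (j := 1) (by rw [pow_one]; exact C.J_pow _ (C.j_mem _))
      (rational_three (C.J_pow _ (C.j_mem _)) (C.z_pow_cases 2 (by decide)).symm)
  have hr : C.E (rep 1) = C.r := by rw [rep_special.1]; rfl
  set f : Fin 9 → Cfsg.IrrCharacter G → ℤ := fun i χ => R χ i - fusedCoef i * va χ with hfdef
  set α : Fin 9 → Fin 9 → ℂ :=
    fun i q => ((val i (sg q)).1 : ℂ) + (val i (sg q)).2 * s3 with hαdef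
  have hf : ∀ (i : Fin 9) (χ : Cfsg.IrrCharacter G),
      (648 : ℂ) * f i χ = ∑ q, α i q * conj ((χ : G → ℂ) (C.el9 q)) := by
    intro i χ
    have hsum := hR χ i
    simp only [Fin.sum_univ_succ (n := 13), Fin.sum_univ_succ (n := 12),
      Fin.sum_univ_succ (n := 11), Fin.sum_univ_succ (n := 10), Fin.sum_univ_succ (n := 9)] at hsum
    obtain ⟨v0, v1, v2, v3, v4⟩ := val_regular i
    have e1 : (Fin.succ 0 : Fin 14) = 1 := rfl
    have e2 : (Fin.succ (Fin.succ 0) : Fin 14) = 2 := rfl
    have e3 : (Fin.succ (Fin.succ (Fin.succ 0)) : Fin 14) = 3 := rfl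
    have e4 : (Fin.succ (Fin.succ (Fin.succ (Fin.succ 0))) : Fin 14) = 4 := rfl
    rw [e1, e2, e3, e4, v0, v1, v2, v3, v4, hr,
      classFunction_apply_of_isConj (isClassFunction_irr χ) hII, hva χ] at hsum
    simp only [map_intCast, Prod.fst_zero, Prod.snd_zero, Int.cast_zero, zero_mul, add_zero,
      zero_add] at hsum
    rw [show f i χ = R χ i - fusedCoef i * va χ from rfl]
    push_cast at hsum ⊢
    rw [mul_sub, hsum, ← mul_assoc, add_sub_cancel_left]
    rfl
  have hconj : ∀ i q, conj (α i q) = α i q := fun i q => by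
    simp [hαdef, conj_s3]
  have hf' : ∀ (i : Fin 9) (χ : Cfsg.IrrCharacter G),
      (648 : ℂ) * f i χ = ∑ q, α i q * (χ : G → ℂ) (C.el9 q) := fun i χ => by
    have h := congrArg conj (hf i χ)
    rw [map_mul, map_intCast, map_sum, map_ofNat] at h
    rw [h]
    exact Finset.sum_congr rfl fun q _ => by rw [map_mul, hconj, Complex.conj_conj]
  have horth : ∀ q q', ∑ χ : Cfsg.IrrCharacter G,
      (χ : G → ℂ) (C.el9 q) * conj ((χ : G → ℂ) (C.el9 q')) =
        if q = q' then (cw q : ℂ) else 0 := fun q q' => by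
    rw [sum_irr_mul_conj]
    by_cases h : q = q'
    · subst h; rw [if_pos (IsConj.refl _), if_pos rfl, C.card_centralizer_el9 hA]
    · rw [if_neg h, if_neg fun hc => h (C.el9_eq_of_isConj hA hc)]
  have hgram : ∀ i k, ∑ χ : Cfsg.IrrCharacter G, f i χ * f k χ = gram i k := by
    intro i k
    apply Int.cast_injective (α := ℂ)
    push_cast
    have h : (648 : ℂ) * 648 * ∑ χ : Cfsg.IrrCharacter G, (f i χ : ℂ) * f k χ =
        ∑ q, α i q * α k q * cw q := by
      calc _ = ∑ χ : Cfsg.IrrCharacter G, ((648 : ℂ) * f i χ) * ((648 : ℂ) * f k χ) := by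
            rw [Finset.mul_sum]; exact Finset.sum_congr rfl fun χ _ => by ring
        _ = ∑ q, ∑ q', α i q * α k q' * ∑ χ : Cfsg.IrrCharacter G,
              (χ : G → ℂ) (C.el9 q) * conj ((χ : G → ℂ) (C.el9 q')) := by
            simp only [hf' i, hf k, Finset.sum_mul_sum]
            rw [Finset.sum_comm]
            refine Finset.sum_congr rfl fun q _ => ?_
            rw [Finset.sum_comm]
            refine Finset.sum_congr rfl fun q' _ => ?_
            rw [Finset.mul_sum]
            exact Finset.sum_congr rfl fun χ _ => by ring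
        _ = _ := by simp [horth]
    have hmul : ∀ q, α i q * α k q * cw q =
        ((((val i (sg q)).1 * (val k (sg q)).1 + 3 * (val i (sg q)).2 * (val k (sg q)).2) *
          (cw q : ℤ) : ℤ) : ℂ) +
        ((((val i (sg q)).1 * (val k (sg q)).2 + (val i (sg q)).2 * (val k (sg q)).1) *
          (cw q : ℤ) : ℤ) : ℂ) * s3 := fun q => by
      simp only [hαdef]
      push_cast
      linear_combination ((val i (sg q)).2 : ℂ) * (val k (sg q)).2 * (cw q : ℂ) * s3_sq
    simp only [hmul, Finset.sum_add_distrib, ← Finset.sum_mul, ← Int.cast_sum] at h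
    rw [(gram_spec i k).1, (gram_spec i k).2] at h
    push_cast at h
    linear_combination h / (648 * 648)
  let o : Cfsg.IrrCharacter G := oneChar G
  have ho : ∀ i, f i o = triv i := by
    intro i
    apply Int.cast_injective (α := ℂ)
    have h := hf i o
    simp only [o, oneChar_apply, map_one, mul_one, hαdef, Finset.sum_add_distrib,
      ← Finset.sum_mul, ← Int.cast_sum] at h
    rw [(triv_spec i).1, (triv_spec i).2] at h
    push_cast at h
    linear_combination h / 648
  set dd : Cfsg.IrrCharacter G → ℤ := fun χ => (Cfsg.charDegree (χ : G → ℂ) : ℤ) with hdd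
  have hd : ∀ χ : Cfsg.IrrCharacter G, (χ : G → ℂ) 1 = ((dd χ : ℤ) : ℂ) := fun χ => by
    rw [(H80.ClassMult.deg_spec χ).2]; simp [dd]
  have hdeg : ∀ i, ∑ χ : Cfsg.IrrCharacter G, f i χ * dd χ = 0 := by
    intro i
    apply Int.cast_injective (α := ℂ)
    push_cast
    have h : (648 : ℂ) * ∑ χ : Cfsg.IrrCharacter G, (f i χ : ℂ) * dd χ = 0 := by
      simp only [Finset.mul_sum, ← mul_assoc, hf' i, Finset.sum_mul]
      rw [Finset.sum_comm]
      refine Finset.sum_eq_zero fun q _ => ?_
      simp only [mul_assoc, ← Finset.mul_sum]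
      have h1 := sum_irr_mul_conj (C.el9 q) (1 : G)
      simp only [hd, map_intCast] at h1
      rw [h1, if_neg fun hc => C.el9_ne_one q (isConj_one_left.mp hc), mul_zero]
    exact (mul_eq_zero.mp h).resolve_left (by norm_num)
  set v : Fin 3 → Cfsg.IrrCharacter G → ℤ := fun t χ => ∑ i, back t i * f i χ with hvdef
  have hv : ∀ t (χ : Cfsg.IrrCharacter G), (χ : G → ℂ) (C.el9 (tq t)) = v t χ := by
    intro t χ
    have h : (648 : ℂ) * ((v t χ : ℤ) : ℂ) = 648 * (χ : G → ℂ) (C.el9 (tq t)) := by
      calc _ = ∑ i, (back t i : ℂ) * ((648 : ℂ) * f i χ) := by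
            simp only [hvdef, Int.cast_sum, Int.cast_mul, Finset.mul_sum]
            exact Finset.sum_congr rfl fun i _ => by ring
        _ = ∑ q, (∑ i, (back t i : ℂ) * α i q) * (χ : G → ℂ) (C.el9 q) := by
            simp only [hf', Finset.mul_sum, Finset.sum_mul]
            rw [Finset.sum_comm]
            exact Finset.sum_congr rfl fun q _ => Finset.sum_congr rfl fun i _ => by ring
        _ = _ := by
            have h2 : ∀ q, ∑ i, (back t i : ℂ) * α i q = if q = tq t then 648 else 0 := by
              intro q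
              simp only [hαdef, mul_add, Finset.sum_add_distrib, ← mul_assoc, ← Finset.sum_mul,
                ← Int.cast_mul, ← Int.cast_sum]
              rw [(back_spec t q).1, (back_spec t q).2]
              split <;> simp
            simp [h2, ite_mul]
    exact (mul_left_cancel₀ (by norm_num) h).symm
  have hv2 : ∀ χ, (3 : ℤ) ∣ v 2 χ - dd χ := fun χ => by
    have : v 2 χ = va χ := Int.cast_injective (α := ℂ) (by rw [← hv, el9_last, hva])
    rw [this]; exact hvac χ
  have hdne : ∀ χ, dd χ ≠ 0 := fun χ => by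
    simpa [dd] using (H80.ClassMult.deg_spec χ).1.ne'
  have htri : ∀ e, (Nat.card G : ℚ) * ∑ χ : Cfsg.IrrCharacter G,
      (v (triples e).1 χ : ℚ) * v (triples e).2.1 χ * v (triples e).2.2 χ / dd χ = rhs e := by
    intro e
    have h := Values.structure_sum (C.el9 (tq (triples e).1)) (C.el9 (tq (triples e).2.1))
      (C.el9 (tq (triples e).2.2))
    rw [C.count_triangle hA hII e, C.card_centralizer_el9 hA] at h
    simp only [hv, hd, map_intCast] at h
    have hp : ((pairCount (triples e).1 (triples e).2.1 (triples e).2.2 *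
        cw (tq (triples e).2.1) * cw (tq (triples e).2.2) : ℕ) : ℤ) = rhs e := by
      rw [pairCount_spec]
      exact (by decide +kernel : ∀ e : Fin 7,
        (((![23328, 0, 11664, 17496, 26244, 17496, 249318] : Fin 7 → ℕ) e : ℕ) : ℤ) = rhs e) e
    rw [← hp]
    apply Rat.cast_injective (α := ℂ)
    push_cast at h ⊢
    exact h
  -- the embedding
  obtain ⟨rows, hrows, p, hnd, hsgn, hoff, rfl⟩ := Enum.run_complete o steps
    ((List.finRange 9).map f) [] [[[]]] steps_small
    (by rw [steps_eq]; exact fits_of_gram o f hgram ho (List.finRange 9) [])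
    ⟨[[]], List.mem_singleton.mpr rfl, Enum.real_nil o⟩
  simp only [List.nil_append] at hrows hoff
  set fs := (List.finRange 9).map f with hfs
  set q := ((o, 1) : Cfsg.IrrCharacter G × ℤ) :: p with hq
  have hrowq : Enum.row fs (o, 1) :: p.map (Enum.row fs) = q.map (Enum.row fs) := by rw [hq]; rfl
  have hsq : ∀ x ∈ q, x.2 = 1 ∨ x.2 = -1 := by
    intro x hx
    rcases List.mem_cons.mp hx with rfl | hx
    · exact Or.inl rfl
    · exact hsgn x hx
  have hsum : ∀ {M : Type} [AddCommMonoid M] (g : Cfsg.IrrCharacter G → M),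
      (∀ χ, (∀ i, f i χ = 0) → g χ = 0) → ∑ χ, g χ = (q.map fun x => g x.1).sum := by
    intro M _ g hg
    have hnd' : (q.map Prod.fst).Nodup := by simpa [hq] using hnd
    rw [show (q.map fun x => g x.1) = (q.map Prod.fst).map g from (List.map_map).symm,
      ← List.sum_toFinset _ hnd']
    refine (Finset.sum_subset (Finset.subset_univ _) fun χ _ hχ => hg χ fun i => ?_).symm
    simp only [hq, List.map_cons, List.mem_toFinset, List.mem_cons, not_or] at hχ
    exact hoff χ hχ.1 hχ.2 (f i) (List.mem_map.mpr ⟨i, List.mem_finRange i, rfl⟩)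
  set rws := q.map (Enum.row fs) with hrws
  set D : ℕ → ℤ := fun j => (q.getD j (o, 1)).2 * dd (q.getD j (o, 1)).1 with hD
  have hlen : rws.length = q.length := by simp [hrws]
  have hent : ∀ j, j < rws.length → ∀ i, ent rws j i =
      (q.getD j (o, 1)).2 * f i (q.getD j (o, 1)).1 := by
    intro j hj i
    rw [hlen] at hj
    simp only [ent, hrws, List.getD_eq_getElem?_getD, List.getElem?_map,
      List.getElem?_eq_getElem hj, Option.map_some, Option.getD_some, Enum.row, hfs]
    simp
  have hval : ∀ j, j < rws.length → ∀ t, valAt rws j t =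
      (q.getD j (o, 1)).2 * v t (q.getD j (o, 1)).1 := by
    intro j hj t
    simp only [valAt, hent j hj, hvdef, Finset.mul_sum]
    exact Finset.sum_congr rfl fun i _ => by ring
  have hmem : ∀ j, j < rws.length → q.getD j (o, 1) ∈ q := by
    intro j hj
    rw [hlen] at hj
    rw [List.getD_eq_getElem _ _ hj]
    exact List.getElem_mem hj
  refine no_bundle (rows := rws) (D := D) (N := Nat.card G)
    (run_steps _ (hrowq ▸ hrows)) Nat.card_pos ?_ ?_ ?_ ?_
  · intro j hj
    exact mul_ne_zero (by rcases hsq _ (hmem j hj) with h | h <;> rw [h] <;> decide) (hdne _)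
  · intro j hj
    rw [hval j hj]
    show (3 : ℤ) ∣ _ - (q.getD j (o, 1)).2 * dd (q.getD j (o, 1)).1
    rw [← mul_sub]
    exact Dvd.dvd.mul_left (hv2 _) _
  · intro i
    rw [← hdeg i, hsum (fun χ => f i χ * dd χ) fun χ h => by rw [h, zero_mul],
      ← sum_range_getD _ (o, (1 : ℤ)) q, ← hlen]
    refine Finset.sum_congr rfl fun j hj => ?_
    rw [hent j (Finset.mem_range.mp hj)]
    show (q.getD j (o, 1)).2 * dd _ * _ = _
    rcases hsq _ (hmem j (Finset.mem_range.mp hj)) with h | h <;> rw [h] <;> ring
  · intro e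
    rw [← htri e, hsum (fun χ : Cfsg.IrrCharacter G => (v (triples e).1 χ : ℚ) *
        v (triples e).2.1 χ * v (triples e).2.2 χ / dd χ) fun χ h => by
        simp [hvdef, h],
      ← sum_range_getD _ (o, (1 : ℤ)) q, ← hlen]
    congr 1
    refine Finset.sum_congr rfl fun j hj => ?_
    simp only [prodAt, hval j (Finset.mem_range.mp hj), hD]
    push_cast
    rcases hsq _ (hmem j (Finset.mem_range.mp hj)) with h | h <;> rw [h] <;> push_cast <;> ring

end Cfg

end Cfsg.Agent.Lib.A9Norm79
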