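import Cfsg.Agent.Lib.A9Norm79.Setup
import Cfsg.Agent.Lib.Transfer.CharHyp
import Cfsg.Agent.Lib.Cores.Basic
import Cfsg.Agent.Lib.OddOrder.NormedConstrained
import Cfsg.Agent.Lib.Frobenius.PComplement
import Cfsg.Agent.S3347

/-!
# Centralisers of the two larger classes of `J`
-/

set_option autoImplicit false

namespace Cfsg.Agent.Lib.A9Norm79

open Model Cfsg.Agent.Lib.Transfer.PResidual
open scoped Pointwise

universe u

section General

variable {G : Type u} [Group G] [Finite G]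

/-- A `p`-subgroup containing all `p`-elements of its normaliser is a Sylow subgroup. -/
theorem exists_sylow_of_normalizer {p : ℕ} [Fact p.Prime] (A : Subgroup G) (hA : IsPGroup p A)
    (h : ∀ g ∈ Subgroup.normalizer (A : Set G), (∃ k : ℕ, g ^ p ^ k = 1) → g ∈ A) :
    ∃ P : Sylow p G, (P : Subgroup G) = A := by
  obtain ⟨P, hP⟩ := hA.exists_le_sylow
  refine ⟨P, le_antisymm ?_ hP⟩
  by_contra hlt
  have hne : A.subgroupOf (P : Subgroup G) < ⊤ :=
    lt_of_le_of_ne le_top fun e => hlt (Subgroup.subgroupOf_eq_top.mp e)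
  haveI := P.isPGroup'.isNilpotent
  obtain ⟨g, hgn, hgA⟩ := SetLike.exists_of_lt (Group.normalizerCondition_of_isNilpotent _ hne)
  refine hgA (Subgroup.mem_subgroupOf.mpr (h g (Subgroup.mem_normalizer_iff.mpr fun x => ?_) ?_))
  · have hn := Subgroup.mem_normalizer_iff.mp hgn
    constructor
    · intro hx
      exact Subgroup.mem_subgroupOf.mp ((hn ⟨x, hP hx⟩).mp (Subgroup.mem_subgroupOf.mpr hx))
    · intro hx
      have hxP : x ∈ (P : Subgroup G) := by
        have := mul_mem (mul_mem (inv_mem g.2) (hP hx)) g.2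
        simpa [mul_assoc] using this
      exact Subgroup.mem_subgroupOf.mp ((hn ⟨x, hxP⟩).mpr (Subgroup.mem_subgroupOf.mpr hx))
  · obtain ⟨k, hk⟩ := P.isPGroup' g
    exact ⟨k, congrArg Subtype.val hk⟩

/-- A coprime normal subgroup of a quotient by a central `p`-subgroup is trivial when the core is. -/
theorem quotient_core_eq_bot {p : ℕ} [Fact p.Prime] (Z : Subgroup G) [Z.Normal] (hZ : IsPGroup p Z)
    (hc : ∀ z ∈ Z, ∀ g : G, g * z = z * g) (hcore : Cfsg.pPrimeCore p G = ⊥)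
    (U : Subgroup (G ⧸ Z)) [hUn : U.Normal] (hU : (Nat.card U).Coprime p) : U = ⊥ := by
  set f := QuotientGroup.mk' Z with hf
  set V := U.comap f with hV
  have hZV : Z ≤ V := fun z hz => by
    rw [hV, Subgroup.mem_comap, show f z = 1 from (QuotientGroup.eq_one_iff z).mpr hz]
    exact one_mem _
  let π : V →* U := (f.comp V.subtype).codRestrict U fun x => x.2
  have hker : ∀ x : V, π x = 1 ↔ (x : G) ∈ Z := fun x => by
    rw [Subtype.ext_iff]
    exact QuotientGroup.eq_one_iff (x : G)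
  have hpi : (Z.subgroupOf V) = π.ker := by
    ext x
    rw [Subgroup.mem_subgroupOf, MonoidHom.mem_ker, hker]
  have hVc : Cfsg.HasNormalPComplement p V := by
    refine Transfer.CharHyp.hasNormalPComplement_of_central
      (Z := Z.subgroupOf V) (hZ.of_equiv (Subgroup.subgroupOfEquivOfLe hZV).symm)
      (fun z hz g => Subtype.ext (hc _ (Subgroup.mem_subgroupOf.mp hz) _)) ?_
    refine hasNormalPComplement_of_not_dvd fun hd => ?_
    have h1 : Nat.card (V ⧸ Z.subgroupOf V) ∣ Nat.card U := by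
      rw [← Subgroup.index_eq_card, hpi, Subgroup.index_ker]
      exact Subgroup.card_subgroup_dvd_card _
    exact ((Nat.Prime.coprime_iff_not_dvd Fact.out).mp hU.symm) (hd.trans h1)
  haveI hVn : V.Normal := hUn.comap f
  have hnd : ¬ p ∣ Nat.card ((Cfsg.pResidual p V).map V.subtype) := by
    rw [Subgroup.card_map_of_injective V.subtype_injective]
    exact hasNormalPComplement_iff_not_dvd.mp hVc
  haveI : (Cfsg.pResidual p V).Characteristic := by
    rw [Subgroup.characteristic_iff_map_eq]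
    exact fun e => map_pResidual_equiv e
  haveI : ((Cfsg.pResidual p V).map V.subtype).Normal :=
    ConjAct.normal_of_characteristic_of_normal
  have hbot := hcore ▸ Cores.le_pPrimeCore_of_not_dvd hnd
  rw [le_bot_iff, Subgroup.map_eq_bot_iff_of_injective _ V.subtype_injective,
    pResidual_eq_bot_iff] at hbot
  rw [Subgroup.eq_bot_iff_forall]
  intro u hu
  obtain ⟨x, rfl⟩ := QuotientGroup.mk'_surjective Z u
  obtain ⟨k, hk⟩ := hbot ⟨x, hu⟩
  obtain ⟨m, -, hm⟩ := (Nat.dvd_prime_pow Fact.out).mp (orderOf_dvd_of_pow_eq_one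
    (show (f x) ^ p ^ k = 1 by rw [← map_pow, show x ^ p ^ k = 1 from congrArg Subtype.val hk, map_one]))
  have hdvd : orderOf (f x) ∣ Nat.card U := Subgroup.orderOf_dvd_natCard _ hu
  exact orderOf_eq_one_iff.mp (Nat.eq_one_of_dvd_coprimes (hU.symm.pow_left m) (dvd_of_eq hm) hdvd)

end General

namespace Model

/-- The index of an involution swapping the first two blocks. -/
def k1 : Fin 4 × Fin 6 := (1, 4)

theorem cent_d : ∀ k : Fin 4 × Fin 6, mel k * jel (1, 1, 0) = jel (1, 1, 0) * mel k →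
    k = (0, 0) ∨ k = k1 := by decide +kernel

theorem k1_facts : mel k1 * mel k1 = 1 ∧ mel k1 * jel (1, 1, 0) = jel (1, 1, 0) * mel k1 ∧
    mel k1 * ca * (mel k1)⁻¹ = cb ∧ mel k1 * cc * (mel k1)⁻¹ = cc⁻¹ := by decide +kernel

theorem cent_z : ∀ k : Fin 4 × Fin 6, mel k * jel (1, 1, 1) = jel (1, 1, 1) * mel k →
    k.1 = 0 ∧ (k.2 : ℕ) < 3 := by decide +kernel

theorem cent_zd : ∀ k : Fin 4 × Fin 6, mel k * jel (1, 1, 1) = jel (1, 1, 1) * mel k →
    mel k * jel (1, 2, 0) = jel (1, 2, 0) * mel k → k = (0, 0) := by decide +kernel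

theorem el_comm_jel_iff (i : Fin 3 × Fin 3 × Fin 3) (w : W) :
    el w * jel i = jel i * el w ↔ mel w.2 * jel i = jel i * mel w.2 := by
  have hjj : jel w.1 * jel i = jel i * jel w.1 :=
    (by decide +kernel : ∀ a b, jel a * jel b = jel b * jel a) _ _
  rw [el, mul_assoc, ← mul_assoc (jel i), ← hjj, mul_assoc (jel w.1) (jel i), mul_right_inj]

end Model

namespace Cfg

variable {G : Type u} [Group G] [Finite G] (C : Cfg G)

theorem comm_E_j_iff (w : W) (i : Fin 3 × Fin 3 × Fin 3) :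
    C.E w * C.j i = C.j i * C.E w ↔ mel w.2 * jel i = jel i * mel w.2 := by
  rw [j, E_comm_iff, el_base, el_comm_jel_iff]

theorem core_j (i : Fin 3 × Fin 3 × Fin 3) (hi : i ≠ (0, 0, 0)) :
    Cfsg.pPrimeCore 3 (Subgroup.centralizer ({C.j i} : Set G)) = ⊥ := by
  refine C.cores ⟨el (i, (0, 0)), el_mem _⟩ ?_ fun h => hi ?_
  · show el (i, (0, 0)) ^ 3 = 1
    rw [el_base]
    exact (by decide +kernel : ∀ i, jel i ^ 3 = 1) i
  · have h' : el (i, (0, 0)) = 1 := congrArg Subtype.val h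
    rw [el_base, ← jel_gen.2.2.2] at h'
    exact jel_injective _ _ h'

theorem J_le_centralizer_j (i : Fin 3 × Fin 3 × Fin 3) :
    C.J ≤ Subgroup.centralizer ({C.j i} : Set G) := fun _ hx =>
  Subgroup.mem_centralizer_singleton_iff.mpr (C.J_comm hx (C.j_mem i))

theorem J_pow (x : G) (hx : x ∈ C.J) : x ^ 3 = 1 := by
  obtain ⟨i, rfl⟩ := C.exists_j hx
  rw [j, E_pow_eq_one_iff, el_base]
  exact (by decide +kernel : ∀ i, jel i ^ 3 = 1) i

theorem mem_normalizer_J_of_map {X : Subgroup G} (hJX : C.J ≤ X) {g : X}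
    (hg : g ∈ Subgroup.normalizer ((C.J.subgroupOf X) : Set X)) :
    (g : G) ∈ Subgroup.normalizer (C.J : Set G) := by
  refine Subgroup.mem_normalizer_iff.mpr fun x => ?_
  have hn := Subgroup.mem_normalizer_iff.mp hg
  constructor
  · intro hx
    exact Subgroup.mem_subgroupOf.mp ((hn ⟨x, hJX hx⟩).mp (Subgroup.mem_subgroupOf.mpr hx))
  · intro hx
    have hxX : x ∈ X := by
      have := mul_mem (mul_mem (inv_mem g.2) (hJX hx)) g.2
      simpa [mul_assoc] using this
    exact Subgroup.mem_subgroupOf.mp ((hn ⟨x, hxX⟩).mpr (Subgroup.mem_subgroupOf.mpr hx))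

/-- The centraliser of an element of the middle type lies in `N(J)`. -/
theorem centralizer_d_le :
    Subgroup.centralizer ({C.j (1, 1, 0)} : Set G) ≤ Subgroup.normalizer (C.J : Set G) := by
  haveI : Fact (Nat.Prime 3) := ⟨Nat.prime_three⟩
  set d := C.j (1, 1, 0) with hd
  set X := Subgroup.centralizer ({d} : Set G) with hX
  have hJX : C.J ≤ X := C.J_le_centralizer_j _
  -- elements of `X` normalising `J`
  have hshape : ∀ g : G, g ∈ X → g ∈ Subgroup.normalizer (C.J : Set G) →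
      g ∈ C.J ∨ ∃ i, g = C.j i * C.E ((0, 0, 0), k1) := by
    intro g hgX hgN
    obtain ⟨w, rfl⟩ := C.exists_E hgN
    rcases cent_d w.2 ((C.comm_E_j_iff w _).mp (Subgroup.mem_centralizer_singleton_iff.mp hgX))
      with h | h
    · exact Or.inl ((C.E_mem_J_iff w).mpr h)
    · refine Or.inr ⟨w.1, ?_⟩
      rw [j, C.E_mul (w := w) ?_]
      rw [el_base, el, el, h]
      simp [jel]
  set u := C.E ((0, 0, 0), k1) with hu
  have hu2 : u * u = 1 := by
    rw [hu, ← pow_two, E_pow_eq_one_iff, pow_two, el]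
    simpa [jel] using k1_facts.1
  have huX : u ∈ X :=
    Subgroup.mem_centralizer_singleton_iff.mpr ((C.comm_E_j_iff _ _).mpr k1_facts.2.1)
  have huN : u ∈ Subgroup.normalizer (C.J : Set G) := C.E_mem _
  set PJ := C.J.subgroupOf X with hPJ
  have hPJp : IsPGroup 3 PJ := IsPGroup.of_card (n := 3) (by
    rw [Nat.card_congr (Subgroup.subgroupOfEquivOfLe hJX).toEquiv, C.card_J]; norm_num)
  obtain ⟨P, hP⟩ := exists_sylow_of_normalizer PJ hPJp (by
    rintro g hg ⟨k, hk⟩
    have hk' : (g : G) ^ 3 ^ k = 1 := by rw [← Subgroup.coe_pow, hk, Subgroup.coe_one]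
    rcases hshape g g.2 (C.mem_normalizer_J_of_map hJX hg) with h | ⟨i, hi⟩
    · exact Subgroup.mem_subgroupOf.mpr h
    have hsq : (g : G) ^ 2 ∈ C.J := by
      rw [hi, pow_two, show C.j i * u * (C.j i * u) = C.j i * (u * C.j i * u⁻¹) * (u * u) by group,
        hu2, mul_one]
      exact mul_mem (C.j_mem i) ((Subgroup.mem_normalizer_iff.mp huN _).mp (C.j_mem i))
    obtain ⟨m, hm⟩ := exists_pow_eq_self_of_coprime (x := (g : G)) (n := 2)
      (Nat.Coprime.coprime_dvd_right (orderOf_dvd_of_pow_eq_one hk')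
        (Nat.Coprime.pow_right k (by norm_num)))
    exact Subgroup.mem_subgroupOf.mpr (hm ▸ pow_mem hsq m))
  have hdX : d ∈ X := hJX (C.j_mem _)
  set Z := Subgroup.zpowers (⟨d, hdX⟩ : X) with hZ
  have hZc : ∀ z ∈ Z, ∀ g : X, g * z = z * g := by
    intro z hz g
    obtain ⟨n, rfl⟩ := Subgroup.mem_zpowers_iff.mp hz
    refine (Commute.zpow_right ?_ n).eq
    exact Subtype.ext (Subgroup.mem_centralizer_singleton_iff.mp g.2)
  haveI : Z.Normal := ⟨fun n hn g => by rw [hZc n hn g, mul_inv_cancel_right]; exact hn⟩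
  have hZp : IsPGroup 3 Z := hPJp.to_le
    (Subgroup.zpowers_le.mpr (Subgroup.mem_subgroupOf.mpr (C.j_mem _)))
  set f := QuotientGroup.mk' Z with hf
  have hZmem : ∀ g : X, f g = 1 → ∃ n : ℕ, n < 3 ∧ (g : G) = d ^ n := by
    intro g hg
    obtain ⟨n, hn⟩ := Subgroup.mem_zpowers_iff.mp ((QuotientGroup.eq_one_iff g).mp hg)
    refine ⟨(n % 3).toNat, by omega, ?_⟩
    rw [← hn, Subgroup.coe_zpow, ← zpow_natCast,
      Int.toNat_of_nonneg (Int.emod_nonneg n (by norm_num))]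
    conv_lhs => rw [← Int.mul_ediv_add_emod n 3, zpow_add, zpow_mul]
    have h3 : d ^ (3 : ℤ) = 1 := by exact_mod_cast C.J_pow d (C.j_mem _)
    simp [h3]
  set Q := P.mapSurjective (f := f) (QuotientGroup.mk'_surjective Z) with hQdef
  have hQ : ∀ y, y ∈ (Q : Subgroup (X ⧸ Z)) ↔ ∃ x : X, (x : G) ∈ C.J ∧ f x = y := by
    intro y
    show y ∈ (P : Subgroup X).map f ↔ _
    rw [hP]
    exact ⟨fun ⟨x, hx, he⟩ => ⟨x, Subgroup.mem_subgroupOf.mp hx, he⟩,
      fun ⟨x, hx, he⟩ => ⟨x, Subgroup.mem_subgroupOf.mpr hx, he⟩⟩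
  have hQcomm : ∀ y ∈ (Q : Subgroup (X ⧸ Z)), ∀ y' ∈ (Q : Subgroup (X ⧸ Z)), y * y' = y' * y := by
    intro y hy y' hy'
    obtain ⟨x, hx, rfl⟩ := (hQ y).mp hy
    obtain ⟨x', hx', rfl⟩ := (hQ y').mp hy'
    rw [← map_mul, ← map_mul]
    exact congrArg f (Subtype.ext (C.J_comm hx hx'))
  set a : X := ⟨C.j (1, 0, 0), hJX (C.j_mem _)⟩ with ha
  set b : X := ⟨C.j (0, 1, 0), hJX (C.j_mem _)⟩ with hb
  set c : X := ⟨C.j (0, 0, 1), hJX (C.j_mem _)⟩ with hc
  set u' : X := ⟨u, huX⟩ with hu'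
  have hua : u' * a * u'⁻¹ = b := by
    refine Subtype.ext ?_
    show u * C.j _ * u⁻¹ = C.j _
    rw [mul_inv_eq_iff_eq_mul, hu, j, j, E, E, E, ← map_mul, ← map_mul]
    refine congrArg C.φ (Subtype.ext ?_)
    show el _ * el _ = el _ * el _
    rw [el_base, el_base, el, jel_gen.2.2.2, one_mul, jel_gen.1, jel_gen.2.1]
    exact mul_inv_eq_iff_eq_mul.mp k1_facts.2.2.1
  have huc : u' * c * u'⁻¹ = c⁻¹ := by
    refine Subtype.ext ?_
    show u * C.j _ * u⁻¹ = (C.j _)⁻¹
    rw [mul_inv_eq_iff_eq_mul, hu, j, E, E, ← map_inv, ← map_mul, ← map_mul]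
    refine congrArg C.φ (Subtype.ext ?_)
    show el _ * el _ = (el _)⁻¹ * el _
    rw [el_base, el, jel_gen.2.2.2, one_mul, jel_gen.2.2.1]
    exact mul_inv_eq_iff_eq_mul.mp k1_facts.2.2.2
  have hgenJ : ∀ x : X, (x : G) ∈ C.J → x ∈ Subgroup.closure ({a, b, c} : Set X) := by
    intro x hx
    obtain ⟨i, hi⟩ := C.exists_j hx
    have : x = a ^ (i.1 : ℕ) * b ^ (i.2.1 : ℕ) * c ^ (i.2.2 : ℕ) := by
      refine Subtype.ext (hi.symm.trans ?_)
      simp only [ha, hb, hc, Subgroup.coe_mul, Subgroup.coe_pow, j, E, ← map_pow, ← map_mul]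
      refine congrArg C.φ (Subtype.ext ?_)
      show el _ = el _ ^ _ * el _ ^ _ * el _ ^ _
      simp only [el_base, jel_gen.1, jel_gen.2.1, jel_gen.2.2.1]
      rfl
    rw [this]
    refine mul_mem (mul_mem (pow_mem ?_ _) (pow_mem ?_ _)) (pow_mem ?_ _) <;>
      exact Subgroup.subset_closure (by simp)
  have hlift : ∀ y ∈ Subgroup.normalizer ((Q : Subgroup (X ⧸ Z)) : Set (X ⧸ Z)), ∃ x : X,
      f x = y ∧ (x : G) ∈ Subgroup.normalizer (C.J : Set G) := by
    intro y hy
    obtain ⟨x, rfl⟩ := QuotientGroup.mk'_surjective Z y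
    refine ⟨x, rfl, C.mem_normalizer_J_of_map hJX (Subgroup.mem_normalizer_iff.mpr fun t => ?_)⟩
    have hn := Subgroup.mem_normalizer_iff.mp hy (f t)
    have hpre : ∀ t : X, f t ∈ (Q : Subgroup (X ⧸ Z)) ↔ t ∈ C.J.subgroupOf X := by
      intro t
      rw [hQ]
      constructor
      · rintro ⟨s, hs, hst⟩
        obtain ⟨n, -, hn⟩ := hZmem (s⁻¹ * t) (by rw [map_mul, map_inv, hst, inv_mul_cancel])
        rw [Subgroup.mem_subgroupOf,
          show (t : G) = (s : G) * (((s⁻¹ * t : X)) : G) by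
            rw [Subgroup.coe_mul, Subgroup.coe_inv, mul_inv_cancel_left], hn]
        exact mul_mem hs (pow_mem (C.j_mem _) n)
      · exact fun h => ⟨t, Subgroup.mem_subgroupOf.mp h, rfl⟩
    rw [← map_inv, ← map_mul, ← map_mul] at hn
    exact ((hpre t).symm.trans hn).trans (hpre _)
  have hfu : f u' ∈ Subgroup.normalizer ((Q : Subgroup (X ⧸ Z)) : Set (X ⧸ Z)) := by
    refine Subgroup.le_normalizer_map f (H := (P : Subgroup X)) ⟨u', ?_, rfl⟩
    rw [hP]
    refine Subgroup.mem_normalizer_iff.mpr fun t => ?_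
    simp only [hPJ, Subgroup.mem_subgroupOf]
    exact Subgroup.mem_normalizer_iff.mp huN t
  have hcopd : ∀ n : ℕ, n < 3 → C.j (0, 1, 0) = C.j (1, 0, 0) * d ^ n → False := by
    intro n hn h
    simp only [hd, j, E, ← map_pow, ← map_mul] at h
    have h' : el ((0, 1, 0), (0, 0)) = el ((1, 0, 0), (0, 0)) * el ((1, 1, 0), (0, 0)) ^ n :=
      congrArg Subtype.val (C.inj h)
    rw [el_base, el_base, el_base] at h'
    interval_cases n <;> revert h' <;> decide +kernel
  -- the residual of the quotient is everything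
  have hres : Cfsg.pResidual 3 (X ⧸ Z) = ⊤ := by
    set R := Cfsg.pResidual 3 (X ⧸ Z) with hR
    have hfu1 : QuotientGroup.mk' R (f u') = 1 := by
      refine (QuotientGroup.eq_one_iff _).mpr (mem_pResidual ?_)
      refine Nat.Coprime.coprime_dvd_left (orderOf_dvd_of_pow_eq_one (n := 2) ?_) (by norm_num)
      rw [← map_pow, show u' ^ 2 = 1 from Subtype.ext ((pow_two u).trans hu2), map_one]
    set g := (QuotientGroup.mk' R).comp f with hg
    have hgu : g u' = 1 := hfu1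
    have hab : g a = g b := by rw [← hua, map_mul, map_mul, map_inv, hgu]; simp
    have hc2 : g c = (g c)⁻¹ := by
      conv_rhs => rw [← map_inv, ← huc, map_mul, map_mul, map_inv, hgu]
      simp
    have hc1 : g c = 1 := by
      have h2 : g c ^ 2 = 1 := by rw [pow_two]; nth_rewrite 1 [hc2]; exact inv_mul_cancel _
      have h3 : g c ^ 3 = 1 := by
        rw [← map_pow, show c ^ 3 = 1 from Subtype.ext (C.J_pow _ (C.j_mem _)), map_one]
      rw [pow_succ, h2, one_mul] at h3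
      exact h3
    have hd1 : g (⟨d, hdX⟩ : X) = 1 := by
      rw [hg, MonoidHom.comp_apply,
        show f ⟨d, hdX⟩ = 1 from (QuotientGroup.eq_one_iff _).mpr (Subgroup.mem_zpowers _),
        map_one]
    have ha1 : g a = 1 := by
      have hdab : (⟨d, hdX⟩ : X) = a * b := by
        refine Subtype.ext ?_
        show C.j _ = C.j _ * C.j _
        rw [j, j, j, C.E_mul]
        rw [el_base, el_base, el_base]
        decide +kernel
      rw [hdab, map_mul, ← hab, ← pow_two] at hd1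
      have h3 : g a ^ 3 = 1 := by
        rw [← map_pow, show a ^ 3 = 1 from Subtype.ext (C.J_pow _ (C.j_mem _)), map_one]
      rw [pow_succ, hd1, one_mul] at h3
      exact h3
    rw [eq_top_iff, ← sup_sylow_eq_top (p := 3) Q, sup_le_iff]
    refine ⟨le_rfl, fun y hy => ?_⟩
    obtain ⟨x, hx, rfl⟩ := (hQ y).mp hy
    refine (QuotientGroup.eq_one_iff _).mp ?_
    have : Subgroup.closure ({a, b, c} : Set X) ≤ g.ker := by
      rw [Subgroup.closure_le]
      rintro t (rfl | rfl | rfl)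
      exacts [ha1, hab.symm.trans ha1, hc1]
    exact this (hgenJ x hx)
  have hQab : IsMulCommutative (Q : Subgroup (X ⧸ Z)) :=
    ⟨⟨fun y y' => Subtype.ext (hQcomm _ y.2 _ y'.2)⟩⟩
  have hQ3 : ∀ y : (Q : Subgroup (X ⧸ Z)), y ^ 3 = 1 := by
    rintro ⟨y, hy⟩
    obtain ⟨x, hx, rfl⟩ := (hQ y).mp hy
    refine Subtype.ext ?_
    show f x ^ 3 = 1
    rw [← map_pow, show x ^ 3 = 1 from Subtype.ext (C.J_pow _ hx), map_one]
  have hne : f a ≠ 1 := by
    intro h
    obtain ⟨n, hn, he⟩ := hZmem a h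
    have he' : C.j (1, 0, 0) = d ^ n := he
    simp only [hd, j, E, ← map_pow] at he'
    have h' : el ((1, 0, 0), (0, 0)) = el ((1, 1, 0), (0, 0)) ^ n :=
      congrArg Subtype.val (C.inj he')
    rw [el_base, el_base] at h'
    interval_cases n <;> revert h' <;> decide +kernel
  have hQnc : ¬ IsCyclic (Q : Subgroup (X ⧸ Z)) := by
    intro hcy
    obtain ⟨y, hy⟩ := hcy.exists_generator
    have haQ : f a ∈ (Q : Subgroup (X ⧸ Z)) := (hQ _).mpr ⟨a, C.j_mem _, rfl⟩
    have hbQ : f b ∈ (Q : Subgroup (X ⧸ Z)) := (hQ _).mpr ⟨b, C.j_mem _, rfl⟩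
    have hcQ : f c ∈ (Q : Subgroup (X ⧸ Z)) := (hQ _).mpr ⟨c, C.j_mem _, rfl⟩
    have hz : Subgroup.zpowers (⟨f a, haQ⟩ : (Q : Subgroup (X ⧸ Z))) = ⊤ := by
      refine Subgroup.eq_top_of_card_eq _ (le_antisymm (Subgroup.card_le_card_group _) ?_)
      have hy3 : orderOf y ∣ 3 := orderOf_dvd_of_pow_eq_one (hQ3 y)
      have htop : Subgroup.zpowers y = ⊤ := eq_top_iff.mpr fun t _ => hy t
      rw [← Subgroup.card_top, ← htop, Nat.card_zpowers, Nat.card_zpowers,
        orderOf_eq_prime (hQ3 (⟨f a, haQ⟩ : (Q : Subgroup (X ⧸ Z))))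
          fun h => hne (Subtype.ext_iff.mp h)]
      exact Nat.le_of_dvd (by norm_num) hy3
    obtain ⟨n, hn⟩ := Subgroup.mem_zpowers_iff.mp (hz ▸ Subgroup.mem_top (⟨f c, hcQ⟩ : (Q : Subgroup (X ⧸ Z))))
    have hn' : f (a ^ n) = f c := by rw [map_zpow]; exact congrArg Subtype.val hn
    obtain ⟨m, hm, he⟩ := hZmem ((a ^ n)⁻¹ * c) (by rw [map_mul, map_inv, hn', inv_mul_cancel])
    have hpow : a ^ n = a ^ (n % 3).toNat := by
      rw [← zpow_natCast, Int.toNat_of_nonneg (Int.emod_nonneg n (by norm_num))]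
      conv_lhs => rw [← Int.mul_ediv_add_emod n 3, zpow_add, zpow_mul]
      have : a ^ (3 : ℤ) = 1 := by exact_mod_cast (Subtype.ext (C.J_pow _ (C.j_mem _)) : a ^ 3 = 1)
      simp [this]
    rw [hpow] at he
    obtain ⟨k, hk, hkn⟩ : ∃ k, k < 3 ∧ (n % 3).toNat = k := ⟨_, by omega, rfl⟩
    rw [hkn] at he
    simp only [ha, hc, hd, Subgroup.coe_mul, Subgroup.coe_inv, Subgroup.coe_pow, j, E, ← map_pow,
      ← map_inv, ← map_mul] at he
    have h' : (el ((1, 0, 0), (0, 0)) ^ k)⁻¹ * el ((0, 0, 1), (0, 0)) =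
        el ((1, 1, 0), (0, 0)) ^ m := congrArg Subtype.val (C.inj he)
    rw [el_base, el_base, el_base] at h'
    interval_cases k <;> interval_cases m <;> revert h' <;> decide +kernel
  have hNC : ((Subgroup.centralizer ((Q : Subgroup (X ⧸ Z)) : Set (X ⧸ Z))).subgroupOf
      (Subgroup.normalizer ((Q : Subgroup (X ⧸ Z)) : Set (X ⧸ Z)))).index = 2 := by
    have hunc : f u' ∉ Subgroup.centralizer ((Q : Subgroup (X ⧸ Z)) : Set (X ⧸ Z)) := by
      intro h
      have h1 := Subgroup.mem_centralizer_iff.mp h (f a) ((hQ _).mpr ⟨a, C.j_mem _, rfl⟩)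
      rw [← map_mul, ← map_mul] at h1
      obtain ⟨n, hn, he⟩ := hZmem (a⁻¹ * (u' * a * u'⁻¹))
        (by rw [map_mul, map_mul, map_inv, map_inv, ← h1, map_mul]; group)
      rw [hua] at he
      refine hcopd n hn ?_
      rw [← he]
      show C.j _ = C.j _ * ((a : G)⁻¹ * (b : G))
      simp [ha, hb]
    have hcase : ∀ y ∈ Subgroup.normalizer ((Q : Subgroup (X ⧸ Z)) : Set (X ⧸ Z)),
        y ∈ Subgroup.centralizer ((Q : Subgroup (X ⧸ Z)) : Set (X ⧸ Z)) ∨
        y * f u' ∈ Subgroup.centralizer ((Q : Subgroup (X ⧸ Z)) : Set (X ⧸ Z)) := by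
      intro y hy
      obtain ⟨x, rfl, hxN⟩ := hlift y hy
      have hcen : ∀ t : X, (t : G) ∈ C.J →
          f t ∈ Subgroup.centralizer ((Q : Subgroup (X ⧸ Z)) : Set (X ⧸ Z)) := fun t ht =>
        Subgroup.mem_centralizer_iff.mpr fun y hy => hQcomm y hy _ ((hQ _).mpr ⟨t, ht, rfl⟩)
      rcases hshape x x.2 hxN with h | ⟨i, hi⟩
      · exact Or.inl (hcen x h)
      · refine Or.inr ?_
        rw [← map_mul]
        refine hcen _ ?_
        show (x : G) * u ∈ C.J
        rw [hi, mul_assoc, hu2, mul_one]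
        exact C.j_mem i
    rw [Subgroup.index_eq_two_iff]
    refine ⟨⟨f u', hfu⟩, fun y => ?_⟩
    simp only [Subgroup.mem_subgroupOf, Subgroup.coe_mul]
    rcases hcase y y.2 with h | h
    · exact Or.inr ⟨h, fun h' => hunc (by
        have := mul_mem (inv_mem h) h'; rwa [inv_mul_cancel_left] at this)⟩
    · exact Or.inl ⟨h, fun h' => hunc (by
        have := mul_mem (inv_mem h') h; rwa [inv_mul_cancel_left] at this)⟩
  rcases Cfsg.Agent.S3347.result 3 (by norm_num) Q hQab hQnc hNC with h | h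
  · exact absurd hres h
  obtain ⟨U, hUn, hUc, -, hUS⟩ := OddOrder.NormedConstrained.exists_of_pLength_one h
  haveI := hUn
  have hU := quotient_core_eq_bot Z hZp hZc (C.core_j _ (by decide)) U hUc
  subst hU
  have hle := hUS Q
  have hge := Cores.pCore_le_sylow
    (Sylow.mapSurjective (QuotientGroup.mk'_surjective (⊥ : Subgroup (X ⧸ Z))) Q)
  have heq : (Q : Subgroup (X ⧸ Z)).map (QuotientGroup.mk' ⊥) =
      Cfsg.pCore 3 ((X ⧸ Z) ⧸ (⊥ : Subgroup (X ⧸ Z))) := le_antisymm hle hge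
  have hQn : (Q : Subgroup (X ⧸ Z)).Normal := by
    have h2 : (Q : Subgroup (X ⧸ Z)) = (Cfsg.pCore 3 ((X ⧸ Z) ⧸ (⊥ : Subgroup (X ⧸ Z)))).comap
        (QuotientGroup.mk' ⊥) := by
      rw [← heq, Subgroup.comap_map_eq_self (by rw [QuotientGroup.ker_mk']; exact bot_le)]
    rw [h2]
    exact Subgroup.Normal.comap (Cfsg.pCore_normal 3 _) _
  intro x hx
  obtain ⟨x', hx', hxN⟩ := hlift (f ⟨x, hx⟩) (by
    rw [Subgroup.normalizer_eq_top_iff.mpr hQn]; exact Subgroup.mem_top _)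
  obtain ⟨n, -, hn⟩ := hZmem (x'⁻¹ * ⟨x, hx⟩) (by rw [map_mul, map_inv, hx', inv_mul_cancel])
  rw [show x = (x' : G) * (((x'⁻¹ * ⟨x, hx⟩ : X)) : G) by simp, hn]
  exact mul_mem hxN (pow_mem (Subgroup.le_normalizer (C.j_mem _)) n)

/-- Every element of the middle type has its centraliser in `N(J)`. -/
theorem centralizer_typ_two_le {i : Fin 3 × Fin 3 × Fin 3} (hi : typ i = 2) :
    Subgroup.centralizer ({C.j i} : Set G) ≤ Subgroup.normalizer (C.J : Set G) := by
  obtain ⟨k, hk⟩ := conj_of_typ (1, 1, 0) i hi.symm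
  set g := C.E ((0, 0, 0), k) with hg
  have hgN : g ∈ Subgroup.normalizer (C.J : Set G) := C.E_mem _
  have he : g * C.j (1, 1, 0) = C.j i * g := by
    rw [hg, j, j, E, E, E, ← map_mul, ← map_mul]
    refine congrArg C.φ (Subtype.ext ?_)
    show el _ * el _ = el _ * el _
    rw [el_base, el_base, el, jel_gen.2.2.2, one_mul]
    exact hk
  intro x hx
  have hx' := Subgroup.mem_centralizer_singleton_iff.mp hx
  have h1 : g⁻¹ * x * g ∈ Subgroup.centralizer ({C.j (1, 1, 0)} : Set G) := by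
    rw [Subgroup.mem_centralizer_singleton_iff]
    calc g⁻¹ * x * g * C.j (1, 1, 0) = g⁻¹ * x * (g * C.j (1, 1, 0)) := by group
      _ = g⁻¹ * (x * C.j i) * g := by rw [he]; group
      _ = g⁻¹ * (C.j i * x) * g := by rw [hx']
      _ = g⁻¹ * (C.j i * g) * (g⁻¹ * x * g) := by group
      _ = g⁻¹ * (g * C.j (1, 1, 0)) * (g⁻¹ * x * g) := by rw [he]
      _ = _ := by group
  have h2 := mul_mem (mul_mem hgN (C.centralizer_d_le h1)) (inv_mem hgN)
  simpa [mul_assoc] using h2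

theorem card_centralizer_d : Nat.card (Subgroup.centralizer ({C.j (1, 1, 0)} : Set G)) = 54 := by
  classical
  have hset : ∀ w : W, C.E w ∈ Subgroup.centralizer ({C.j (1, 1, 0)} : Set G) ↔
      (w.2 = (0, 0) ∨ w.2 = k1) := by
    intro w
    rw [Subgroup.mem_centralizer_singleton_iff, C.comm_E_j_iff]
    refine ⟨cent_d w.2, ?_⟩
    rintro (h | h) <;> rw [h]
    · decide +kernel
    · exact k1_facts.2.1
  have hbij : Function.Bijective (fun w : {w : W // w.2 = (0, 0) ∨ w.2 = k1} =>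
      (⟨C.E w.1, (hset w.1).mpr w.2⟩ : Subgroup.centralizer ({C.j (1, 1, 0)} : Set G))) := by
    refine ⟨fun v v' e => Subtype.ext (C.E_injective (congrArg Subtype.val e)), fun x => ?_⟩
    obtain ⟨w, hw⟩ := C.exists_E (C.centralizer_d_le x.2)
    exact ⟨⟨w, (hset w).mp (hw ▸ x.2)⟩, Subtype.ext hw⟩
  rw [← Nat.card_congr (Equiv.ofBijective _ hbij), Nat.card_eq_fintype_card]
  decide +kernel

end Cfg

end Cfsg.Agent.Lib.A9Norm79
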