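import Cfsg.Agent.S3341
import Cfsg.Agent.Lib.CharSimple
import Cfsg.Agent.Lib.Subnormality.UniqueMaximal
import Cfsg.Agent.Lib.Cores.Basic
import Cfsg.Agent.Lib.Transfer.Fusion
import Cfsg.Agent.Lib.SmallGroups.Sylow

/-!
# A Sylow three-subgroup of order nine with irreducible automiser of order four
-/

set_option autoImplicit false

namespace Cfsg.Agent.Lib.A9Norm79.Nine

universe u

variable {Y : Type u} [Group Y] [Finite Y]

/-- Either the Sylow subgroup is normal or the group is the alternating group of degree six. -/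
theorem normal_or_alt (M : Sylow 3 Y) (h9 : Nat.card (M : Subgroup Y) = 9)
    (hcomm : ∀ x ∈ (M : Subgroup Y), ∀ y ∈ (M : Subgroup Y), x * y = y * x)
    (hexp : ∀ x ∈ (M : Subgroup Y), x ^ 3 = 1)
    (hcent : ∀ m ∈ (M : Subgroup Y), m ≠ 1 →
      Subgroup.centralizer ({m} : Set Y) = (M : Subgroup Y))
    (hcore : Cfsg.pPrimeCore 3 Y = ⊥)
    (hN : Nat.card (Subgroup.normalizer ((M : Subgroup Y) : Set Y)) = 36)
    (hirr : ∀ V : Subgroup Y, V ≤ (M : Subgroup Y) → V ≠ ⊥ →
      (∀ g ∈ Subgroup.normalizer ((M : Subgroup Y) : Set Y), ∀ v ∈ V, g * v * g⁻¹ ∈ V) →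
      V = (M : Subgroup Y))
    (hclasses : ∃ a b : Y, a ∈ (M : Subgroup Y) ∧ b ∈ (M : Subgroup Y) ∧ a ≠ 1 ∧ b ≠ 1 ∧
      ∀ g : Y, g * a * g⁻¹ ≠ b) :
    (M : Subgroup Y).Normal ∨ Nonempty (Y ≃* alternatingGroup (Fin 6)) := by
  haveI : Fact (Nat.Prime 3) := ⟨Nat.prime_three⟩
  obtain ⟨a, b, ha, hb, ha1, hb1, hab⟩ := hclasses
  haveI : Nontrivial Y := ⟨⟨a, 1, ha1⟩⟩
  obtain ⟨U, hUn, hU1, hUmin⟩ := Subnormality.UniqueMaximal.exists_minimal_normal (G := Y)
  haveI := hUn
  -- conjugates of elements of order three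
  have intoM : ∀ x : Y, x ^ 3 = 1 → ∃ g : Y, g * x * g⁻¹ ∈ (M : Subgroup Y) := by
    intro x hx
    have hp : IsPGroup 3 (Subgroup.zpowers x) := by
      intro y
      obtain ⟨n, hn⟩ := Subgroup.mem_zpowers_iff.mp y.2
      refine ⟨1, Subtype.ext ?_⟩
      rw [Subgroup.coe_pow, ← hn, pow_one, ← zpow_natCast (x ^ n) 3, ← zpow_mul, mul_comm,
        zpow_mul, zpow_natCast, hx, one_zpow, Subgroup.coe_one]
    obtain ⟨R, hR⟩ := hp.exists_le_sylow
    obtain ⟨g, hg⟩ := MulAction.exists_smul_eq Y R M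
    refine ⟨g, ?_⟩
    rw [← hg, Sylow.coe_subgroup_smul]
    exact Subgroup.smul_mem_pointwise_smul x (MulAut.conj g) (R : Subgroup Y)
      (hR (Subgroup.mem_zpowers x))
  -- the minimal normal subgroup contains the Sylow subgroup
  have hMU : (M : Subgroup Y) ≤ U := by
    have h3 : 3 ∣ Nat.card U := by
      by_contra h
      exact hU1 (le_bot_iff.mp (hcore ▸ Cores.le_pPrimeCore_of_not_dvd h))
    obtain ⟨x, hx⟩ := exists_prime_orderOf_dvd_card' 3 h3
    rw [← Subgroup.orderOf_coe] at hx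
    obtain ⟨g, hg⟩ := intoM (x : Y) (hx ▸ pow_orderOf_eq_one _)
    have hgU : g * (x : Y) * g⁻¹ ∈ U := hUn.conj_mem _ x.2 g
    have hne : g * (x : Y) * g⁻¹ ≠ 1 := fun h => by
      rw [conj_eq_one_iff.mp h, orderOf_one] at hx
      omega
    have heq := hirr ((M : Subgroup Y) ⊓ U) inf_le_left
      (fun h => hne (Subgroup.mem_bot.mp (h ▸ Subgroup.mem_inf.mpr ⟨hg, hgU⟩)))
      fun k hk v hv => Subgroup.mem_inf.mpr
        ⟨(Subgroup.mem_normalizer_iff.mp hk v).mp (Subgroup.mem_inf.mp hv).1,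
          hUn.conj_mem _ (Subgroup.mem_inf.mp hv).2 k⟩
    exact heq ▸ inf_le_right
  have hUab : (∀ x ∈ U, ∀ y ∈ U, x * y = y * x) → (M : Subgroup Y).Normal := by
    intro h
    have hle : U ≤ (M : Subgroup Y) := fun x hx => by
      rw [← hcent a ha ha1, Subgroup.mem_centralizer_singleton_iff]
      exact h x hx a (hMU ha)
    rwa [← le_antisymm hle hMU]
  haveI : Nontrivial U := (Subgroup.nontrivial_iff_ne_bot U).mpr hU1
  obtain ⟨S, n, -, hS, hn, ⟨φ⟩⟩ := CharSimple.exists_mulEquiv_pi_of_charSimple U fun H hH => by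
    by_cases hb : H = ⊥
    · exact Or.inl hb
    refine Or.inr ?_
    have hmap : (H.map U.subtype).Normal := ConjAct.normal_of_characteristic_of_normal
    have := hUmin _ hmap (Subgroup.map_subtype_le H)
      (fun h => hb ((Subgroup.map_eq_bot_iff_of_injective _ U.subtype_injective).mp h))
    rw [eq_top_iff]
    rintro x -
    obtain ⟨y, hy, hyx⟩ := this.symm.le x.2
    exact Subtype.ext hyx ▸ hy
  haveI := hS
  by_cases hSc : ∀ s t : S, s * t = t * s
  · exact Or.inl (hUab fun x hx y hy => congrArg Subtype.val (φ.injective (funext fun i => by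
      simp only [map_mul, Pi.mul_apply]; exact hSc _ _) : (⟨x, hx⟩ * ⟨y, hy⟩ : U) = ⟨y, hy⟩ * ⟨x, hx⟩))
  refine Or.inr ?_
  have hn1 : n = 1 := by
    by_contra hne
    have h3 : 3 ∣ Nat.card S := by
      have h1 : 3 ∣ Nat.card U :=
        dvd_trans (by rw [h9]; norm_num) (Subgroup.card_dvd_of_le hMU)
      rw [Nat.card_congr φ.toEquiv, Nat.card_pi, Finset.prod_const] at h1
      exact Nat.prime_three.dvd_of_dvd_pow h1
    obtain ⟨s, hs⟩ := exists_prime_orderOf_dvd_card' 3 h3
    let i : Fin n := ⟨0, by omega⟩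
    let k : Fin n := ⟨1, by omega⟩
    have hik : i ≠ k := fun h => by simp [i, k] at h
    set m : U := φ.symm (Pi.mulSingle i s) with hm
    have hm3 : (m : Y) ^ 3 = 1 := by
      rw [← Subgroup.coe_pow, hm, ← map_pow, ← Pi.mulSingle_pow, ← hs, pow_orderOf_eq_one,
        Pi.mulSingle_one, map_one, Subgroup.coe_one]
    have hm1 : (m : Y) ≠ 1 := by
      intro h
      have h' : (Pi.mulSingle i s : Fin n → S) = 1 := by
        have := congrArg φ (Subtype.ext h : m = 1)
        rwa [hm, φ.apply_symm_apply, map_one] at this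
      rw [Pi.mulSingle_eq_one_iff] at h'
      rw [h', orderOf_one] at hs
      omega
    obtain ⟨g, hg⟩ := intoM (m : Y) hm3
    have hgm : g * (m : Y) * g⁻¹ ≠ 1 := fun h => hm1 (conj_eq_one_iff.mp h)
    refine hSc fun s' t' => ?_
    have key : ∀ u : S, g * ((φ.symm (Pi.mulSingle k u) : U) : Y) * g⁻¹ ∈ (M : Subgroup Y) := by
      intro u
      rw [← hcent _ hg hgm, Subgroup.mem_centralizer_singleton_iff]
      have hc : ((φ.symm (Pi.mulSingle k u) : U) : Y) * (m : Y) =
          (m : Y) * ((φ.symm (Pi.mulSingle k u) : U) : Y) := by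
        rw [← Subgroup.coe_mul, ← Subgroup.coe_mul, hm, ← map_mul, ← map_mul,
          ((Pi.mulSingle_commute (f := fun _ : Fin n => S) hik.symm u s).eq)]
      calc g * ((φ.symm (Pi.mulSingle k u) : U) : Y) * g⁻¹ * (g * (m : Y) * g⁻¹)
          = g * (((φ.symm (Pi.mulSingle k u) : U) : Y) * (m : Y)) * g⁻¹ := by group
        _ = g * ((m : Y) * ((φ.symm (Pi.mulSingle k u) : U) : Y)) * g⁻¹ := by rw [hc]
        _ = _ := by group
    have h2 := hcomm _ (key s') _ (key t')
    have h3' : ((φ.symm (Pi.mulSingle k s') : U) : Y) * ((φ.symm (Pi.mulSingle k t') : U) : Y) =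
        ((φ.symm (Pi.mulSingle k t') : U) : Y) * ((φ.symm (Pi.mulSingle k s') : U) : Y) := by
      have := congrArg (fun z => g⁻¹ * z * g) h2
      simpa [mul_assoc] using this
    rw [← Subgroup.coe_mul, ← Subgroup.coe_mul, ← map_mul, ← map_mul, ← Pi.mulSingle_mul,
      ← Pi.mulSingle_mul] at h3'
    exact Pi.mulSingle_injective k (φ.symm.injective (Subtype.ext h3'))
  subst hn1
  haveI : IsSimpleGroup U := (φ.trans (MulEquiv.piUnique fun _ : Fin 1 => (S : Type u))).isSimpleGroup
  have hUc : ¬ ∀ x y : U, x * y = y * x := fun h => hSc fun s t => by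
    have := congrArg (fun f : Fin 1 → S => f 0)
      (congrArg φ (h (φ.symm fun _ => s) (φ.symm fun _ => t)))
    simpa using this
  set P : Sylow 3 U := M.subtype hMU with hP
  have hPm : ∀ x : U, x ∈ (P : Subgroup U) ↔ (x : Y) ∈ (M : Subgroup Y) := fun x => by
    rw [hP, Sylow.coe_subtype, Subgroup.mem_subgroupOf]
  have hP9 : Nat.card (P : Subgroup U) = 9 := by
    rw [hP, Sylow.coe_subtype, Nat.card_congr (Subgroup.subgroupOfEquivOfLe hMU).toEquiv, h9]
  have hPc : IsMulCommutative (P : Subgroup U) := ⟨⟨fun x y => Subtype.ext (Subtype.ext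
    (hcomm _ ((hPm _).mp x.2) _ ((hPm _).mp y.2)))⟩⟩
  obtain ⟨e⟩ := Cfsg.Agent.S3341.result P (P : Subgroup U) rfl hPc
    (fun x hx => Subtype.ext (hexp _ ((hPm x).mp hx))) hP9
    ⟨⟨a, hMU ha⟩, ⟨b, hMU hb⟩,
      by rw [← Subgroup.orderOf_coe]; exact orderOf_eq_prime (hexp a ha) ha1,
      by rw [← Subgroup.orderOf_coe]; exact orderOf_eq_prime (hexp b hb) hb1,
      fun g h => hab g (congrArg Subtype.val h)⟩
    (fun s hs hs1 => by
      ext x
      rw [Subgroup.mem_centralizer_singleton_iff, hPm, ← hcent (s : Y) ((hPm s).mp hs)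
        (fun h => hs1 (Subtype.ext h)), Subgroup.mem_centralizer_singleton_iff, Subtype.ext_iff]
      rfl)
  have h360 : Nat.card U = 360 := by
    rw [Nat.card_congr e.toEquiv, nat_card_alternatingGroup, Nat.card_fin]
    rfl
  -- the normaliser lies in the minimal normal subgroup
  set N := Subgroup.normalizer ((M : Subgroup Y) : Set Y) with hNdef
  have hMN : (M : Subgroup Y) ≤ N ⊓ U := le_inf Subgroup.le_normalizer hMU
  have hd9 : 9 ∣ Nat.card (N ⊓ U : Subgroup Y) := h9 ▸ Subgroup.card_dvd_of_le hMN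
  have hd36 : Nat.card (N ⊓ U : Subgroup Y) ∣ 36 := hN ▸ Subgroup.card_dvd_of_le inf_le_left
  have hNP : Nat.card (Subgroup.normalizer ((P : Subgroup U) : Set U)) =
      Nat.card (N ⊓ U : Subgroup Y) := by
    refine Nat.card_congr
      { toFun := fun x => ⟨((x : U) : Y), Subgroup.mem_inf.mpr ⟨?_, (x : U).2⟩⟩
        invFun := fun x => ⟨⟨x, (Subgroup.mem_inf.mp x.2).2⟩, ?_⟩
        left_inv := fun x => rfl
        right_inv := fun x => rfl }
    · refine Subgroup.mem_normalizer_iff.mpr fun t => ?_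
      have hn := Subgroup.mem_normalizer_iff.mp x.2
      constructor
      · intro ht
        exact (hPm _).mp ((hn ⟨t, hMU ht⟩).mp ((hPm _).mpr ht))
      · intro ht
        have htU : t ∈ U := by
          have := mul_mem (mul_mem (inv_mem (x : U).2) (hMU ht)) (x : U).2
          simpa [mul_assoc] using this
        exact (hPm _).mp ((hn ⟨t, htU⟩).mpr ((hPm _).mpr ht))
    · refine Subgroup.mem_normalizer_iff.mpr fun t => ?_
      rw [hPm, hPm]
      exact Subgroup.mem_normalizer_iff.mp (Subgroup.mem_inf.mp x.2).1 (t : Y)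
  have hcases : Nat.card (N ⊓ U : Subgroup Y) = 36 := by
    obtain ⟨c, hc⟩ := hd9
    rw [hc] at hd36 hNP ⊢
    have hc4 : c ∣ 4 := Nat.dvd_of_mul_dvd_mul_left (by norm_num : 0 < 9) hd36
    have hmod := card_sylow_modEq_one 3 U
    have hidx : Nat.card (Sylow 3 U) * (9 * c) = 360 := by
      rw [P.card_eq_index_normalizer, ← hNP, ← h360]
      exact Subgroup.index_mul_card _
    have hcpos : 0 < c := Nat.pos_of_ne_zero fun h => by simp [h] at hidx
    have hc4' := Nat.le_of_dvd (by norm_num) hc4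
    obtain rfl | rfl | rfl : c = 1 ∨ c = 2 ∨ c = 4 := by interval_cases c <;> simp_all
    · exfalso
      have hle : (P : Subgroup U) = Subgroup.normalizer ((P : Subgroup U) : Set U) :=
        Subgroup.eq_of_le_of_card_ge Subgroup.le_normalizer (by rw [hNP, hP9])
      obtain ⟨Q, K, hKn, hK⟩ := Transfer.Fusion.hasNormalPComplement_of_controls P
        fun x hx g hy => by
          obtain ⟨v, hv, he⟩ := Transfer.Fusion.controls_of_isMulCommutative P hPc x hx g hy
          refine ⟨v, ?_, he⟩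
          change v ∈ (P : Subgroup U)
          rw [hle]; exact hv
      have hQ9 : Nat.card (Q : Subgroup U) = 9 := by
        rw [Nat.card_congr (Sylow.equiv Q P).toEquiv, hP9]
      have hKc := hK.card_mul
      rw [hQ9, h360] at hKc
      rcases IsSimpleGroup.eq_bot_or_eq_top_of_normal K hKn with h | h
      · rw [h, Subgroup.card_bot] at hKc; omega
      · rw [h, Subgroup.card_top, h360] at hKc; omega
    · exfalso
      have : Nat.card (Sylow 3 U) = 20 := by omega
      rw [this] at hmod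
      exact absurd hmod (by decide)
    · rfl
  have hNU : N ≤ U := by
    have : N ⊓ U = N := Subgroup.eq_of_le_of_card_ge inf_le_left (by rw [hN, hcases])
    exact this ▸ inf_le_right
  have htop : U = ⊤ := by
    have h := Sylow.normalizer_sup_eq_top P
    have hmap : ((P : Subgroup U).map U.subtype) = (M : Subgroup Y) := by
      ext x
      constructor
      · rintro ⟨y, hy, rfl⟩; exact (hPm y).mp hy
      · intro hx; exact ⟨⟨x, hMU hx⟩, (hPm _).mpr hx, rfl⟩
    rw [hmap, sup_eq_right.mpr hNU] at h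
    exact h
  exact ⟨((MulEquiv.subgroupCongr htop).trans Subgroup.topEquiv).symm.trans e⟩

end Cfsg.Agent.Lib.A9Norm79.Nine
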