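import Cfsg.Agent.Lib.A9Norm79.CentZ
import Cfsg.Agent.Lib.A9Norm79.Nine
import Mathlib.GroupTheory.Transfer

/-!
# The centraliser of a single three-cycle
-/

set_option autoImplicit false

namespace Cfsg.Agent.Lib.A9Norm79

open Model
open scoped Pointwise

universe u

namespace Model

theorem cent_a_card :
    (Finset.univ.filter fun w : W => mel w.2 * jel (1, 0, 0) = jel (1, 0, 0) * mel w.2).card =
      108 := by decide +kernel

theorem stab_a : ∀ k : Fin 4 × Fin 6, mel k * jel (1, 0, 0) = jel (1, 0, 0) * mel k →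
    mel k ^ 4 = 1 := by decide +kernel

theorem cent_a_t : ∀ y z : Fin 3, (y, z) ≠ (0, 0) → ∀ k : Fin 4 × Fin 6,
    mel k * jel (1, 0, 0) = jel (1, 0, 0) * mel k → mel k * jel (0, y, z) = jel (0, y, z) * mel k →
    k = (0, 0) := by decide +kernel

theorem typ_shift : ∀ x y z : Fin 3,
    jel (0, y, z) * jel (x, 0, 0) = jel (x, y, z) ∧ (x ≠ 0 → typ (x, y, z) ≠ typ (0, y, z)) ∧
      jel (1, 0, 0) ^ (x : ℕ) = jel (x, 0, 0) := by decide +kernel

theorem rot_span : ∃ k : Fin 4 × Fin 6, mel k * jel (1, 0, 0) = jel (1, 0, 0) * mel k ∧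
    ∀ y z : Fin 3, (y, z) ≠ (0, 0) → ∃ i, mel k * jel (0, y, z) = jel i * mel k ∧
      ∀ u v : Fin 3, ∃ p q : Fin 3, jel (0, y, z) ^ (p : ℕ) * jel i ^ (q : ℕ) = jel (0, u, v) := by
  decide +kernel

theorem jel_fst : ∀ i k l, jel i * jel k = jel l → l.1 = i.1 + k.1 := by decide +kernel

end Model

namespace Cfg

variable {G : Type u} [Group G] [Finite G] (C : Cfg G)

theorem j_mul {i k l : Fin 3 × Fin 3 × Fin 3} (h : jel i * jel k = jel l) :
    C.j i * C.j k = C.j l := by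
  rw [j, j, j, C.E_mul]
  rw [el_base, el_base, el_base, h]

theorem j_pow {i l : Fin 3 × Fin 3 × Fin 3} {n : ℕ} (h : jel i ^ n = jel l) :
    C.j i ^ n = C.j l := by
  rw [j, j, E, E, ← map_pow]
  refine congrArg C.φ (Subtype.ext ?_)
  show el _ ^ n = el _
  rw [el_base, el_base, h]

theorem j_zero : C.j (0, 0, 0) = 1 := by
  rw [j, E]
  exact (map_eq_one_iff _ C.inj).mpr (Subtype.ext (by simpa [el_base] using jel_gen.2.2.2))

/-- The centraliser is either in `N(J)` or the product with an alternating group. -/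
theorem centralizer_a_cases :
    Subgroup.centralizer ({C.j (1, 0, 0)} : Set G) ≤ Subgroup.normalizer (C.J : Set G) ∨
    ∃ K : Subgroup G, K ≤ Subgroup.centralizer ({C.j (1, 0, 0)} : Set G) ∧
      Nonempty (K ≃* alternatingGroup (Fin 6)) ∧
      Subgroup.zpowers (C.j (1, 0, 0)) ⊓ K = ⊥ ∧
      Subgroup.zpowers (C.j (1, 0, 0)) ⊔ K = Subgroup.centralizer ({C.j (1, 0, 0)} : Set G) := by
  classical
  haveI : Fact (Nat.Prime 3) := ⟨Nat.prime_three⟩
  set a := C.j (1, 0, 0) with ha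
  set X := Subgroup.centralizer ({a} : Set G) with hX
  have hJX : C.J ≤ X := C.J_le_centralizer_j _
  have haJ : a ∈ C.J := C.j_mem _
  set PJ := C.J.subgroupOf X with hPJ
  have hPJp : IsPGroup 3 PJ := IsPGroup.of_card (p := 3) (n := 3) (by
    rw [Nat.card_congr (Subgroup.subgroupOfEquivOfLe hJX).toEquiv, C.card_J]; norm_num)
  have hHX : ∀ w : W, C.E w ∈ X ↔ mel w.2 * jel (1, 0, 0) = jel (1, 0, 0) * mel w.2 := fun w => by
    rw [Subgroup.mem_centralizer_singleton_iff, ha, C.comm_E_j_iff]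
  obtain ⟨P, hP⟩ := exists_sylow_of_normalizer PJ hPJp (by
    rintro g hg ⟨k, hk⟩
    have hk' : (g : G) ^ 3 ^ k = 1 := by rw [← Subgroup.coe_pow, hk, Subgroup.coe_one]
    obtain ⟨w, hw⟩ := C.exists_E (C.mem_normalizer_J_of_map hJX hg)
    have h4 := stab_a w.2 ((hHX w).mp (hw ▸ g.2))
    rw [← hw] at hk'
    set u := C.E ((0, 0, 0), w.2) with hu
    have hwu : C.E w = C.j w.1 * u := by
      rw [hu, j, C.E_mul]
      rw [el_base, el, el, jel_gen.2.2.2, one_mul]
    have hu4 : u ^ 4 = 1 := (C.E_pow_eq_one_iff _ _).mpr (by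
      rw [el, jel_gen.2.2.2, one_mul]; exact h4)
    have hN := C.E_mem ((0, 0, 0), w.2)
    have hind : ∀ n : ℕ, C.E w ^ n * (u ^ n)⁻¹ ∈ C.J := by
      intro n
      induction n with
      | zero => simpa using one_mem C.J
      | succ n ih =>
        have he : C.E w ^ (n + 1) * (u ^ (n + 1))⁻¹ =
            (C.E w ^ n * (u ^ n)⁻¹) * (u ^ n * C.j w.1 * (u ^ n)⁻¹) := by
          rw [pow_succ, pow_succ]
          nth_rewrite 2 [hwu]
          group
        rw [he]
        exact mul_mem ih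
          ((Subgroup.mem_normalizer_iff.mp (pow_mem hN n) _).mp (C.j_mem _))
    have h4J : C.E w ^ 4 ∈ C.J := by simpa [hu4] using hind 4
    obtain ⟨m, hm⟩ := exists_pow_eq_self_of_coprime (x := C.E w) (n := 4)
      (Nat.Coprime.coprime_dvd_right (orderOf_dvd_of_pow_eq_one hk')
        (Nat.Coprime.pow_right k (by norm_num)))
    exact Subgroup.mem_subgroupOf.mpr (hw ▸ hm ▸ pow_mem h4J m))
  set aX : X := ⟨a, hJX haJ⟩ with haX
  set Z := Subgroup.zpowers aX with hZ
  have hZc : ∀ z ∈ Z, ∀ g : X, g * z = z * g := by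
    intro z hz g
    obtain ⟨n, rfl⟩ := Subgroup.mem_zpowers_iff.mp hz
    refine (Commute.zpow_right ?_ n).eq
    exact Subtype.ext (Subgroup.mem_centralizer_singleton_iff.mp g.2)
  haveI : Z.Normal := ⟨fun n hn g => by rw [hZc n hn g, mul_inv_cancel_right]; exact hn⟩
  have hZp : IsPGroup 3 Z := hPJp.to_le (Subgroup.zpowers_le.mpr (Subgroup.mem_subgroupOf.mpr haJ))
  set f := QuotientGroup.mk' Z with hf
  have haX3 : aX ^ 3 = 1 := Subtype.ext (C.J_pow a haJ)
  have hZmem : ∀ g : X, f g = 1 → ∃ n : Fin 3, (g : G) = C.j (n, 0, 0) := by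
    intro g hg
    obtain ⟨k, hk⟩ := exists_pow_lt_three haX3 ((QuotientGroup.eq_one_iff g).mp hg)
    refine ⟨k, ?_⟩
    rw [← hk, Subgroup.coe_pow]
    show a ^ (k : ℕ) = _
    rw [ha, C.j_pow (typ_shift k 0 0).2.2]
  have hZle : ∀ g : X, g ∈ Z → (g : G) ∈ C.J := fun g hg => by
    obtain ⟨n, hn⟩ := hZmem g ((QuotientGroup.eq_one_iff g).mpr hg)
    rw [hn]; exact C.j_mem _
  set Q := P.mapSurjective (f := f) (QuotientGroup.mk'_surjective Z) with hQdef
  let jX : Fin 3 × Fin 3 × Fin 3 → X := fun i => ⟨C.j i, hJX (C.j_mem i)⟩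
  have hQ : ∀ y, y ∈ (Q : Subgroup (X ⧸ Z)) ↔ ∃ y' z', f (jX (0, y', z')) = y := by
    intro y
    show y ∈ (P : Subgroup X).map f ↔ _
    rw [hP]
    constructor
    · rintro ⟨x, hx, rfl⟩
      obtain ⟨⟨i1, i2, i3⟩, hi⟩ := C.exists_j (Subgroup.mem_subgroupOf.mp hx)
      refine ⟨i2, i3, ?_⟩
      have hx' : x = jX (0, i2, i3) * aX ^ (i1 : ℕ) := Subtype.ext (by
        show (x : G) = C.j (0, i2, i3) * a ^ (i1 : ℕ)
        rw [ha, C.j_pow (typ_shift i1 i2 i3).2.2, C.j_mul (typ_shift i1 i2 i3).1, hi])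
      rw [hx', map_mul, show f (aX ^ (i1 : ℕ)) = 1 from
        (QuotientGroup.eq_one_iff _).mpr (pow_mem (Subgroup.mem_zpowers _) _), mul_one]
    · rintro ⟨y', z', rfl⟩
      exact ⟨_, Subgroup.mem_subgroupOf.mpr (C.j_mem _), rfl⟩
  have hpre : ∀ t : X, f t ∈ (Q : Subgroup (X ⧸ Z)) ↔ (t : G) ∈ C.J := by
    intro t
    constructor
    · intro h
      obtain ⟨y, z, hyz⟩ := (hQ _).mp h
      have h2 : (jX (0, y, z))⁻¹ * t ∈ Z :=
        (QuotientGroup.eq_one_iff _).mp (show f ((jX (0, y, z))⁻¹ * t) = 1 by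
          rw [map_mul, map_inv, hyz, inv_mul_cancel])
      have := mul_mem (C.j_mem (0, y, z)) (hZle _ h2)
      simpa [jX] using this
    · intro h
      show f t ∈ (P : Subgroup X).map f
      exact ⟨t, hP.ge (Subgroup.mem_subgroupOf.mpr h), rfl⟩
  have hQ9 : Nat.card (Q : Subgroup (X ⧸ Z)) = 9 := by
    have hbij : Function.Bijective (fun p : Fin 3 × Fin 3 =>
        (⟨f (jX (0, p.1, p.2)), (hQ _).mpr ⟨p.1, p.2, rfl⟩⟩ : (Q : Subgroup (X ⧸ Z)))) := by
      refine ⟨fun p q e => ?_, fun y => ?_⟩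
      · obtain ⟨n, hn⟩ := hZmem ((jX (0, p.1, p.2))⁻¹ * jX (0, q.1, q.2))
          (by rw [map_mul, map_inv, show f (jX (0, p.1, p.2)) = f (jX (0, q.1, q.2)) from
            congrArg Subtype.val e, inv_mul_cancel])
        have h2 : C.j (0, q.1, q.2) = C.j (n, p.1, p.2) := by
          rw [← C.j_mul (typ_shift n p.1 p.2).1, ← hn]
          simp [jX]
        have h3 := Prod.ext_iff.mp (C.j_injective h2)
        exact (Prod.ext_iff.mpr ⟨(Prod.ext_iff.mp h3.2).1, (Prod.ext_iff.mp h3.2).2⟩).symm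
      · obtain ⟨y', z', h⟩ := (hQ _).mp y.2
        exact ⟨(y', z'), Subtype.ext h⟩
    rw [← Nat.card_congr (Equiv.ofBijective _ hbij)]
    simp [Nat.card_eq_fintype_card]
  have hQcomm : ∀ y ∈ (Q : Subgroup (X ⧸ Z)), ∀ y' ∈ (Q : Subgroup (X ⧸ Z)), y * y' = y' * y := by
    intro y hy y' hy'
    obtain ⟨p, q, rfl⟩ := (hQ y).mp hy
    obtain ⟨p', q', rfl⟩ := (hQ y').mp hy'
    rw [← map_mul, ← map_mul]
    exact congrArg f (Subtype.ext (C.J_comm (C.j_mem _) (C.j_mem _)))
  have hQexp : ∀ y ∈ (Q : Subgroup (X ⧸ Z)), y ^ 3 = 1 := by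
    intro y hy
    obtain ⟨p, q, rfl⟩ := (hQ y).mp hy
    rw [← map_pow, show jX (0, p, q) ^ 3 = 1 from Subtype.ext (C.J_pow _ (C.j_mem _)), map_one]
  have hpre0 : ∀ {y z : Fin 3}, f (jX (0, y, z)) ≠ 1 → (y, z) ≠ (0, 0) := by
    intro y z h e
    obtain ⟨rfl, rfl⟩ := Prod.ext_iff.mp e
    exact h (by rw [show jX (0, 0, 0) = 1 from Subtype.ext C.j_zero, map_one])
  have hQcent : ∀ m ∈ (Q : Subgroup (X ⧸ Z)), m ≠ 1 →
      Subgroup.centralizer ({m} : Set (X ⧸ Z)) = (Q : Subgroup (X ⧸ Z)) := by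
    intro m hm hm1
    obtain ⟨y, z, rfl⟩ := (hQ m).mp hm
    refine le_antisymm (fun x hx => ?_) fun x hx =>
      Subgroup.mem_centralizer_singleton_iff.mpr (hQcomm x hx _ hm)
    obtain ⟨g, rfl⟩ := QuotientGroup.mk'_surjective Z x
    rw [Subgroup.mem_centralizer_singleton_iff] at hx
    replace hx : f g * f (jX (0, y, z)) = f (jX (0, y, z)) * f g := hx
    obtain ⟨n, hn⟩ := hZmem (g * jX (0, y, z) * g⁻¹ * (jX (0, y, z))⁻¹)
      (by rw [map_mul, map_mul, map_mul, map_inv, map_inv, hx, mul_inv_cancel_right,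
        mul_inv_cancel])
    have hgt : (g : G) * C.j (0, y, z) * (g : G)⁻¹ = C.j (n, y, z) := by
      rw [← C.j_mul (typ_shift n y z).1, ← hn]
      simp only [jX, Subgroup.coe_mul, Subgroup.coe_inv]
      rw [← mul_assoc (C.j (0, y, z))]
      have hcm : C.j (0, y, z) * ((g : G) * C.j (0, y, z) * (g : G)⁻¹ * (C.j (0, y, z))⁻¹) =
          (g : G) * C.j (0, y, z) * (g : G)⁻¹ * (C.j (0, y, z))⁻¹ * C.j (0, y, z) := by
        rw [show (g : G) * C.j (0, y, z) * (g : G)⁻¹ * (C.j (0, y, z))⁻¹ = C.j (n, 0, 0) from hn]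
        exact C.j_comm _ _
      simp only [mul_assoc] at hcm ⊢
      rw [hcm]; simp
    have hn0 : n = 0 := by
      by_contra h
      exact (typ_shift n y z).2.1 h
        ((C.isConj_j_iff _ _).mp (isConj_iff.mpr ⟨(g : G), hgt⟩)).symm
    subst hn0
    have hcom : (g : G) * C.j (0, y, z) = C.j (0, y, z) * (g : G) := mul_inv_eq_iff_eq_mul.mp hgt
    have hga : (g : G) * a = a * (g : G) := Subgroup.mem_centralizer_singleton_iff.mp g.2
    have hgN : (g : G) ∈ Subgroup.normalizer (C.J : Set G) := by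
      by_cases h2 : typ (0, y, z) = 2
      · exact C.centralizer_typ_two_le h2 (Subgroup.mem_centralizer_singleton_iff.mpr hcom)
      · refine C.centralizer_typ_two_le (i := (1, y, z)) ((by decide +kernel :
          ∀ y z : Fin 3, (y, z) ≠ (0, 0) → typ (0, y, z) ≠ 2 → typ (1, y, z) = 2) y z (hpre0 hm1) h2) ?_
        rw [Subgroup.mem_centralizer_singleton_iff, ← C.j_mul (typ_shift 1 y z).1]
        exact ((show Commute (g : G) _ from hcom).mul_right (show Commute (g : G) _ from hga)).eq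
    obtain ⟨w, hw⟩ := C.exists_E hgN
    rw [← hw] at hcom hga
    refine (hpre g).mpr (hw ▸ (C.E_mem_J_iff w).mpr (cent_a_t y z (hpre0 hm1) w.2 ?_ ?_))
    · exact (C.comm_E_j_iff w _).mp hga
    · exact (C.comm_E_j_iff w _).mp hcom
  have hnorm : ∀ g : X, f g ∈ Subgroup.normalizer ((Q : Subgroup (X ⧸ Z)) : Set (X ⧸ Z)) ↔
      (g : G) ∈ Subgroup.normalizer (C.J : Set G) := by
    intro g
    constructor
    · intro hg
      refine Subgroup.mem_normalizer_iff.mpr fun t => ?_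
      have hn := Subgroup.mem_normalizer_iff.mp hg
      constructor
      · intro ht
        refine (hpre (g * ⟨t, hJX ht⟩ * g⁻¹)).mp ?_
        rw [map_mul, map_mul, map_inv]
        exact (hn _).mp ((hpre _).mpr ht)
      · intro ht
        have htX : t ∈ X := by
          have := mul_mem (mul_mem (inv_mem g.2) (hJX ht)) g.2
          simpa [mul_assoc] using this
        refine (hpre ⟨t, htX⟩).mp ((hn _).mpr ?_)
        rw [← map_inv, ← map_mul, ← map_mul]
        exact (hpre _).mpr ht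
    · intro hg
      refine Subgroup.mem_normalizer_iff.mpr fun y => ?_
      obtain ⟨t, rfl⟩ := QuotientGroup.mk'_surjective Z y
      rw [← map_inv, ← map_mul, ← map_mul, hpre, hpre]
      exact Subgroup.mem_normalizer_iff.mp hg t
  have hQN : Nat.card (Subgroup.normalizer ((Q : Subgroup (X ⧸ Z)) : Set (X ⧸ Z))) = 36 := by
    set T := (Subgroup.normalizer (C.J : Set G)).subgroupOf X with hT
    have hTcard : Nat.card T = 108 := by
      have hbij : Function.Bijective (fun w : {w : W //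
          w ∈ Finset.univ.filter fun w : W =>
            mel w.2 * jel (1, 0, 0) = jel (1, 0, 0) * mel w.2} =>
          (⟨⟨C.E w.1, (hHX w.1).mpr (Finset.mem_filter.mp w.2).2⟩,
            Subgroup.mem_subgroupOf.mpr (C.E_mem _)⟩ : T)) := by
        refine ⟨fun v v' e => Subtype.ext (C.E_injective
          (congrArg (fun x : T => ((x : X) : G)) e)), fun x => ?_⟩
        obtain ⟨w, hw⟩ := C.exists_E (Subgroup.mem_subgroupOf.mp x.2)
        exact ⟨⟨w, Finset.mem_filter.mpr ⟨Finset.mem_univ _, (hHX w).mp (hw ▸ (x : X).2)⟩⟩,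
          Subtype.ext (Subtype.ext hw)⟩
      rw [← Nat.card_congr (Equiv.ofBijective _ hbij), Nat.card_eq_finsetCard, cent_a_card]
    have hZ3 : Nat.card Z = 3 := by
      rw [hZ, Nat.card_zpowers]
      refine orderOf_eq_prime haX3 fun h => ?_
      exact absurd (C.j_injective ((congrArg Subtype.val h).trans C.j_zero.symm)) (by decide)
    have hker : (f.comp T.subtype).ker = Z.subgroupOf T := by
      ext x
      rw [MonoidHom.mem_ker, Subgroup.mem_subgroupOf, MonoidHom.comp_apply]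
      exact QuotientGroup.eq_one_iff _
    have hr : (f.comp T.subtype).range =
        Subgroup.normalizer ((Q : Subgroup (X ⧸ Z)) : Set (X ⧸ Z)) := by
      ext y
      constructor
      · rintro ⟨x, rfl⟩
        exact (hnorm _).mpr (Subgroup.mem_subgroupOf.mp x.2)
      · intro hy
        obtain ⟨g, rfl⟩ := QuotientGroup.mk'_surjective Z y
        exact ⟨⟨g, Subgroup.mem_subgroupOf.mpr ((hnorm g).mp hy)⟩, rfl⟩
    have h := (f.comp T.subtype).ker.card_mul_index
    rw [Subgroup.index_ker, hr, hker, Nat.card_congr (Subgroup.subgroupOfEquivOfLe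
      (fun z hz => Subgroup.mem_subgroupOf.mpr (Subgroup.le_normalizer (hZle z hz)))).toEquiv,
      hZ3, hTcard] at h
    omega
  have hirr : ∀ V : Subgroup (X ⧸ Z), V ≤ (Q : Subgroup (X ⧸ Z)) → V ≠ ⊥ →
      (∀ g ∈ Subgroup.normalizer ((Q : Subgroup (X ⧸ Z)) : Set (X ⧸ Z)), ∀ v ∈ V,
        g * v * g⁻¹ ∈ V) → V = (Q : Subgroup (X ⧸ Z)) := by
    intro V hV hV1 hinv
    obtain ⟨k, hk, hspan⟩ := rot_span
    obtain ⟨v, hv, hv1⟩ := (Subgroup.bot_or_exists_ne_one V).resolve_left hV1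
    obtain ⟨y, z, rfl⟩ := (hQ v).mp (hV hv)
    obtain ⟨i, hi, hsp⟩ := hspan y z (hpre0 hv1)
    set u : X := ⟨C.E ((0, 0, 0), k), (hHX _).mpr hk⟩ with hu
    have hconj : u * jX (0, y, z) * u⁻¹ = jX i := by
      refine Subtype.ext ?_
      show C.E _ * C.j _ * (C.E _)⁻¹ = C.j _
      rw [mul_inv_eq_iff_eq_mul, j, j, E, E, E, ← map_mul, ← map_mul]
      refine congrArg C.φ (Subtype.ext ?_)
      show el _ * el _ = el _ * el _
      rw [el_base, el_base, el, jel_gen.2.2.2, one_mul]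
      exact hi
    have hw : f (jX i) ∈ V := by
      rw [← hconj, map_mul, map_mul, map_inv]
      exact hinv _ ((hnorm u).mpr (C.E_mem _)) _ hv
    refine le_antisymm hV fun q hq => ?_
    obtain ⟨u', v', rfl⟩ := (hQ q).mp hq
    obtain ⟨p, q', hpq⟩ := hsp u' v'
    have : jX (0, u', v') = jX (0, y, z) ^ (p : ℕ) * jX i ^ (q' : ℕ) := by
      refine Subtype.ext ?_
      show C.j _ = C.j _ ^ _ * C.j _ ^ _
      rw [j, j, j, E, E, E, ← map_pow, ← map_pow, ← map_mul]
      refine congrArg C.φ (Subtype.ext ?_)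
      show el _ = el _ ^ _ * el _ ^ _
      rw [el_base, el_base, el_base, hpq]
    rw [this, map_mul, map_pow, map_pow]
    exact mul_mem (pow_mem hv _) (pow_mem hw _)
  have hcore := C.core_j (1, 0, 0) (by decide)
  have hclasses : ∃ p q : X ⧸ Z, p ∈ (Q : Subgroup (X ⧸ Z)) ∧ q ∈ (Q : Subgroup (X ⧸ Z)) ∧
      p ≠ 1 ∧ q ≠ 1 ∧ ∀ g, g * p * g⁻¹ ≠ q := by
    have hne : ∀ y z : Fin 3, (y, z) ≠ (0, 0) → f (jX (0, y, z)) ≠ 1 := by
      intro y z h e
      obtain ⟨n, hn⟩ := hZmem _ e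
      exact h (Prod.ext_iff.mp (C.j_injective (show C.j (0, y, z) = C.j (n, 0, 0) from hn))).2
    refine ⟨f (jX (0, 1, 1)), f (jX (0, 1, 0)), (hQ _).mpr ⟨1, 1, rfl⟩, (hQ _).mpr ⟨1, 0, rfl⟩,
      hne _ _ (by decide), hne _ _ (by decide), fun g hg => ?_⟩
    obtain ⟨x, rfl⟩ := QuotientGroup.mk'_surjective Z g
    replace hg : f x * f (jX (0, 1, 1)) * (f x)⁻¹ = f (jX (0, 1, 0)) := hg
    -- compare the types of the preimages
    obtain ⟨n, hn⟩ := hZmem (x⁻¹ * jX (0, 1, 0) * x * (jX (0, 1, 1))⁻¹)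
      (by rw [map_mul, map_mul, map_mul, map_inv, map_inv, ← hg]; group)
    have hx : (x : G)⁻¹ * C.j (0, 1, 0) * (x : G) = C.j (n, 1, 1) := by
      rw [← C.j_mul (typ_shift n 1 1).1, C.j_comm, ← hn]
      simp [jX]
    have htyp := (C.isConj_j_iff (0, 1, 0) (n, 1, 1)).mp
      (isConj_iff.mpr ⟨(x : G)⁻¹, by rw [inv_inv]; exact hx⟩)
    exact absurd htyp ((by decide +kernel : ∀ n : Fin 3, typ (0, 1, 0) ≠ typ (n, 1, 1)) n)
  rcases Nine.normal_or_alt Q hQ9 hQcomm hQexp hQcent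
    (quotient_core_eq_bot Z hZp hZc hcore _ (Cores.pPrimeCore_coprime 3)) hQN hirr hclasses
    with h | ⟨⟨e⟩⟩
  · left
    intro x hx
    exact (hnorm ⟨x, hx⟩).mp (by rw [Subgroup.normalizer_eq_top_iff.mpr h]; exact Subgroup.mem_top _)
  right
  -- a complement to `a`
  let co : ↥(P : Subgroup X) → Fin 3 × Fin 3 × Fin 3 := fun x =>
    (C.exists_j (Subgroup.mem_subgroupOf.mp (hP.le x.2))).choose
  have hco : ∀ x : (P : Subgroup X), C.j (co x) = ((x : X) : G) := fun x =>
    (C.exists_j (Subgroup.mem_subgroupOf.mp (hP.le x.2))).choose_spec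
  let ϕ : ↥(P : Subgroup X) →* Multiplicative (ZMod 3) :=
    { toFun := fun x => Multiplicative.ofAdd ((co x).1 : ZMod 3)
      map_one' := by
        have : co 1 = (0, 0, 0) := C.j_injective (by rw [hco, C.j_zero]; rfl)
        rw [this]; rfl
      map_mul' := fun x y => by
        obtain ⟨l, hl⟩ := jel_mul (co x) (co y)
        have : co (x * y) = l := C.j_injective (by rw [hco, ← C.j_mul hl, hco, hco]; rfl)
        rw [this]
        exact congrArg Multiplicative.ofAdd (jel_fst _ _ _ hl) }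
  set τ := MonoidHom.transfer ϕ with hτ
  have haP : aX ∈ (P : Subgroup X) := hP.ge (Subgroup.mem_subgroupOf.mpr haJ)
  have hco1 : co ⟨aX, haP⟩ = (1, 0, 0) := C.j_injective (by rw [hco])
  have hτa : τ aX ≠ 1 := by
    rw [hτ, MonoidHom.transfer_eq_pow ϕ aX fun k g₀ _ => by
      rw [mul_assoc, (Commute.pow_right (show Commute g₀ aX from
        hZc aX (Subgroup.mem_zpowers _) g₀) k).eq.symm, inv_mul_cancel_left]]
    intro h
    rw [show (⟨aX ^ (P : Subgroup X).index, MonoidHom.transfer_eq_pow_aux aX fun k g₀ _ => by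
      rw [mul_assoc, (Commute.pow_right (show Commute g₀ aX from
        hZc aX (Subgroup.mem_zpowers _) g₀) k).eq.symm, inv_mul_cancel_left]⟩ :
          (P : Subgroup X)) = (⟨aX, haP⟩ : (P : Subgroup X)) ^ (P : Subgroup X).index from
      Subtype.ext rfl, map_pow] at h
    have h3 : ϕ ⟨aX, haP⟩ ^ 3 = 1 := by
      rw [← map_pow, show (⟨aX, haP⟩ : (P : Subgroup X)) ^ 3 = 1 from Subtype.ext haX3, map_one]
    have h1 : ϕ ⟨aX, haP⟩ = 1 := by
      have hg : ϕ ⟨aX, haP⟩ ^ (P : Subgroup X).index.gcd 3 = 1 := pow_gcd_eq_one.mpr ⟨h, h3⟩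
      rwa [Nat.Coprime.gcd_eq_one ((Nat.prime_three.coprime_iff_not_dvd.mpr P.not_dvd_index).symm),
        pow_one] at hg
    have : ((co ⟨aX, haP⟩).1 : ZMod 3) = 0 := h1
    rw [hco1] at this
    exact absurd this (by decide)
  set K := τ.ker with hK
  have haK : aX ∉ K := hτa
  have hinf : Z ⊓ K = ⊥ := by
    rw [Subgroup.eq_bot_iff_forall]
    intro x hx
    obtain ⟨hxZ, hxK⟩ := Subgroup.mem_inf.mp hx
    obtain ⟨k, hk⟩ := exists_pow_lt_three haX3 hxZ
    obtain rfl | rfl | rfl := (by decide : ∀ k : Fin 3, k = 0 ∨ k = 1 ∨ k = 2) k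
    · exact hk.symm.trans (pow_zero _)
    · exact absurd ((pow_one aX).symm.trans hk ▸ hxK) haK
    · refine absurd ?_ haK
      have := pow_mem hxK 2
      rw [← hk, ← pow_mul, show ((2 : Fin 3) : ℕ) * 2 = 3 + 1 from rfl, pow_succ, haX3,
        one_mul] at this
      exact this
  have hsup : Z ⊔ K = ⊤ := by
    rw [eq_top_iff]
    intro x _
    have hrange : ∀ y : Multiplicative (ZMod 3), y ∈ Subgroup.zpowers (τ aX) := fun y =>
      mem_zpowers_of_prime_card (p := 3)
        (by rw [Nat.card_eq_fintype_card, Fintype.card_multiplicative, ZMod.card]) hτa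
    obtain ⟨n, hn⟩ := Subgroup.mem_zpowers_iff.mp (hrange (τ x))
    have hk : (aX ^ n)⁻¹ * x ∈ K := by
      rw [hK, MonoidHom.mem_ker, map_mul, map_inv, map_zpow, hn, inv_mul_cancel]
    have := mul_mem (Subgroup.mem_sup_left (T := K) (Subgroup.zpow_mem_zpowers aX n))
      (Subgroup.mem_sup_right (S := Z) hk)
    rwa [mul_inv_cancel_left] at this
  have hbij : Function.Bijective (f.comp K.subtype) := by
    constructor
    · rw [injective_iff_map_eq_one]
      intro x hx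
      exact Subtype.ext (Subgroup.mem_bot.mp (hinf ▸ Subgroup.mem_inf.mpr
        ⟨(QuotientGroup.eq_one_iff _).mp hx, x.2⟩))
    · intro y
      obtain ⟨x, rfl⟩ := QuotientGroup.mk'_surjective Z y
      have hxm : x ∈ ((Z : Set X) * (K : Set X)) := by
        rw [← Subgroup.normal_mul Z K, hsup]
        exact Subgroup.mem_top _
      obtain ⟨z, hz, k, hk, rfl⟩ := hxm
      refine ⟨⟨k, hk⟩, ?_⟩
      show f k = f (z * k)
      rw [map_mul, show f z = 1 from (QuotientGroup.eq_one_iff z).mpr hz, one_mul]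
  refine ⟨K.map X.subtype, Subgroup.map_subtype_le K, ⟨?_⟩, ?_, ?_⟩
  · exact ((K.equivMapOfInjective _ X.subtype_injective).symm.trans
      (MulEquiv.ofBijective _ hbij)).trans e
  · rw [← show Z.map X.subtype = Subgroup.zpowers a from MonoidHom.map_zpowers _ _,
      ← Subgroup.map_inf _ _ _ X.subtype_injective, hinf, Subgroup.map_bot]
  · rw [← show Z.map X.subtype = Subgroup.zpowers a from MonoidHom.map_zpowers _ _,
      ← Subgroup.map_sup, hsup, ← MonoidHom.range_eq_map, X.range_subtype]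

end Cfg

end Cfsg.Agent.Lib.A9Norm79
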