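import Cfsg.Agent.Lib.A9Norm79.Setup

/-!
# Tables for the fused configuration

Multiplication, classes and monomial characters of the model in index form.
-/

set_option autoImplicit false

namespace Cfsg.Agent.Lib.A9Norm79.ModelII

open Model

/-- Exponent vectors. -/
abbrev V3 := Fin 3 × Fin 3 × Fin 3

/-- Coordinates in `1, ζ, ζ², ζ³` for a twelfth root of unity `ζ`. -/
abbrev Z12 := ℤ × ℤ × ℤ × ℤ

/-- Products of the monomial elements. -/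
def kTable : List (List ℕ) := [
  [0, 1, 2, 3, 4, 5, 6, 7, 8, 9, 10, 11, 12, 13, 14, 15, 16, 17, 18, 19, 20, 21, 22, 23],
  [1, 2, 0, 4, 5, 3, 13, 14, 12, 16, 17, 15, 19, 20, 18, 22, 23, 21, 7, 8, 6, 10, 11, 9],
  [2, 0, 1, 5, 3, 4, 20, 18, 19, 23, 21, 22, 8, 6, 7, 11, 9, 10, 14, 12, 13, 17, 15, 16],
  [3, 17, 22, 0, 14, 19, 9, 23, 16, 6, 20, 13, 21, 11, 4, 18, 8, 1, 15, 5, 10, 12, 2, 7],
  [4, 21, 11, 1, 18, 8, 16, 9, 23, 13, 6, 20, 10, 15, 5, 7, 12, 2, 22, 3, 17, 19, 0, 14],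
  [5, 10, 15, 2, 7, 12, 23, 16, 9, 20, 13, 6, 17, 22, 3, 14, 19, 0, 11, 4, 21, 8, 1, 18],
  [6, 7, 8, 9, 10, 11, 0, 1, 2, 3, 4, 5, 18, 19, 20, 21, 22, 23, 12, 13, 14, 15, 16, 17],
  [7, 8, 6, 10, 11, 9, 19, 20, 18, 22, 23, 21, 13, 14, 12, 16, 17, 15, 1, 2, 0, 4, 5, 3],
  [8, 6, 7, 11, 9, 10, 14, 12, 13, 17, 15, 16, 2, 0, 1, 5, 3, 4, 20, 18, 19, 23, 21, 22],
  [9, 23, 16, 6, 20, 13, 3, 17, 22, 0, 14, 19, 15, 5, 10, 12, 2, 7, 21, 11, 4, 18, 8, 1],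
  [10, 15, 5, 7, 12, 2, 22, 3, 17, 19, 0, 14, 4, 21, 11, 1, 18, 8, 16, 9, 23, 13, 6, 20],
  [11, 4, 21, 8, 1, 18, 17, 22, 3, 14, 19, 0, 23, 16, 9, 20, 13, 6, 5, 10, 15, 2, 7, 12],
  [12, 13, 14, 15, 16, 17, 18, 19, 20, 21, 22, 23, 0, 1, 2, 3, 4, 5, 6, 7, 8, 9, 10, 11],
  [13, 14, 12, 16, 17, 15, 1, 2, 0, 4, 5, 3, 7, 8, 6, 10, 11, 9, 19, 20, 18, 22, 23, 21],
  [14, 12, 13, 17, 15, 16, 8, 6, 7, 11, 9, 10, 20, 18, 19, 23, 21, 22, 2, 0, 1, 5, 3, 4],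
  [15, 5, 10, 12, 2, 7, 21, 11, 4, 18, 8, 1, 9, 23, 16, 6, 20, 13, 3, 17, 22, 0, 14, 19],
  [16, 9, 23, 13, 6, 20, 4, 21, 11, 1, 18, 8, 22, 3, 17, 19, 0, 14, 10, 15, 5, 7, 12, 2],
  [17, 22, 3, 14, 19, 0, 11, 4, 21, 8, 1, 18, 5, 10, 15, 2, 7, 12, 23, 16, 9, 20, 13, 6],
  [18, 19, 20, 21, 22, 23, 12, 13, 14, 15, 16, 17, 6, 7, 8, 9, 10, 11, 0, 1, 2, 3, 4, 5],
  [19, 20, 18, 22, 23, 21, 7, 8, 6, 10, 11, 9, 1, 2, 0, 4, 5, 3, 13, 14, 12, 16, 17, 15],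
  [20, 18, 19, 23, 21, 22, 2, 0, 1, 5, 3, 4, 14, 12, 13, 17, 15, 16, 8, 6, 7, 11, 9, 10],
  [21, 11, 4, 18, 8, 1, 15, 5, 10, 12, 2, 7, 3, 17, 22, 0, 14, 19, 9, 23, 16, 6, 20, 13],
  [22, 3, 17, 19, 0, 14, 10, 15, 5, 7, 12, 2, 16, 9, 23, 13, 6, 20, 4, 21, 11, 1, 18, 8],
  [23, 16, 9, 20, 13, 6, 5, 10, 15, 2, 7, 12, 11, 4, 21, 8, 1, 18, 17, 22, 3, 14, 19, 0]]

/-- Class and conjugator of every element. -/
def cTable : List (List ℕ) := [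
  [
    0, 3241, 3253, 3242, 7778, 7784, 3254, 7787, 7796, 3240, 7777, 7789, 7776, 8424, 8434, 7782,
    8435, 8430, 3243, 7779, 7785, 7780, 8427, 8432, 7792, 8431, 8433],
  [
    648, 3888, 4552, 3889, 4593, 697, 4545, 673, 3937, 3890, 4600, 672, 4607, 816, 3986, 698,
    3984, 4624, 4559, 696, 3936, 674, 3985, 4631, 3938, 4617, 768],
  [
    657, 4536, 3904, 4537, 3952, 712, 3897, 688, 4584, 4538, 3959, 695, 3945, 777, 4610, 705,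
    4608, 4000, 3911, 719, 4586, 681, 4609, 4007, 4585, 3993, 825],
  [
    1946, 5852, 5834, 5855, 5906, 2018, 5837, 2021, 5924, 1970, 5876, 5858, 5903, 5930, 2042,
    5885, 2060, 5948, 1973, 5900, 5882, 5879, 5933, 2063, 5861, 2045, 5951],
  [
    1297, 5185, 6493, 1393, 5281, 6593, 1399, 5287, 6599, 1403, 5291, 6589, 1325, 5213, 6527,
    1321, 5209, 6523, 1397, 5285, 6595, 1327, 5215, 6517, 1331, 5219, 6521],
  [
    1310, 1414, 1408, 6482, 6578, 6584, 5198, 5302, 5296, 1412, 1334, 1342, 6586, 6512, 6508,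
    5300, 5222, 5230, 1406, 1336, 1340, 6580, 6514, 6506, 5294, 5224, 5228],
  [
    2592, 2616, 2622, 2619, 2688, 2700, 2625, 2703, 2694, 7128, 7152, 7158, 7173, 7224, 7245,
    7167, 7239, 7230, 7131, 7170, 7164, 7155, 7227, 7236, 7161, 7242, 7233],
  [
    656, 4558, 3900, 3907, 715, 4599, 4551, 3955, 691, 4547, 3948, 708, 680, 4619, 4003, 3944,
    776, 4623, 3896, 684, 4606, 4595, 3992, 824, 704, 4630, 3996],
  [
    658, 4554, 3898, 3909, 682, 4602, 4543, 3946, 706, 3905, 713, 4598, 4591, 4005, 826, 693,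
    4615, 4001, 4550, 3953, 689, 717, 4626, 3994, 3957, 778, 4622],
  [
    1952, 5840, 5846, 5843, 2024, 5912, 5849, 5915, 2030, 1979, 5888, 5894, 5867, 2051, 5945,
    5873, 5939, 2057, 1976, 5864, 5870, 5891, 2048, 5936, 5897, 5942, 2054],
  [
    1944, 1968, 1978, 5850, 5874, 5898, 5832, 5856, 5880, 5848, 5896, 5872, 5904, 5928, 5938,
    2016, 2040, 2056, 5842, 5890, 5866, 2026, 2058, 2050, 5920, 5946, 5944],
  [
    1945, 5841, 5847, 1969, 5889, 5895, 1977, 5865, 5871, 5851, 5905, 2031, 5875, 5929, 2059,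
    5899, 5943, 2055, 5833, 2017, 5913, 5857, 2041, 5947, 5881, 2049, 5937],
  [
    2594, 2620, 2626, 7130, 7156, 7162, 7142, 7174, 7168, 2618, 2690, 2698, 7154, 7226, 7234,
    7172, 7246, 7244, 2624, 2692, 2696, 7160, 7228, 7232, 7166, 7238, 7240],
  [
    655, 3906, 4546, 4557, 679, 3943, 3895, 4605, 703, 4553, 714, 3954, 3950, 4629, 775, 686,
    3991, 4625, 3902, 4594, 690, 710, 4002, 4618, 4601, 823, 3998],
  [
    651, 3892, 4542, 3891, 4590, 676, 4549, 700, 3940, 4556, 677, 3941, 699, 3988, 4614, 3939,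
    4628, 771, 3893, 4604, 701, 4597, 819, 3987, 675, 3989, 4621],
  [
    1296, 1392, 1398, 1413, 1335, 1320, 1407, 1326, 1341, 5184, 5280, 5286, 5301, 5223, 5208,
    5295, 5214, 5229, 6483, 6579, 6585, 6588, 6513, 6522, 6594, 6516, 6507],
  [
    1948, 1972, 1974, 5838, 5886, 5862, 5844, 5892, 5868, 5836, 5860, 5884, 2020, 2044, 2046,
    5910, 5950, 5934, 5854, 5878, 5902, 5908, 5932, 5940, 2028, 2062, 2052],
  [
    1298, 1396, 1402, 5186, 5284, 5290, 6494, 6590, 6596, 1394, 1330, 1328, 5282, 5218, 5216,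
    6598, 6520, 6518, 1400, 1322, 1324, 5288, 5210, 5212, 6592, 6524, 6526],
  [
    2593, 7129, 7141, 2617, 7153, 7171, 2623, 7159, 7165, 2627, 7163, 7169, 2689, 7225, 7241,
    2699, 7235, 7237, 2621, 7157, 7175, 2693, 7229, 7243, 2695, 7231, 7247],
  [
    654, 4540, 3894, 4539, 3949, 685, 3901, 709, 4587, 3908, 678, 4588, 716, 4612, 3990, 4589,
    4004, 822, 4541, 3942, 702, 3956, 774, 4611, 692, 4613, 3997],
  [
    659, 3910, 4548, 4555, 718, 3958, 3903, 4596, 694, 3899, 4592, 707, 687, 3995, 4627, 4603,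
    827, 3999, 4544, 683, 3947, 3951, 4616, 779, 711, 4006, 4620],
  [
    1299, 1410, 1404, 1395, 1332, 1329, 1401, 1323, 1338, 6480, 6591, 6597, 6576, 6510, 6519,
    6582, 6525, 6504, 5187, 5298, 5292, 5283, 5220, 5217, 5289, 5211, 5226],
  [
    1309, 6481, 5197, 1411, 6581, 5299, 1405, 6587, 5293, 1409, 6577, 5297, 1333, 6511, 5221,
    1343, 6509, 5231, 1415, 6583, 5303, 1337, 6515, 5225, 1339, 6505, 5227],
  [
    1947, 5853, 5835, 1971, 5877, 5859, 1975, 5901, 5883, 5839, 2023, 5917, 5887, 2061, 5949,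
    5863, 2047, 5941, 5845, 5907, 2019, 5893, 5931, 2043, 5869, 5935, 2053]]

/-- Representatives of the fourteen classes. -/
def rep : Fin 14 → W := ![
  ((0, 0, 0), (0, 0)), ((0, 0, 0), (0, 1)), ((0, 0, 0), (2, 3)), ((0, 0, 0), (1, 4)),
  ((0, 0, 0), (1, 0)), ((1, 0, 0), (0, 0)), ((0, 0, 1), (0, 1)), ((0, 0, 1), (0, 2)),
  ((1, 0, 0), (2, 3)), ((0, 2, 0), (1, 4)), ((1, 0, 0), (3, 3)), ((1, 0, 0), (1, 0)),
  ((1, 1, 0), (0, 0)), ((1, 1, 1), (0, 0))]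

/-- The linear characters of monomial subgroups. -/
def terms : Fin 14 → (Fin 3 × Fin 3 × Fin 3) × List ((Fin 4 × Fin 6) × ℕ) := ![
  ((0, 0, 0), [
    ((0, 0), 0), ((0, 1), 0), ((0, 2), 0), ((0, 3), 0), ((0, 4), 0), ((0, 5), 0), ((1, 0), 0),
    ((1, 1), 0), ((1, 2), 0), ((1, 3), 0), ((1, 4), 0), ((1, 5), 0), ((2, 0), 0), ((2, 1), 0),
    ((2, 2), 0), ((2, 3), 0), ((2, 4), 0), ((2, 5), 0), ((3, 0), 0), ((3, 1), 0), ((3, 2), 0),
    ((3, 3), 0), ((3, 4), 0), ((3, 5), 0)]),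
  ((0, 0, 0), [
    ((0, 0), 0), ((0, 1), 0), ((0, 2), 0), ((0, 3), 6), ((0, 4), 6), ((0, 5), 6), ((1, 0), 0),
    ((1, 1), 0), ((1, 2), 0), ((1, 3), 6), ((1, 4), 6), ((1, 5), 6), ((2, 0), 0), ((2, 1), 0),
    ((2, 2), 0), ((2, 3), 6), ((2, 4), 6), ((2, 5), 6), ((3, 0), 0), ((3, 1), 0), ((3, 2), 0),
    ((3, 3), 6), ((3, 4), 6), ((3, 5), 6)]),
  ((0, 0, 0), [
    ((0, 0), 0), ((0, 1), 4), ((0, 2), 8), ((1, 0), 0), ((1, 1), 4), ((1, 2), 8), ((2, 0), 0),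
    ((2, 1), 4), ((2, 2), 8), ((3, 0), 0), ((3, 1), 4), ((3, 2), 8)]),
  ((0, 0, 0), [
    ((0, 0), 0), ((0, 3), 0), ((1, 0), 0), ((1, 3), 0), ((2, 0), 6), ((2, 3), 6), ((3, 0), 6),
    ((3, 3), 6)]),
  ((0, 0, 0), [
    ((0, 0), 0), ((0, 3), 6), ((1, 0), 0), ((1, 3), 6), ((2, 0), 6), ((2, 3), 0), ((3, 0), 6),
    ((3, 3), 0)]),
  ((0, 0, 1), [
    ((0, 0), 0), ((0, 4), 0), ((3, 0), 0), ((3, 4), 0)]),
  ((0, 0, 1), [
    ((0, 0), 0), ((0, 4), 3), ((3, 0), 6), ((3, 4), 9)]),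
  ((0, 0, 1), [
    ((0, 0), 0), ((0, 4), 6), ((3, 0), 0), ((3, 4), 6)]),
  ((0, 0, 1), [
    ((0, 0), 0), ((0, 4), 9), ((3, 0), 6), ((3, 4), 3)]),
  ((0, 1, 1), [
    ((0, 0), 0), ((0, 3), 0)]),
  ((0, 1, 1), [
    ((0, 0), 0), ((0, 3), 6)]),
  ((1, 1, 1), [
    ((0, 0), 0), ((0, 1), 0), ((0, 2), 0)]),
  ((1, 1, 1), [
    ((0, 0), 0), ((0, 1), 4), ((0, 2), 8)]),
  ((1, 1, 1), [
    ((0, 0), 0), ((0, 1), 8), ((0, 2), 4)])]

/-- Their class sums. -/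
def sums : Fin 14 → Fin 14 → Z12 := ![
  ![
    (1, 0, 0, 0), (72, 0, 0, 0), (54, 0, 0, 0), (54, 0, 0, 0), (27, 0, 0, 0), (6, 0, 0, 0),
    (72, 0, 0, 0), (72, 0, 0, 0), (54, 0, 0, 0), (108, 0, 0, 0), (54, 0, 0, 0), (54, 0, 0, 0),
    (12, 0, 0, 0), (8, 0, 0, 0)],
  ![
    (1, 0, 0, 0), (72, 0, 0, 0), (-54, 0, 0, 0), (-54, 0, 0, 0), (27, 0, 0, 0), (6, 0, 0, 0),
    (72, 0, 0, 0), (72, 0, 0, 0), (-54, 0, 0, 0), (-108, 0, 0, 0), (-54, 0, 0, 0), (54, 0, 0, 0),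
    (12, 0, 0, 0), (8, 0, 0, 0)],
  ![
    (1, 0, 0, 0), (-36, 0, 0, 0), (0, 0, 0, 0), (0, 0, 0, 0), (27, 0, 0, 0), (6, 0, 0, 0),
    (-36, 0, 0, 0), (-36, 0, 0, 0), (0, 0, 0, 0), (0, 0, 0, 0), (0, 0, 0, 0), (54, 0, 0, 0),
    (12, 0, 0, 0), (8, 0, 0, 0)],
  ![
    (1, 0, 0, 0), (0, 0, 0, 0), (-18, 0, 0, 0), (18, 0, 0, 0), (-9, 0, 0, 0), (6, 0, 0, 0),
    (0, 0, 0, 0), (0, 0, 0, 0), (-18, 0, 0, 0), (36, 0, 0, 0), (-18, 0, 0, 0), (-18, 0, 0, 0),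
    (12, 0, 0, 0), (8, 0, 0, 0)],
  ![
    (1, 0, 0, 0), (0, 0, 0, 0), (18, 0, 0, 0), (-18, 0, 0, 0), (-9, 0, 0, 0), (6, 0, 0, 0),
    (0, 0, 0, 0), (0, 0, 0, 0), (18, 0, 0, 0), (-36, 0, 0, 0), (18, 0, 0, 0), (-18, 0, 0, 0),
    (12, 0, 0, 0), (8, 0, 0, 0)],
  ![
    (1, 0, 0, 0), (0, 0, 0, 0), (18, 0, 0, 0), (0, 0, 0, 0), (9, 0, 0, 0), (3, 0, 0, 0),
    (0, 0, 0, 0), (0, 0, 0, 0), (-9, 0, 0, 0), (0, 0, 0, 0), (-9, 0, 0, 0), (-9, 0, 0, 0),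
    (0, 0, 0, 0), (-4, 0, 0, 0)],
  ![
    (1, 0, 0, 0), (0, 0, 0, 0), (0, 0, 0, 0), (0, 0, 0, 0), (-9, 0, 0, 0), (3, 0, 0, 0),
    (0, 0, 0, 0), (0, 0, 0, 0), (0, -18, 0, 9), (0, 0, 0, 0), (0, 18, 0, -9), (9, 0, 0, 0),
    (0, 0, 0, 0), (-4, 0, 0, 0)],
  ![
    (1, 0, 0, 0), (0, 0, 0, 0), (-18, 0, 0, 0), (0, 0, 0, 0), (9, 0, 0, 0), (3, 0, 0, 0),
    (0, 0, 0, 0), (0, 0, 0, 0), (9, 0, 0, 0), (0, 0, 0, 0), (9, 0, 0, 0), (-9, 0, 0, 0),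
    (0, 0, 0, 0), (-4, 0, 0, 0)],
  ![
    (1, 0, 0, 0), (0, 0, 0, 0), (0, 0, 0, 0), (0, 0, 0, 0), (-9, 0, 0, 0), (3, 0, 0, 0),
    (0, 0, 0, 0), (0, 0, 0, 0), (0, 18, 0, -9), (0, 0, 0, 0), (0, -18, 0, 9), (9, 0, 0, 0),
    (0, 0, 0, 0), (-4, 0, 0, 0)],
  ![
    (1, 0, 0, 0), (0, 0, 0, 0), (0, 0, 0, 0), (9, 0, 0, 0), (0, 0, 0, 0), (0, 0, 0, 0),
    (0, 0, 0, 0), (0, 0, 0, 0), (0, 0, 0, 0), (-9, 0, 0, 0), (0, 0, 0, 0), (0, 0, 0, 0),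
    (-3, 0, 0, 0), (2, 0, 0, 0)],
  ![
    (1, 0, 0, 0), (0, 0, 0, 0), (0, 0, 0, 0), (-9, 0, 0, 0), (0, 0, 0, 0), (0, 0, 0, 0),
    (0, 0, 0, 0), (0, 0, 0, 0), (0, 0, 0, 0), (9, 0, 0, 0), (0, 0, 0, 0), (0, 0, 0, 0),
    (-3, 0, 0, 0), (2, 0, 0, 0)],
  ![
    (1, 0, 0, 0), (18, 0, 0, 0), (0, 0, 0, 0), (0, 0, 0, 0), (0, 0, 0, 0), (-3, 0, 0, 0),
    (-9, 0, 0, 0), (-9, 0, 0, 0), (0, 0, 0, 0), (0, 0, 0, 0), (0, 0, 0, 0), (0, 0, 0, 0),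
    (3, 0, 0, 0), (-1, 0, 0, 0)],
  ![
    (1, 0, 0, 0), (-9, 0, 0, 0), (0, 0, 0, 0), (0, 0, 0, 0), (0, 0, 0, 0), (-3, 0, 0, 0),
    (-9, 0, 0, 0), (18, 0, 0, 0), (0, 0, 0, 0), (0, 0, 0, 0), (0, 0, 0, 0), (0, 0, 0, 0),
    (3, 0, 0, 0), (-1, 0, 0, 0)],
  ![
    (1, 0, 0, 0), (-9, 0, 0, 0), (0, 0, 0, 0), (0, 0, 0, 0), (0, 0, 0, 0), (-3, 0, 0, 0),
    (18, 0, 0, 0), (-9, 0, 0, 0), (0, 0, 0, 0), (0, 0, 0, 0), (0, 0, 0, 0), (0, 0, 0, 0),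
    (3, 0, 0, 0), (-1, 0, 0, 0)]]

/-- The nine virtual characters. -/
def coef : Fin 9 → Fin 14 → ℤ := ![
  ![0, 0, 0, 0, 0, 0, 0, 0, 0, 0, 0, 0, 1, -1],
  ![0, 0, 0, 0, 0, 0, 1, 0, -1, 0, 0, 0, 0, 0],
  ![0, 0, 1, 0, 0, 0, 0, 0, 1, 0, 0, 0, -1, 0],
  ![0, 1, 0, 0, -1, 0, 0, -1, 0, 0, 0, 0, 0, 1],
  ![0, 1, 0, 0, 1, 0, 0, 0, 0, 0, -1, 0, 0, 1],
  ![1, 0, 0, -1, 0, -1, 0, 0, 0, 0, 0, 0, 0, 1],
  ![1, 0, 0, 1, 0, 0, 0, 0, 0, -1, 0, 0, 0, 1],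
  ![1, 1, 0, 0, 0, 0, 0, 0, 1, 0, 0, -1, 0, 0],
  ![0, 0, 0, 1, 1, 0, -1, 0, 0, 0, 0, 3, -3, 0]]

/-- Their values times class sizes. -/
def val : Fin 9 → Fin 14 → ℤ × ℤ := ![
  ![
    (0, 0), (0, 0), (0, 0), (0, 0), (0, 0), (0, 0), (-216, 0), (216, 0), (0, 0), (0, 0), (0, 0),
    (0, 0), (0, 0), (0, 0)],
  ![
    (0, 0), (0, 0), (0, 0), (0, 0), (0, 0), (0, 0), (0, 0), (0, 0), (0, -108), (0, 0), (0, 108),
    (0, 0), (0, 0), (0, 0)],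
  ![
    (0, 0), (0, 0), (0, 0), (0, 0), (0, 0), (54, 0), (0, 0), (-216, 0), (0, 54), (0, 0), (0, -54),
    (162, 0), (0, 0), (0, 0)],
  ![
    (0, 0), (0, 0), (0, 0), (0, 0), (0, 0), (-54, 0), (216, 0), (0, 0), (-162, 0), (0, 0),
    (-162, 0), (162, 0), (0, 0), (0, 0)],
  ![
    (0, 0), (0, 0), (0, 0), (0, 0), (0, 0), (0, 0), (216, 0), (0, 0), (0, 0), (-324, 0), (0, 0),
    (0, 0), (108, 0), (0, 0)],
  ![
    (0, 0), (0, 0), (0, 0), (0, 0), (0, 0), (-54, 0), (216, 0), (0, 0), (162, 0), (0, 0),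
    (162, 0), (162, 0), (0, 0), (0, 0)],
  ![
    (0, 0), (0, 0), (0, 0), (0, 0), (0, 0), (0, 0), (216, 0), (0, 0), (0, 0), (324, 0), (0, 0),
    (0, 0), (108, 0), (0, 0)],
  ![
    (0, 0), (0, 0), (0, 0), (0, 0), (0, 0), (54, 0), (216, 0), (216, 0), (0, 54), (0, 0),
    (0, -54), (162, 0), (0, 0), (0, 0)],
  ![
    (0, 0), (648, 0), (0, 0), (0, 0), (0, 0), (18, 0), (0, 0), (-648, 0), (0, 54), (0, 0),
    (0, -54), (-162, 0), (72, 0), (72, 0)]]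

/-- The Gram matrix. -/
def gram : Fin 9 → Fin 9 → ℤ := ![
  ![2, 0, -1, -1, -1, -1, -1, 0, -3],
  ![0, 2, -1, 0, 0, 0, 0, -1, -1],
  ![-1, -1, 3, 0, 0, 0, 0, 1, 3],
  ![-1, 0, 0, 4, 1, 1, 1, 1, -1],
  ![-1, 0, 0, 1, 4, 1, 1, 1, 1],
  ![-1, 0, 0, 1, 1, 4, 1, 1, -1],
  ![-1, 0, 0, 1, 1, 1, 4, 1, 1],
  ![0, -1, 1, 1, 1, 1, 1, 4, -3],
  ![-3, -1, 3, -1, 1, -1, 1, -3, 12]]

/-- Inner products with the trivial character. -/
def triv : Fin 9 → ℤ := ![0, 0, 0, 0, 0, 1, 1, 1, -1]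

/-- The values recovered from the coordinates. -/
def back : Fin 3 → Fin 9 → ℤ := ![
  ![-2, 3, 2, -3, 0, -3, 0, 4, 0],
  ![4, 0, 2, 0, 3, 0, 3, -2, 0],
  ![10, 6, -7, 3, -3, 3, -3, 10, 9]]

/-- Multiple of a vector. -/
def sc (a : Fin 3) (v : V3) : V3 := (a * v.1, a * v.2.1, a * v.2.2)

/-- The six signed unit vectors. -/
def axisV : Fin 6 → V3 := ![(1, 0, 0), (2, 0, 0), (0, 1, 0), (0, 2, 0), (0, 0, 1), (0, 0, 2)]

/-- Action of a monomial element on exponents. -/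
def act (k : Fin 4 × Fin 6) (i : V3) : V3 :=
  sc i.1 (axisV (row (false, k)).1) + sc i.2.1 (axisV (row (false, k)).2.1) +
    sc i.2.2 (axisV (row (false, k)).2.2)

/-- Number of a monomial element. -/
def kidx (k : Fin 4 × Fin 6) : ℕ := 6 * k.1 + k.2

/-- The monomial element of a number. -/
def kOf (n : ℕ) : Fin 4 × Fin 6 :=
  (⟨n / 6 % 4, Nat.mod_lt _ (by norm_num)⟩, ⟨n % 6, Nat.mod_lt _ (by norm_num)⟩)

/-- Product of monomial elements. -/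
def kmul (a b : Fin 4 × Fin 6) : Fin 4 × Fin 6 :=
  kOf ((kTable.getD (kidx a) []).getD (kidx b) 0)

/-- Product of indices. -/
def mulW (u v : W) : W := (u.1 + act u.2 v.1, kmul u.2 v.2)

/-- Index of the identity. -/
def oneW : W := ((0, 0, 0), (0, 0))

/-- Powers of indices. -/
def powW (w : W) : ℕ → W
  | 0 => oneW
  | n + 1 => mulW (powW w n) w

theorem jel_add : ∀ i j : V3, jel i * jel j = jel (i + j) := by decide +kernel

theorem mel_jel : ∀ k, ∀ i : V3, mel k * jel i = jel (act k i) * mel k := by decide +kernel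

theorem mel_mel : ∀ a b, mel a * mel b = mel (kmul a b) := by decide +kernel

theorem el_mulW (u v : W) : el (mulW u v) = el u * el v := by
  calc el (mulW u v) = jel u.1 * jel (act u.2 v.1) * (mel u.2 * mel v.2) := by
        rw [mulW, el, jel_add, mel_mel]
    _ = jel u.1 * (jel (act u.2 v.1) * mel u.2) * mel v.2 := by group
    _ = jel u.1 * (mel u.2 * jel v.1) * mel v.2 := by rw [mel_jel]
    _ = el u * el v := by rw [el, el]; group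

theorem el_oneW : el oneW = 1 := by decide +kernel

theorem el_powW (w : W) : ∀ n, el (powW w n) = el w ^ n
  | 0 => el_oneW
  | n + 1 => by rw [powW, el_mulW, el_powW w n, pow_succ]

/-- The index of a number. -/
def wOf (n : ℕ) : W :=
  ((⟨n / 216 % 3, Nat.mod_lt _ (by norm_num)⟩, ⟨n / 72 % 3, Nat.mod_lt _ (by norm_num)⟩,
    ⟨n / 24 % 3, Nat.mod_lt _ (by norm_num)⟩), kOf (n % 24))

/-- The stored class and conjugator. -/
def code (w : W) : ℕ :=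
  (cTable.getD (kidx w.2) []).getD (9 * (w.1.1 : ℕ) + 3 * (w.1.2.1 : ℕ) + (w.1.2.2 : ℕ)) 0

/-- The class. -/
def cls (w : W) : Fin 14 := ⟨code w / 648 % 14, Nat.mod_lt _ (by norm_num)⟩

/-- A conjugator to the representative. -/
def wit (w : W) : W := wOf (code w % 648)

theorem cls_spec : ∀ w : W, mulW (wit w) w = mulW (rep (cls w)) (wit w) := by decide +kernel

/-- The classes of elements of order divisible by three, without the fused one. -/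
def sg (q : Fin 9) : Fin 14 := ⟨q + 5, by omega⟩

/-- Their centraliser orders. -/
def cw : Fin 9 → ℕ := ![108, 9, 9, 12, 6, 12, 12, 54, 81]

/-- An exponent with power in the elementary subgroup. -/
def exq : Fin 9 → ℕ := ![1, 3, 3, 4, 4, 4, 4, 1, 1]

/-- The powers. -/
def uq : Fin 9 → V3 :=
  ![(1, 0, 0), (1, 1, 1), (1, 1, 1), (1, 0, 0), (1, 1, 0), (1, 0, 0), (1, 0, 0), (1, 1, 0),
    (1, 1, 1)]

theorem uq_spec : ∀ q, powW (rep (sg q)) (exq q) = (uq q, (0, 0)) ∧ uq q ≠ (0, 0, 0) := by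
  decide +kernel

/-- How two classes are told apart. -/
def Separated (q q' : Fin 9) : Prop :=
  (∃ n ∈ [3, 6, 9, 12], ¬ (powW (rep (sg q)) n = oneW ↔ powW (rep (sg q')) n = oneW)) ∨
  (exq q = exq q' ∧ (typ (uq q) ≠ typ (uq q') ∨ (uq q = uq q' ∧ ∀ v : W,
    mulW v (uq q, (0, 0)) = mulW (uq q, (0, 0)) v →
      mulW v (rep (sg q)) ≠ mulW (rep (sg q')) v)))

instance : DecidableRel Separated := fun _ _ => inferInstanceAs (Decidable (_ ∨ _))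

theorem separated : ∀ q q', q ≠ q' → Separated q q' := by decide +kernel

theorem cent_count : ∀ q, (Finset.univ.filter fun v : W =>
    mulW v (rep (sg q)) = mulW (rep (sg q)) v).card = cw q := by decide +kernel

/-- Dot product. -/
def dot (a b : V3) : Fin 3 := a.1 * b.1 + a.2.1 * b.2.1 + a.2.2 * b.2.2

/-- Membership in a monomial subgroup. -/
def inL (j : Fin 14) (k : Fin 4 × Fin 6) : Bool := decide (k ∈ (terms j).2.map Prod.fst)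

/-- The exponent of a linear character. -/
def eW (j : Fin 14) (w : W) : ℕ :=
  4 * (dot (terms j).1 w.1 : ℕ) + ((terms j).2.lookup w.2).getD 0

theorem term_one : ∀ j, inL j (0, 0) = true := by decide +kernel

theorem term_mul : ∀ j, ∀ p ∈ (terms j).2, ∀ q ∈ (terms j).2,
    inL j (kmul p.1 q.1) = true ∧
      (((terms j).2.lookup (kmul p.1 q.1)).getD 0) % 12 =
        ((((terms j).2.lookup p.1).getD 0) + (((terms j).2.lookup q.1).getD 0)) % 12 := by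
  decide +kernel

theorem term_act : ∀ j, ∀ p ∈ (terms j).2, ∀ i : V3,
    dot (terms j).1 (act p.1 i) = dot (terms j).1 i := by decide +kernel

theorem term_add : ∀ j, ∀ a b : V3,
    dot (terms j).1 (a + b) = dot (terms j).1 a + dot (terms j).1 b := by decide +kernel

theorem term_nodup : ∀ j, ((terms j).2.map Prod.fst).Nodup := by decide +kernel

/-- Multiplication by `ζ`. -/
def shift (v : Z12) : Z12 := (-v.2.2.2, v.1, v.2.1 + v.2.2.2, v.2.2.1)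

/-- Powers of `ζ`. -/
def zpw : ℕ → Z12
  | 0 => (1, 0, 0, 0)
  | n + 1 => shift (zpw n)

/-- All exponent vectors. -/
def allV : List V3 := [0, 1, 2].flatMap fun a =>
  [0, 1, 2].flatMap fun b => [0, 1, 2].map fun c => (a, b, c)

theorem mem_allV : ∀ i : V3, i ∈ allV := by decide +kernel

theorem allV_nodup : allV.Nodup := by decide +kernel

/-- The elements of a monomial subgroup. -/
def elts (j : Fin 14) : List W :=
  (terms j).2.flatMap fun p => allV.map fun i => (i, p.1)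

/-- Sum in coordinates. -/
def zsum : List Z12 → Z12
  | [] => (0, 0, 0, 0)
  | x :: xs => x + zsum xs

theorem sums_spec : ∀ j c,
    zsum (((elts j).filter fun w => decide (cls w = c)).map fun w => zpw (eW j w % 12)) =
      sums j c := by
  decide +kernel

/-- The weights of the monomial terms. -/
def mult (i : Fin 9) (j : Fin 14) : ℤ := coef i j * (24 / (terms j).2.length : ℕ)

theorem length_dvd : ∀ j, (terms j).2.length ∣ 24 := by decide +kernel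

theorem val_spec : ∀ i c,
    zsum ((List.finRange 14).map fun j => (mult i j * (sums j c).1, mult i j * (sums j c).2.1,
      mult i j * (sums j c).2.2.1, mult i j * (sums j c).2.2.2)) =
      ((val i c).1, 2 * (val i c).2, 0, -(val i c).2) := by
  decide +kernel

/-- The value at the fused class. -/
def fusedCoef : Fin 9 → ℤ := ![0, 0, 0, 0, 0, 0, 0, 0, 1]

theorem val_regular : ∀ i, val i 0 = 0 ∧ val i 1 = (648 * fusedCoef i, 0) ∧ val i 2 = 0 ∧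
    val i 3 = 0 ∧ val i 4 = 0 := by decide +kernel

theorem gram_spec : ∀ i k,
    (∑ q, ((val i (sg q)).1 * (val k (sg q)).1 + 3 * (val i (sg q)).2 * (val k (sg q)).2) *
      (cw q : ℤ)) = 648 * 648 * gram i k ∧
    (∑ q, ((val i (sg q)).1 * (val k (sg q)).2 + (val i (sg q)).2 * (val k (sg q)).1) *
      (cw q : ℤ)) = 0 := by
  decide +kernel

theorem triv_spec : ∀ i, (∑ q, (val i (sg q)).1) = 648 * triv i ∧
    (∑ q, (val i (sg q)).2) = 0 := by decide +kernel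

/-- The three classes in the elementary subgroup. -/
def tq : Fin 3 → Fin 9 := ![0, 7, 8]

theorem back_spec : ∀ t q, (∑ i, back t i * (val i (sg q)).1) = (if q = tq t then 648 else 0) ∧
    (∑ i, back t i * (val i (sg q)).2) = 0 := by decide +kernel

/-- The fused class is counted with the central one. -/
def fuse (c : Fin 14) : Fin 14 := if c = 1 then 13 else c

/-- Pairs with product in a given class. -/
def pairCount (t s k : Fin 3) : ℕ :=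
  (Finset.univ.filter fun w : W => fuse (cls w) = sg (tq s) ∧
    fuse (cls (mulW (uq (tq t), (0, 0)) w)) = sg (tq k)).card

/-- The seven triples. -/
def triples : Fin 7 → Fin 3 × Fin 3 × Fin 3 :=
  ![(0, 0, 1), (0, 0, 2), (0, 1, 1), (0, 1, 2), (0, 2, 2), (1, 1, 2), (1, 2, 2)]

theorem pairCount_spec : ∀ e, pairCount (triples e).1 (triples e).2.1 (triples e).2.2 *
    cw (tq (triples e).2.1) * cw (tq (triples e).2.2) =
    (![23328, 0, 11664, 17496, 26244, 17496, 249318] : Fin 7 → ℕ) e := by decide +kernel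

end Cfsg.Agent.Lib.A9Norm79.ModelII
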