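import Cfsg.Agent.Lib.A9Norm79.Enum
import Cfsg.Agent.Lib.A9Norm79.ModelII

/-!
# The four representations of the Gram matrix
-/

set_option autoImplicit false

namespace Cfsg.Agent.Lib.A9Norm79.ModelII

/-- The representations found. -/
def finalStates : List (List (List ℤ)) := [
  [
    [0, 0, 0, 0, 0, 1, 1, 1, -1], [1, 0, 0, -1, -1, -1, 0, 0, -1], [1, 0, -1, 0, 0, 0, -1, 0, -2],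
    [0, 1, 0, 1, 0, 0, 0, 0, -1], [0, 1, -1, -1, 0, 0, 0, -1, 0], [0, 0, 1, -1, 0, 0, -1, 0, 1],
    [0, 0, 0, 0, 1, 0, 1, 0, 1], [0, 0, 0, 0, 1, 0, 0, 1, -1], [0, 0, 0, 0, 1, 0, 0, 0, 0],
    [0, 0, 0, 0, 0, 1, 0, 0, 0], [0, 0, 0, 0, 0, 1, 0, 0, -1], [0, 0, 0, 0, 0, 0, 0, 1, -1]],
  [
    [0, 0, 0, 0, 0, 1, 1, 1, -1], [1, 0, 0, -1, -1, -1, -1, 0, -1], [1, 0, -1, 0, 0, 0, 0, 0, -2],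
    [0, 1, 0, 1, 0, 0, 0, 0, -1], [0, 1, -1, -1, 0, 0, 0, -1, 0], [0, 0, 1, -1, 0, 0, 0, 0, 1],
    [0, 0, 0, 0, 1, 0, 0, 1, -1], [0, 0, 0, 0, 1, 0, 0, 0, 1], [0, 0, 0, 0, 1, 0, 0, 0, 0],
    [0, 0, 0, 0, 0, 1, 0, 0, 0], [0, 0, 0, 0, 0, 1, -1, 0, -1], [0, 0, 0, 0, 0, 0, 1, 0, 0],
    [0, 0, 0, 0, 0, 0, 0, 1, -1]],
  [
    [0, 0, 0, 0, 0, 1, 1, 1, -1], [1, 0, 0, -1, -1, -1, -1, 0, -1], [1, 0, -1, 0, 0, 0, 0, 0, -2],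
    [0, 1, 0, 0, 0, 0, 0, 0, -1], [0, 1, -1, 0, 0, 0, 0, -1, 0], [0, 0, 1, 0, 0, 0, 0, 0, 1],
    [0, 0, 0, 1, 1, 0, 0, 0, 0], [0, 0, 0, 1, 0, 0, 0, 1, -1], [0, 0, 0, 1, -1, 0, 0, 0, -1],
    [0, 0, 0, 0, 1, 0, 0, 1, -1], [0, 0, 0, 0, 0, 1, 0, 0, 0], [0, 0, 0, 0, 0, 1, -1, 0, -1],
    [0, 0, 0, 0, 0, 0, 1, 0, 0]],
  [
    [0, 0, 0, 0, 0, 1, 1, 1, -1], [1, 0, 0, -1, -1, -1, -1, 0, -1], [1, 0, -1, 0, 0, 0, 0, 0, -2],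
    [0, 1, 0, 0, 0, 0, 0, 0, -1], [0, 1, -1, 0, 0, 0, 0, -1, 0], [0, 0, 1, 0, 0, 0, 0, 0, 1],
    [0, 0, 0, 1, 1, 0, 0, 1, -1], [0, 0, 0, 1, 0, 0, 0, 0, 0], [0, 0, 0, 1, -1, 0, 0, 0, -1],
    [0, 0, 0, 0, 1, 0, 0, 0, 0], [0, 0, 0, 0, 0, 1, 0, 0, 0], [0, 0, 0, 0, 0, 1, -1, 0, -1],
    [0, 0, 0, 0, 0, 0, 1, 0, 0], [0, 0, 0, 0, 0, 0, 0, 1, -1]]]

/-- The nine steps. -/
def steps : List Enum.Step := (List.finRange 9).map fun i =>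
  ⟨gram i i, triv i, ((List.finRange 9).take (i : ℕ)).map fun k => gram i k⟩

theorem steps_small : ∀ s ∈ steps, s.N ≤ 15 := by decide +kernel

theorem run_steps : ∀ x ∈ Enum.run steps [[[]]], x ∈ finalStates := by decide +kernel

end Cfsg.Agent.Lib.A9Norm79.ModelII
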