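import Mathlib.Algebra.BigOperators.Group.List.Basic
import Mathlib.Algebra.Order.Ring.Abs
import Mathlib.Data.Fintype.Basic
import Mathlib.Data.Finset.Sort
import Mathlib.Tactic

/-!
# Enumeration of integral representations of a Gram matrix

Given integer vectors with prescribed inner products and prescribed entries at a distinguished
index, all possible lists of signed coordinate rows are enumerated.
-/

set_option autoImplicit false

namespace Cfsg.Agent.Lib.A9Norm79.Enum

/-- A list of integers times an integer. -/
def smul (v : ℤ) (r : List ℤ) : List ℤ := r.map (v * ·)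

/-- Pointwise difference. -/
def sub (a b : List ℤ) : List ℤ := List.zipWith (· - ·) a b

/-- The column sums of squares. -/
def sqs : List (List ℤ) → List ℤ → List ℤ
  | [], z => z
  | r :: rs, z => sqs rs (List.zipWith (fun a b => a * a + b) r z)

/-- The pruning test. -/
def ok (sq need : List ℤ) (rem : ℤ) : Bool :=
  (List.zipWith (fun n s => decide (n * n ≤ rem * s)) need sq).all id

/-- The possible coefficients. -/
def small : List ℤ := [0, 1, -1, 2, -2, 3, -3]

/-- Values at the known rows meeting the inner products, with the norm left over. -/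
def go : List (List ℤ) → List ℤ → ℤ → List (List ℤ × ℤ)
  | [], need, rem => if need.all (fun x => decide (x = 0)) then [([], rem)] else []
  | r :: rs, need, rem =>
    small.flatMap fun v =>
      if v * v ≤ rem then
        if ok (sqs rs (need.map fun _ => 0)) (sub need (smul v r)) (rem - v * v) then
          (go rs (sub need (smul v r)) (rem - v * v)).map fun p => (v :: p.1, p.2)
        else []
      else []

/-- Lists of positive integers with the given sum of squares. -/
def comps : ℕ → ℤ → List (List ℤ)
  | 0, r => if r = 0 then [[]] else []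
  | n + 1, r =>
    (if r = 0 then [[]] else []) ++
      [1, 2, 3].flatMap fun q => if q * q ≤ r then (comps n (r - q * q)).map (q :: ·) else []

/-- Order on rows used for a normal form: rows with early entries come first. -/
def leq : List ℤ → List ℤ → Bool
  | [], _ => true
  | _ :: _, [] => false
  | a :: as, b :: bs => if b < a then true else if a < b then false else leq as bs

/-- Insertion. -/
def ins (r : List ℤ) : List (List ℤ) → List (List ℤ)
  | [] => [r]
  | x :: xs => if leq r x then r :: x :: xs else x :: ins r xs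

/-- Normal form. -/
def canon : List (List ℤ) → List (List ℤ)
  | [] => []
  | x :: xs => ins x (canon xs)

/-- One more vector: norm, distinguished entry, inner products with the previous vectors. -/
structure Step where
  N : ℤ
  t : ℤ
  need : List ℤ

/-- The extensions of one state. -/
def ext (s : Step) : List (List ℤ) → List (List (List ℤ))
  | [] => []
  | hd :: tl =>
    (go tl (sub s.need (smul s.t hd)) (s.N - s.t * s.t)).flatMap fun p =>
      (comps p.2.toNat p.2).map fun e =>
        (hd ++ [s.t]) :: canon (List.zipWith (fun r v => r ++ [v]) tl p.1 ++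
          e.map fun q => List.replicate s.need.length 0 ++ [q])

/-- Removal of repetitions. -/
def dedup : List (List (List ℤ)) → List (List (List ℤ))
  | [] => []
  | x :: xs => if x ∈ xs then dedup xs else x :: dedup xs

/-- All states after a list of steps. -/
def run : List Step → List (List (List ℤ)) → List (List (List ℤ))
  | [], st => st
  | s :: ss, st => run ss (dedup (st.flatMap (ext s)))

theorem mem_dedup {x : List (List ℤ)} : ∀ {l : List (List (List ℤ))}, x ∈ l → x ∈ dedup l
  | [], h => h
  | y :: ys, h => by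
    rw [dedup]
    rcases List.mem_cons.mp h with rfl | h
    · split
      · exact mem_dedup (by assumption)
      · exact List.mem_cons_self
    · split
      · exact mem_dedup h
      · exact List.mem_cons_of_mem _ (mem_dedup h)

theorem ins_perm (r : List ℤ) : ∀ l : List (List ℤ), (ins r l).Perm (r :: l)
  | [] => List.Perm.refl _
  | x :: xs => by
    rw [ins]
    split
    · exact List.Perm.refl _
    · exact ((ins_perm r xs).cons x).trans (List.Perm.swap r x xs)

theorem canon_perm : ∀ l : List (List ℤ), (canon l).Perm l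
  | [] => List.Perm.refl _
  | x :: xs => (ins_perm x _).trans ((canon_perm xs).cons x)

variable {ι : Type*}

/-- The row of an index with a sign. -/
def row (cs : List (ι → ℤ)) (x : ι × ℤ) : List ℤ := cs.map fun c => x.2 * c x.1

/-- The rows are realised by the vectors. -/
def Real (o : ι) (cs : List (ι → ℤ)) (rows : List (List ℤ)) : Prop :=
  ∃ p : List (ι × ℤ), ((o :: p.map Prod.fst)).Nodup ∧ (∀ x ∈ p, x.2 = 1 ∨ x.2 = -1) ∧
    (∀ χ, χ ≠ o → χ ∉ p.map Prod.fst → ∀ c ∈ cs, c χ = 0) ∧
    rows = row cs (o, 1) :: p.map (row cs)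

theorem exists_perm_map {α β : Type*} (F : α → β) {l l' : List β} (h : l.Perm l') :
    ∀ p : List α, l = p.map F → ∃ q : List α, q.Perm p ∧ l' = q.map F := by
  induction h with
  | nil => exact fun p hp => ⟨p, List.Perm.refl _, hp⟩
  | cons x _ ih =>
    intro p hp
    cases p with
    | nil => simp at hp
    | cons a as =>
      rw [List.map_cons, List.cons.injEq] at hp
      obtain ⟨q, hq, he⟩ := ih as hp.2
      exact ⟨a :: q, hq.cons a, by rw [List.map_cons, he, hp.1]⟩
  | swap x y l =>
    intro p hp
    match p, hp with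
    | [], hp => simp at hp
    | [a], hp => simp at hp
    | a :: b :: as, hp =>
      simp only [List.map_cons, List.cons.injEq] at hp
      exact ⟨b :: a :: as, List.Perm.swap a b as, by simp [hp.1, hp.2.1, hp.2.2]⟩
  | trans _ _ ih1 ih2 =>
    intro p hp
    obtain ⟨q, hq, he⟩ := ih1 p hp
    obtain ⟨r, hr, he'⟩ := ih2 q he
    exact ⟨r, hr.trans hq, he'⟩

/-- Sums along a list with the sign squared away. -/
theorem dot_row (f : ι → ℤ) : ∀ (cs : List (ι → ℤ)) (p : List (ι × ℤ)),
    (∀ x ∈ p, x.2 = 1 ∨ x.2 = -1) →
    ∀ c ∈ cs, (p.map fun x => (x.2 * f x.1) * (x.2 * c x.1)).sum =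
      (p.map fun x => f x.1 * c x.1).sum := by
  intro cs p hs c _
  congr 1
  refine List.map_congr_left fun x hx => ?_
  rcases hs x hx with h | h <;> rw [h] <;> ring

theorem sq_sum_le : ∀ l : List (ℤ × ℤ),
    (l.map fun x => x.1 * x.2).sum * (l.map fun x => x.1 * x.2).sum ≤
      (l.map fun x => x.1 * x.1).sum * (l.map fun x => x.2 * x.2).sum
  | [] => le_refl _
  | (a, b) :: l => by
    have ih := sq_sum_le l
    have hA : 0 ≤ (l.map fun x => x.1 * x.1).sum :=
      List.sum_nonneg (by intro x hx; obtain ⟨y, -, rfl⟩ := List.mem_map.mp hx; exact mul_self_nonneg _)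
    have hB : 0 ≤ (l.map fun x => x.2 * x.2).sum :=
      List.sum_nonneg (by intro x hx; obtain ⟨y, -, rfl⟩ := List.mem_map.mp hx; exact mul_self_nonneg _)
    simp only [List.map_cons, List.sum_cons]
    set S := (l.map fun x => x.1 * x.2).sum
    set A := (l.map fun x => x.1 * x.1).sum
    set B := (l.map fun x => x.2 * x.2).sum
    have h2 : 2 * (a * b * S) ≤ a * a * B + b * b * A := by
      by_contra hcon
      push Not at hcon
      have hpos : 0 ≤ a * a * B + b * b * A :=
        add_nonneg (mul_nonneg (mul_self_nonneg a) hB) (mul_nonneg (mul_self_nonneg b) hA)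
      have h1 : (a * a * B + b * b * A) * (a * a * B + b * b * A) <
          2 * (a * b * S) * (2 * (a * b * S)) := mul_self_lt_mul_self hpos hcon
      nlinarith [mul_self_nonneg (a * a * B - b * b * A),
        mul_le_mul_of_nonneg_left ih (mul_self_nonneg (2 * (a * b)))]
    nlinarith

theorem sqs_map (cs : List (ι → ℤ)) : ∀ (p : List (ι × ℤ)) (z : (ι → ℤ) → ℤ),
    sqs (p.map (row cs)) (cs.map z) =
      cs.map fun c => (p.map fun x => (x.2 * c x.1) * (x.2 * c x.1)).sum + z c
  | [], z => by simp [sqs]
  | x :: p, z => by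
    rw [List.map_cons, sqs, row, List.zipWith_map, List.zipWith_self,
      sqs_map cs p (fun c => (x.2 * c x.1) * (x.2 * c x.1) + z c)]
    refine List.map_congr_left fun c _ => ?_
    simp only [List.map_cons, List.sum_cons]
    ring

theorem sub_smul_map (cs : List (ι → ℤ)) (v : ℤ) (x : ι × ℤ) (n : (ι → ℤ) → ℤ) :
    sub (cs.map n) (smul v (row cs x)) = cs.map fun c => n c - v * (x.2 * c x.1) := by
  rw [sub, smul, row, List.map_map, List.zipWith_map, List.zipWith_self]
  rfl

theorem go_complete (cs : List (ι → ℤ)) (f : ι → ℤ) : ∀ (p : List (ι × ℤ)) (rem : ℤ),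
    (∀ x ∈ p, x.2 = 1 ∨ x.2 = -1) → rem ≤ 15 →
    (p.map fun x => f x.1 * f x.1).sum ≤ rem →
    ((p.map fun x => x.2 * f x.1), rem - (p.map fun x => f x.1 * f x.1).sum) ∈
      go (p.map (row cs))
        (cs.map fun c => (p.map fun x => f x.1 * c x.1).sum) rem
  | [], rem, _, _, _ => by simp [go]
  | x :: p, rem, hs, h15, hle => by
    have hx := hs x List.mem_cons_self
    have hs' := fun y hy => hs y (List.mem_cons_of_mem _ hy)
    simp only [List.map_cons, List.sum_cons] at hle ⊢
    have hnn : 0 ≤ (p.map fun x => f x.1 * f x.1).sum :=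
      List.sum_nonneg (by intro a ha; obtain ⟨y, -, rfl⟩ := List.mem_map.mp ha; exact mul_self_nonneg _)
    set v := x.2 * f x.1 with hv
    have hvv : v * v = f x.1 * f x.1 := by
      rcases hx with h | h <;> rw [hv, h] <;> ring
    rw [go, List.mem_flatMap]
    refine ⟨v, ?_, ?_⟩
    · have h1 : v * v ≤ 15 := by omega
      have hb : -3 ≤ v ∧ v ≤ 3 := by constructor <;> nlinarith
      obtain ⟨hb1, hb2⟩ := hb
      interval_cases v <;> simp [small]
    rw [if_pos (by omega : v * v ≤ rem)]
    have hsub : sub (cs.map fun c => f x.1 * c x.1 + (p.map fun x => f x.1 * c x.1).sum)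
        (smul v (row cs x)) = cs.map fun c => (p.map fun x => f x.1 * c x.1).sum := by
      rw [sub_smul_map]
      refine List.map_congr_left fun c _ => ?_
      rcases hx with h | h <;> rw [hv, h] <;> ring
    rw [hsub, if_pos, List.mem_map]
    · refine ⟨_, go_complete cs f p (rem - v * v) hs' (by nlinarith) (by omega), ?_⟩
      refine Prod.ext rfl ?_
      show rem - v * v - _ = _
      omega
    rw [List.map_map, show cs.map ((fun _ => (0 : ℤ)) ∘ fun c =>
      f x.1 * c x.1 + (p.map fun x => f x.1 * c x.1).sum) = cs.map fun _ => (0 : ℤ) from rfl,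
      sqs_map cs p, ok, List.zipWith_map, List.zipWith_self, List.all_eq_true]
    intro b hb
    obtain ⟨c, hc, rfl⟩ := List.mem_map.mp hb
    simp only [id, decide_eq_true_eq, add_zero]
    have h := sq_sum_le (p.map fun x => (x.2 * f x.1, x.2 * c x.1))
    simp only [List.map_map, Function.comp_def] at h
    rw [dot_row f cs p hs' c hc] at h
    have e : (p.map fun x => (x.2 * f x.1) * (x.2 * f x.1)).sum =
        (p.map fun x => f x.1 * f x.1).sum := by
      congr 1
      refine List.map_congr_left fun y hy => ?_
      rcases hs' y hy with h | h <;> rw [h] <;> ring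
    rw [e] at h
    refine h.trans (mul_le_mul_of_nonneg_right (by omega) ?_)
    exact List.sum_nonneg (by
      intro a ha; obtain ⟨y, -, rfl⟩ := List.mem_map.mp ha; exact mul_self_nonneg _)

theorem comps_complete : ∀ (l : List ℤ) (n : ℕ), (∀ q ∈ l, 1 ≤ q ∧ q ≤ 3) → l.length ≤ n →
    l ∈ comps n (l.map fun q => q * q).sum
  | [], 0, _, _ => by simp [comps]
  | [], n + 1, _, _ => by simp [comps]
  | q :: l, 0, _, h => by simp at h
  | q :: l, n + 1, hq, h => by
    simp only [List.map_cons, List.sum_cons]
    rw [comps, List.mem_append]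
    refine Or.inr ?_
    rw [List.mem_flatMap]
    obtain ⟨h1, h3⟩ := hq q List.mem_cons_self
    refine ⟨q, by interval_cases q <;> simp, ?_⟩
    have hnn : 0 ≤ (l.map fun q => q * q).sum :=
      List.sum_nonneg (by intro a ha; obtain ⟨y, -, rfl⟩ := List.mem_map.mp ha; exact mul_self_nonneg _)
    rw [if_pos (by omega), List.mem_map, show q * q + (l.map fun q => q * q).sum - q * q =
      (l.map fun q => q * q).sum by ring]
    exact ⟨l, comps_complete l n (fun a ha => hq a (List.mem_cons_of_mem _ ha))
      (by simp at h; omega), rfl⟩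

variable [Fintype ι]

/-- One step keeps a realised state in the list. -/
theorem ext_complete (o : ι) (cs : List (ι → ℤ)) (f : ι → ℤ) (s : Step)
    (hN : s.N ≤ 15) (hnorm : ∑ χ, f χ * f χ = s.N) (ht : f o = s.t)
    (hneed : s.need = cs.map fun c => ∑ χ, f χ * c χ) {rows : List (List ℤ)}
    (h : Real o cs rows) : ∃ rows' ∈ ext s rows, Real o (cs ++ [f]) rows' := by
  classical
  obtain ⟨p, hnd, hsign, hoff, rfl⟩ := h
  set L := o :: p.map Prod.fst with hL
  set E := (Finset.univ.filter fun χ => χ ∉ L ∧ f χ ≠ 0).toList with hE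
  have hEmem : ∀ χ, χ ∈ E ↔ χ ∉ L ∧ f χ ≠ 0 := fun χ => by simp [hE]
  have hall : (L ++ E).Nodup :=
    List.nodup_append.mpr ⟨hnd, Finset.nodup_toList _, fun a ha b hb hab =>
      ((hEmem b).mp hb).1 (hab ▸ ha)⟩
  have hsum : ∀ g : ι → ℤ, (∀ χ, χ ∉ L → χ ∉ E → g χ = 0) →
      ∑ χ, g χ = (L.map g).sum + (E.map g).sum := by
    intro g hg
    rw [← List.sum_append, ← List.map_append, ← List.sum_toFinset _ hall]
    refine (Finset.sum_subset (Finset.subset_univ _) fun χ _ hχ => ?_).symm
    simp only [List.mem_toFinset, List.mem_append, not_or] at hχ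
    exact hg χ hχ.1 hχ.2
  have hnotE : ∀ χ, χ ∉ L → χ ∉ E → f χ = 0 := fun χ h1 h2 => by
    by_contra h; exact h2 ((hEmem χ).mpr ⟨h1, h⟩)
  -- norm
  have hn := hsum (fun χ => f χ * f χ) fun χ h1 h2 => by rw [hnotE χ h1 h2, zero_mul]
  rw [hnorm, hL, List.map_cons, List.sum_cons, List.map_map, ht] at hn
  simp only [Function.comp_def] at hn
  set P := (p.map fun x => f x.1 * f x.1).sum with hP
  have hEn : 0 ≤ (E.map fun χ => f χ * f χ).sum :=
    List.sum_nonneg (by intro a ha; obtain ⟨y, -, rfl⟩ := List.mem_map.mp ha; exact mul_self_nonneg _)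
  -- inner products
  have hneed' : sub s.need (smul s.t (row cs (o, 1))) =
      cs.map fun c => (p.map fun x => f x.1 * c x.1).sum := by
    rw [hneed, sub_smul_map]
    refine List.map_congr_left fun c hc => ?_
    have h0 : ∀ χ, χ ∉ L → c χ = 0 := fun χ hχ => by
      simp only [hL, List.mem_cons, not_or] at hχ
      exact hoff χ hχ.1 hχ.2 c hc
    rw [hsum (fun χ => f χ * c χ) fun χ h1 _ => by rw [h0 χ h1, mul_zero],
      List.sum_eq_zero (l := E.map fun χ => f χ * c χ) (by
        intro a ha
        obtain ⟨χ, hχ, rfl⟩ := List.mem_map.mp ha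
        rw [h0 χ ((hEmem χ).mp hχ).1, mul_zero]),
      hL, List.map_cons, List.sum_cons, List.map_map, ht]
    simp [Function.comp_def]
  have hgo := go_complete cs f p (s.N - s.t * s.t) hsign
    (by have := mul_self_nonneg s.t; omega) (by omega)
  rw [← hneed'] at hgo
  -- the new rows
  set sg : ι → ℤ := fun χ => if 0 < f χ then 1 else -1 with hsg
  set el := E.map fun χ => sg χ * f χ with hel
  have hsq : ∀ χ, sg χ * f χ * (sg χ * f χ) = f χ * f χ := fun χ => by
    simp only [hsg]; split <;> ring
  have hcomp : el ∈ comps (s.N - s.t * s.t - P).toNat (s.N - s.t * s.t - P) := by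
    have hS : (el.map fun q => q * q).sum = s.N - s.t * s.t - P := by
      rw [hel, List.map_map]
      simp only [Function.comp_def, hsq]
      omega
    rw [← hS]
    have hq : ∀ q ∈ el, 1 ≤ q ∧ q ≤ 3 := by
      intro q hq
      obtain ⟨χ, hχ, rfl⟩ := List.mem_map.mp hq
      have hne := ((hEmem χ).mp hχ).2
      have hle : f χ * f χ ≤ (E.map fun χ => f χ * f χ).sum :=
        List.single_le_sum (by
          intro a ha; obtain ⟨y, -, rfl⟩ := List.mem_map.mp ha; exact mul_self_nonneg _) _
          (List.mem_map.mpr ⟨χ, hχ, rfl⟩)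
      have h15 : f χ * f χ ≤ 15 := by
        have hP0 : 0 ≤ P := List.sum_nonneg (by
          intro a ha; obtain ⟨y, -, rfl⟩ := List.mem_map.mp ha; exact mul_self_nonneg _)
        have := mul_self_nonneg s.t
        omega
      have : -3 ≤ f χ ∧ f χ ≤ 3 := by constructor <;> nlinarith
      simp only [hsg]; split <;> omega
    refine comps_complete el _ hq ?_
    have hlen : (el.length : ℤ) ≤ (el.map fun q => q * q).sum := by
      rw [hel, List.map_map]
      have : ∀ l : List ι, (∀ χ ∈ l, f χ ≠ 0) →
          (l.length : ℤ) ≤ (l.map fun χ => sg χ * f χ * (sg χ * f χ)).sum := by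
        intro l hl
        induction l with
        | nil => simp
        | cons a l ih =>
          simp only [List.length_cons, List.map_cons, List.sum_cons, Nat.cast_add, Nat.cast_one]
          have := ih fun χ hχ => hl χ (List.mem_cons_of_mem _ hχ)
          have ha := hl a List.mem_cons_self
          have h1 : 1 ≤ sg a * f a * (sg a * f a) := by
            rw [hsq]
            rcases (show f a ≤ -1 ∨ 1 ≤ f a by omega) with h | h <;> nlinarith
          omega
      simpa [List.length_map, Function.comp_def] using this E fun χ hχ => ((hEmem χ).mp hχ).2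
    omega
  have hrows : List.zipWith (fun r v => r ++ [v]) (p.map (row cs)) (p.map fun x => x.2 * f x.1) ++
      el.map (fun q => List.replicate s.need.length 0 ++ [q]) =
      (p ++ E.map fun χ => (χ, sg χ)).map (row (cs ++ [f])) := by
    rw [List.map_append, List.zipWith_map, List.zipWith_self, hel, List.map_map, List.map_map]
    congr 1
    · refine List.map_congr_left fun x _ => ?_
      simp [row]
    · refine List.map_congr_left fun χ hχ => ?_
      simp only [Function.comp_def, row, List.map_append, List.map_cons, List.map_nil, hneed,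
        List.length_map]
      congr 1
      rw [← List.map_const' (l := cs) (b := (0 : ℤ))]
      refine List.map_congr_left fun c hc => ?_
      have hχ' := ((hEmem χ).mp hχ).1
      simp only [hL, List.mem_cons, not_or] at hχ'
      rw [hoff χ hχ'.1 hχ'.2 c hc, mul_zero]
  obtain ⟨q, hq, hqe⟩ := exists_perm_map (row (cs ++ [f]))
    ((canon_perm _).symm) _ hrows
  refine ⟨(row cs (o, 1) ++ [s.t]) :: canon (List.zipWith (fun r v => r ++ [v]) (p.map (row cs))
      (p.map fun x => x.2 * f x.1) ++ el.map fun q => List.replicate s.need.length 0 ++ [q]), ?_,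
    q, ?_, ?_, ?_, ?_⟩
  · rw [ext, List.mem_flatMap]
    refine ⟨_, hgo, List.mem_map.mpr ⟨el, ?_, rfl⟩⟩
    exact hcomp
  · refine ((hq.map Prod.fst).cons o).nodup_iff.mpr ?_
    rw [List.map_append, List.map_map, show (Prod.fst ∘ fun χ => (χ, sg χ)) = id from rfl,
      List.map_id, ← List.cons_append]
    exact hall
  · intro x hx
    rcases List.mem_append.mp (hq.mem_iff.mp hx) with h | h
    · exact hsign x h
    · obtain ⟨χ, -, rfl⟩ := List.mem_map.mp h
      simp only [hsg]; split <;> simp
  · intro χ hχo hχ c hc
    have hχ' : χ ∉ p.map Prod.fst ++ E := by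
      intro h
      refine hχ ((hq.map Prod.fst).mem_iff.mpr ?_)
      rw [List.map_append, List.map_map, show (Prod.fst ∘ fun χ => (χ, sg χ)) = id from rfl,
        List.map_id]
      exact h
    rw [List.mem_append, not_or] at hχ'
    have hχL : χ ∉ L := by simp [hL, hχo, hχ'.1]
    rcases List.mem_append.mp hc with h | h
    · exact hoff χ hχo hχ'.1 c h
    · rw [List.mem_singleton.mp h]
      exact hnotE χ hχL hχ'.2
  · rw [← hqe]
    simp [row, ht]

/-- The hypotheses on a family of vectors for a list of steps. -/
def Fits (o : ι) : List (ι → ℤ) → List (ι → ℤ) → List Step → Prop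
  | _, [], [] => True
  | cs, f :: fs, s :: ss => (∑ χ, f χ * f χ = s.N) ∧ f o = s.t ∧
      (s.need = cs.map fun c => ∑ χ, f χ * c χ) ∧ Fits o (cs ++ [f]) fs ss
  | _, _, _ => False

/-- Every representation occurs among the computed states. -/
theorem run_complete (o : ι) : ∀ (ss : List Step) (fs cs : List (ι → ℤ))
    (st : List (List (List ℤ))), (∀ s ∈ ss, s.N ≤ 15) → Fits o cs fs ss →
    (∃ rows ∈ st, Real o cs rows) → ∃ rows ∈ run ss st, Real o (cs ++ fs) rows
  | [], [], cs, st, _, _, h => by simpa [run] using h
  | [], _ :: _, _, _, _, hf, _ => hf.elim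
  | _ :: _, [], _, _, _, hf, _ => hf.elim
  | s :: ss, f :: fs, cs, st, hN, ⟨h1, h2, h3, h4⟩, ⟨rows, hr, hreal⟩ => by
    obtain ⟨rows', hr', hreal'⟩ :=
      ext_complete o cs f s (hN s List.mem_cons_self) h1 h2 h3 hreal
    have := run_complete o ss fs (cs ++ [f]) (dedup (st.flatMap (ext s)))
      (fun x hx => hN x (List.mem_cons_of_mem _ hx)) h4
      ⟨rows', mem_dedup (List.mem_flatMap.mpr ⟨rows, hr, hr'⟩), hreal'⟩
    simpa [run, List.append_assoc] using this

/-- The empty state. -/
theorem real_nil (o : ι) : Real o ([] : List (ι → ℤ)) [[]] :=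
  ⟨[], by simp, by simp, fun _ _ _ c hc => by simp at hc, rfl⟩

end Cfsg.Agent.Lib.A9Norm79.Enum
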