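import Mathlib.GroupTheory.SpecificGroups.Alternating
import Mathlib.Tactic.Group

/-!
# The normaliser in the alternating group of degree nine of three disjoint three-cycles

The group is listed as `27 × 24` explicit permutations.
-/

set_option autoImplicit false

namespace Cfsg.Agent.Lib.A9Norm79.Model

open Equiv

abbrev P9 := Equiv.Perm (Fin 9)

def ca : P9 := swap 0 1 * swap 1 2
def cb : P9 := swap 3 4 * swap 4 5
def cc : P9 := swap 6 7 * swap 7 8

/-- The subgroup generated by the three cycles. -/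
def J0 : Subgroup P9 := Subgroup.closure {ca, cb, cc}

/-- The element with the given exponents. -/
def jel (i : Fin 3 × Fin 3 × Fin 3) : P9 := ca ^ (i.1 : ℕ) * cb ^ (i.2.1 : ℕ) * cc ^ (i.2.2 : ℕ)

def fl0 : P9 := swap 1 2
def fl1 : P9 := swap 4 5
def fl2 : P9 := swap 7 8
def rot : P9 := swap 0 3 * swap 3 6 * (swap 1 4 * swap 4 7) * (swap 2 5 * swap 5 8)
def sw12 : P9 := swap 3 6 * swap 4 7 * swap 5 8 * fl0

def diag : Fin 4 → P9 := ![1, fl1 * fl2, fl0 * fl2, fl0 * fl1]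
def blk : Fin 6 → P9 := ![1, rot, rot * rot, sw12, rot * sw12, rot * rot * sw12]

/-- The twenty-four monomial elements. -/
def mel (k : Fin 4 × Fin 6) : P9 := diag k.1 * blk k.2

/-- The elements of the normaliser. -/
def el (w : (Fin 3 × Fin 3 × Fin 3) × (Fin 4 × Fin 6)) : P9 := jel w.1 * mel w.2

theorem jel_injective : ∀ i j, jel i = jel j → i = j := by decide +kernel

theorem jel_mul : ∀ i j, ∃ k, jel i * jel j = jel k := by decide +kernel

theorem jel_inv : ∀ i, ∃ k, (jel i)⁻¹ = jel k := by decide +kernel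

theorem jel_gen : jel (1, 0, 0) = ca ∧ jel (0, 1, 0) = cb ∧ jel (0, 0, 1) = cc ∧ jel (0, 0, 0) = 1 := by
  decide +kernel

theorem jel_mem (i : Fin 3 × Fin 3 × Fin 3) : jel i ∈ J0 := by
  unfold jel
  refine mul_mem (mul_mem (pow_mem ?_ _) (pow_mem ?_ _)) (pow_mem ?_ _) <;>
    exact Subgroup.subset_closure (by simp)

theorem mem_J0 {σ : P9} : σ ∈ J0 ↔ ∃ i, jel i = σ := by
  refine ⟨fun h => ?_, fun ⟨i, hi⟩ => hi ▸ jel_mem i⟩
  induction h using Subgroup.closure_induction with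
  | mem x hx =>
    rcases hx with rfl | rfl | rfl
    · exact ⟨_, jel_gen.1⟩
    · exact ⟨_, jel_gen.2.1⟩
    · exact ⟨_, jel_gen.2.2.1⟩
  | one => exact ⟨_, jel_gen.2.2.2⟩
  | mul x y _ _ hx hy =>
    obtain ⟨i, rfl⟩ := hx
    obtain ⟨j, rfl⟩ := hy
    obtain ⟨k, hk⟩ := jel_mul i j
    exact ⟨k, hk.symm⟩
  | inv x _ hx =>
    obtain ⟨i, rfl⟩ := hx
    obtain ⟨k, hk⟩ := jel_inv i
    exact ⟨k, hk.symm⟩

theorem card_J0 : Nat.card J0 = 27 := by
  have h : Function.Bijective (fun i => (⟨jel i, jel_mem i⟩ : J0)) := by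
    refine ⟨fun i j e => jel_injective i j (congrArg Subtype.val e), fun x => ?_⟩
    obtain ⟨i, hi⟩ := mem_J0.mp x.2
    exact ⟨i, Subtype.ext hi⟩
  rw [← Nat.card_congr (Equiv.ofBijective _ h)]
  simp [Nat.card_eq_fintype_card]

theorem el_conj : ∀ k : Fin 4 × Fin 6, ∀ g : Fin 3,
    ∃ i, mel k * ![ca, cb, cc] g * (mel k)⁻¹ = jel i := by decide +kernel

theorem mel_even : ∀ k : Fin 4 × Fin 6, Perm.sign (mel k) = 1 := by decide +kernel

theorem jel_comm : ∀ i : Fin 3 × Fin 3 × Fin 3, ∀ g : Fin 3,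
    jel i * ![ca, cb, cc] g = ![ca, cb, cc] g * jel i := by decide +kernel

theorem jel_even (i : Fin 3 × Fin 3 × Fin 3) : Perm.sign (jel i) = 1 := by
  have h : Perm.sign ca = 1 ∧ Perm.sign cb = 1 ∧ Perm.sign cc = 1 := by decide +kernel
  simp [jel, h.1, h.2.1, h.2.2]

theorem mem_normalizer_of_gen {σ : P9}
    (h : ∀ g : Fin 3, σ * ![ca, cb, cc] g * σ⁻¹ ∈ J0) :
    σ ∈ Subgroup.normalizer (J0 : Set P9) := by
  rw [Subgroup.mem_normalizer_iff_map_conj_eq]
  refine Subgroup.eq_of_le_of_card_ge ?_ ?_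
  · rw [J0, MonoidHom.map_closure, Subgroup.closure_le]
    rintro - ⟨x, hx, rfl⟩
    rcases hx with rfl | rfl | rfl
    · exact h 0
    · exact h 1
    · exact h 2
  · rw [Subgroup.card_map_of_injective (MulEquiv.injective _)]

/-- The group of the statement. -/
abbrev H0 : Subgroup P9 := alternatingGroup (Fin 9) ⊓ Subgroup.normalizer (J0 : Set P9)

theorem el_mem (w : (Fin 3 × Fin 3 × Fin 3) × (Fin 4 × Fin 6)) : el w ∈ H0 := by
  refine Subgroup.mem_inf.mpr ⟨?_, mul_mem ?_ ?_⟩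
  · rw [Perm.mem_alternatingGroup, el, map_mul, jel_even, mel_even, one_mul]
  · exact Subgroup.le_normalizer (jel_mem _)
  · refine mem_normalizer_of_gen fun g => ?_
    obtain ⟨i, hi⟩ := el_conj w.2 g
    exact hi ▸ jel_mem i

/-- The elements of `J0` fixing six points. -/
def cyc : List P9 := [ca, ca⁻¹, cb, cb⁻¹, cc, cc⁻¹]

def cycV : Fin 6 → P9 := ![ca, ca⁻¹, cb, cb⁻¹, cc, cc⁻¹]

/-- The odd and even monomial elements. -/
def mono (q : Bool × Fin 4 × Fin 6) : P9 := mel q.2 * (if q.1 then fl0 else 1)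

/-- Images of the three generators under the monomial elements. -/
def table : List (Fin 6 × Fin 6 × Fin 6) := [
  (0, 2, 4), (2, 4, 0), (4, 0, 2), (1, 4, 2), (3, 0, 4), (5, 2, 0), (0, 3, 5), (3, 5, 0), (5, 0, 3), (1, 5, 3), (2, 0, 5), (4, 3, 0), (1, 2, 5), (2, 5, 1), (5, 1, 2), (0, 5, 2), (3, 1, 5), (4, 2, 1), (1, 3, 4), (3, 4, 1), (4, 1, 3), (0, 4, 3), (2, 1, 4), (5, 3, 1), (1, 2, 4), (3, 4, 0), (5, 0, 2), (0, 4, 2), (2, 0, 4), (4, 2, 0), (1, 3, 5), (2, 5, 0), (4, 0, 3), (0, 5, 3), (3, 0, 5), (5, 3, 0), (0, 2, 5), (3, 5, 1), (4, 1, 2), (1, 5, 2), (2, 1, 5), (5, 2, 1), (0, 3, 4), (2, 4, 1), (5, 1, 3), (1, 4, 3), (3, 1, 4), (4, 3, 1)]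

def row (q : Bool × Fin 4 × Fin 6) : Fin 6 × Fin 6 × Fin 6 :=
  table.getD ((if q.1 then 24 else 0) + 6 * (q.2.1 : ℕ) + (q.2.2 : ℕ)) (0, 0, 0)

theorem small_support : ∀ i, (Finset.univ.filter fun x : Fin 9 => jel i x = x).card = 6 →
    jel i ∈ cyc := by decide +kernel

theorem mem_cyc {x : P9} (h : x ∈ cyc) : ∃ i, cycV i = x := by
  simp only [cyc, List.mem_cons, List.not_mem_nil, or_false] at h
  rcases h with rfl | rfl | rfl | rfl | rfl | rfl
  exacts [⟨0, rfl⟩, ⟨1, rfl⟩, ⟨2, rfl⟩, ⟨3, rfl⟩, ⟨4, rfl⟩, ⟨5, rfl⟩]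

theorem mono_row : ∀ q, mono q * ca = cycV (row q).1 * mono q ∧
    mono q * cb = cycV (row q).2.1 * mono q ∧
    mono q * cc = cycV (row q).2.2 * mono q := by decide +kernel

theorem table_total : ∀ i j l : Fin 6, (i : ℕ) / 2 = (j : ℕ) / 2 ∨ (j : ℕ) / 2 = (l : ℕ) / 2 ∨
    (i : ℕ) / 2 = (l : ℕ) / 2 ∨ ∃ q, row q = (i, j, l) := by decide +kernel

theorem same_block : ∀ i j : Fin 6, (i : ℕ) / 2 = (j : ℕ) / 2 →
    cycV i * cycV j = 1 ∨ cycV i = cycV j := by decide +kernel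

theorem images_cases : ∀ x ∈ cyc, ∀ y ∈ cyc, ∀ z ∈ cyc,
    x * y = 1 ∨ x = y ∨ y * z = 1 ∨ y = z ∨ x * z = 1 ∨ x = z ∨
      ∃ k : Fin 4 × Fin 6, ∃ o : Bool,
        mel k * (if o then fl0 else 1) * ca * (mel k * (if o then fl0 else 1))⁻¹ = x ∧
        mel k * (if o then fl0 else 1) * cb * (mel k * (if o then fl0 else 1))⁻¹ = y ∧
        mel k * (if o then fl0 else 1) * cc * (mel k * (if o then fl0 else 1))⁻¹ = z := by
  intro x hx y hy z hz
  obtain ⟨i, rfl⟩ := mem_cyc hx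
  obtain ⟨j, rfl⟩ := mem_cyc hy
  obtain ⟨l, rfl⟩ := mem_cyc hz
  rcases table_total i j l with h | h | h | ⟨q, hq⟩
  · rcases same_block i j h with h | h
    · exact Or.inl h
    · exact Or.inr (Or.inl h)
  · rcases same_block j l h with h | h
    · exact Or.inr (Or.inr (Or.inl h))
    · exact Or.inr (Or.inr (Or.inr (Or.inl h)))
  · rcases same_block i l h with h | h
    · exact Or.inr (Or.inr (Or.inr (Or.inr (Or.inl h))))
    · exact Or.inr (Or.inr (Or.inr (Or.inr (Or.inr (Or.inl h)))))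
  obtain ⟨h0, h1, h2⟩ := mono_row q
  rw [hq] at h0 h1 h2
  exact Or.inr (Or.inr (Or.inr (Or.inr (Or.inr (Or.inr ⟨q.2, q.1,
    mul_inv_eq_of_eq_mul h0, mul_inv_eq_of_eq_mul h1, mul_inv_eq_of_eq_mul h2⟩)))))

theorem cyc_distinct : ∀ i j : Fin 3, i ≠ j →
    ![ca, cb, cc] i * ![ca, cb, cc] j ≠ 1 ∧ ![ca, cb, cc] i ≠ ![ca, cb, cc] j := by decide +kernel

theorem centralizer_jel {σ : P9} (ha : σ * ca = ca * σ) (hb : σ * cb = cb * σ)
    (hc : σ * cc = cc * σ) : ∃ i, jel i = σ := by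
  have key : ∀ (f : P9), σ * f = f * σ → ∀ x, σ (f x) = f (σ x) := fun f h x => by
    rw [← Perm.mul_apply, h, Perm.mul_apply]
  have hfix : ∀ (f : P9) (x : Fin 9), σ * f = f * σ → f x ≠ x → f (σ x) ≠ σ x := by
    intro f x h hx e
    exact hx (σ.injective ((key f h x).trans e))
  have h0 : ∀ y : Fin 9, ca y ≠ y → ∃ i : Fin 3, y = (ca ^ (i : ℕ)) 0 := by decide +kernel
  have h3 : ∀ y : Fin 9, cb y ≠ y → ∃ i : Fin 3, y = (cb ^ (i : ℕ)) 3 := by decide +kernel
  have h6 : ∀ y : Fin 9, cc y ≠ y → ∃ i : Fin 3, y = (cc ^ (i : ℕ)) 6 := by decide +kernel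
  obtain ⟨i, hi⟩ := h0 (σ 0) (hfix ca 0 ha (by decide +kernel))
  obtain ⟨j, hj⟩ := h3 (σ 3) (hfix cb 3 hb (by decide +kernel))
  obtain ⟨l, hl⟩ := h6 (σ 6) (hfix cc 6 hc (by decide +kernel))
  refine ⟨(i, j, l), ?_⟩
  have hagree : ∀ i j l : Fin 3, jel (i, j, l) 0 = (ca ^ (i : ℕ)) 0 ∧
      jel (i, j, l) 3 = (cb ^ (j : ℕ)) 3 ∧ jel (i, j, l) 6 = (cc ^ (l : ℕ)) 6 := by decide +kernel
  obtain ⟨e0, e3, e6⟩ := hagree i j l
  rw [← hi] at e0
  rw [← hj] at e3
  rw [← hl] at e6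
  have hk : ∀ g : Fin 3, jel (i, j, l) * ![ca, cb, cc] g = ![ca, cb, cc] g * jel (i, j, l) :=
    jel_comm _
  have kj : ∀ (g : Fin 3) (x : Fin 9),
      jel (i, j, l) (![ca, cb, cc] g x) = ![ca, cb, cc] g (jel (i, j, l) x) := fun g x => by
    rw [← Perm.mul_apply, hk g, Perm.mul_apply]
  have p1 : ca 0 = (1 : Fin 9) ∧ ca 1 = 2 ∧ cb 3 = 4 ∧ cb 4 = 5 ∧ cc 6 = 7 ∧ cc 7 = 8 := by
    decide +kernel
  obtain ⟨q1, q2, q4, q5, q7, q8⟩ := p1
  have e1 : jel (i, j, l) 1 = σ 1 := by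
    rw [← q1]; exact (kj 0 0).trans ((congrArg ca e0).trans (key ca ha 0).symm)
  have e2 : jel (i, j, l) 2 = σ 2 := by
    rw [← q2]; exact (kj 0 1).trans ((congrArg ca e1).trans (key ca ha 1).symm)
  have e4 : jel (i, j, l) 4 = σ 4 := by
    rw [← q4]; exact (kj 1 3).trans ((congrArg cb e3).trans (key cb hb 3).symm)
  have e5 : jel (i, j, l) 5 = σ 5 := by
    rw [← q5]; exact (kj 1 4).trans ((congrArg cb e4).trans (key cb hb 4).symm)
  have e7 : jel (i, j, l) 7 = σ 7 := by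
    rw [← q7]; exact (kj 2 6).trans ((congrArg cc e6).trans (key cc hc 6).symm)
  have e8 : jel (i, j, l) 8 = σ 8 := by
    rw [← q8]; exact (kj 2 7).trans ((congrArg cc e7).trans (key cc hc 7).symm)
  ext x
  fin_cases x <;> simp_all

theorem exists_el {σ : P9} (hσ : σ ∈ H0) : ∃ w, el w = σ := by
  obtain ⟨hev, hn⟩ := Subgroup.mem_inf.mp hσ
  rw [Perm.mem_alternatingGroup] at hev
  have himg : ∀ g : Fin 3, σ * ![ca, cb, cc] g * σ⁻¹ ∈ cyc := by
    intro g
    have hg : ![ca, cb, cc] g ∈ J0 := by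
      fin_cases g <;> exact Subgroup.subset_closure (by simp)
    obtain ⟨i, hi⟩ := mem_J0.mp ((Subgroup.mem_normalizer_iff.mp hn _).mp hg)
    rw [← hi]
    refine small_support i ?_
    have hcard : ∀ g : Fin 3,
        (Finset.univ.filter fun x : Fin 9 => ![ca, cb, cc] g x = x).card = 6 := by decide +kernel
    rw [← hcard g]
    refine Finset.card_bij (fun x _ => σ⁻¹ x) ?_ (fun a _ b _ e => σ⁻¹.injective e)
      (fun b hb => ⟨σ b, ?_, by simp⟩)
    · intro x hx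
      simp only [Finset.mem_filter, Finset.mem_univ, true_and] at hx ⊢
      rw [hi] at hx
      simpa using congrArg (fun y => σ⁻¹ y) hx
    · simp only [Finset.mem_filter, Finset.mem_univ, true_and] at hb ⊢
      rw [hi]
      simp [hb]
  have hne : ∀ i j : Fin 3, i ≠ j →
      σ * ![ca, cb, cc] i * σ⁻¹ * (σ * ![ca, cb, cc] j * σ⁻¹) ≠ 1 ∧
      σ * ![ca, cb, cc] i * σ⁻¹ ≠ σ * ![ca, cb, cc] j * σ⁻¹ := by
    intro i j hij
    refine ⟨fun e => (cyc_distinct i j hij).1 ?_,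
      fun e => (cyc_distinct i j hij).2 (mul_left_cancel (mul_right_cancel e))⟩
    have := congrArg (fun y => σ⁻¹ * y * σ) e
    simpa [mul_assoc] using this
  rcases images_cases _ (himg 0) _ (himg 1) _ (himg 2) with h | h | h | h | h | h | h
  · exact absurd h (hne 0 1 (by decide)).1
  · exact absurd h (hne 0 1 (by decide)).2
  · exact absurd h (hne 1 2 (by decide)).1
  · exact absurd h (hne 1 2 (by decide)).2
  · exact absurd h (hne 0 2 (by decide)).1
  · exact absurd h (hne 0 2 (by decide)).2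
  obtain ⟨k, o, h0, h1, h2⟩ := h
  set μ := mel k * (if o then fl0 else 1) with hμ
  have comm : ∀ f : P9, μ * f * μ⁻¹ = σ * f * σ⁻¹ → μ⁻¹ * σ * f = f * (μ⁻¹ * σ) := by
    intro f hf
    calc μ⁻¹ * σ * f = μ⁻¹ * (σ * f * σ⁻¹) * σ := by group
      _ = μ⁻¹ * (μ * f * μ⁻¹) * σ := by rw [hf]
      _ = _ := by group
  obtain ⟨i, hi⟩ := centralizer_jel (comm ca h0) (comm cb h1) (comm cc h2)
  have ho : o = false := by
    cases o with
    | false => rfl
    | true =>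
      exfalso
      have h1 := congrArg Perm.sign hi
      rw [jel_even, map_mul, map_inv, hev, hμ, if_pos rfl, map_mul, mel_even,
        show Perm.sign fl0 = -1 by decide +kernel] at h1
      revert h1; decide
  subst ho
  have hμ' : μ = mel k := by simp [hμ]
  have hmem : μ * jel i * μ⁻¹ ∈ J0 := by
    have hmn : μ ∈ Subgroup.normalizer (J0 : Set P9) := by
      rw [hμ']
      refine mem_normalizer_of_gen fun g => ?_
      obtain ⟨j, hj⟩ := el_conj k g
      exact hj ▸ jel_mem j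
    exact (Subgroup.mem_normalizer_iff.mp hmn _).mp (jel_mem i)
  obtain ⟨j, hj⟩ := mem_J0.mp hmem
  refine ⟨(j, k), ?_⟩
  rw [el, hj, ← hμ', hi]
  group

theorem el_injective : Function.Injective el := by
  rintro ⟨i, k⟩ ⟨j, l⟩ e
  have hkl : k = l := by
    have key : ∀ g : Fin 3, mel k * ![ca, cb, cc] g * (mel k)⁻¹ =
        mel l * ![ca, cb, cc] g * (mel l)⁻¹ := by
      intro g
      obtain ⟨u, hu⟩ := el_conj k g
      obtain ⟨v, hv⟩ := el_conj l g
      have hc : ∀ i j, jel i * jel j = jel j * jel i := by decide +kernel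
      have h1 : el (i, k) * ![ca, cb, cc] g * (el (i, k))⁻¹ = jel u := by
        rw [el, show jel i * mel k * ![ca, cb, cc] g * (jel i * mel k)⁻¹ =
          jel i * (mel k * ![ca, cb, cc] g * (mel k)⁻¹) * (jel i)⁻¹ by group, hu, hc i u,
          mul_inv_cancel_right]
      have h2 : el (j, l) * ![ca, cb, cc] g * (el (j, l))⁻¹ = jel v := by
        rw [el, show jel j * mel l * ![ca, cb, cc] g * (jel j * mel l)⁻¹ =
          jel j * (mel l * ![ca, cb, cc] g * (mel l)⁻¹) * (jel j)⁻¹ by group, hv, hc j v,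
          mul_inv_cancel_right]
      rw [hu, hv, ← h1, ← h2, e]
    have hrow : ∀ k g, mel k * ![ca, cb, cc] g * (mel k)⁻¹ =
        cycV (![(row (false, k)).1, (row (false, k)).2.1, (row (false, k)).2.2] g) := by
      intro k g
      obtain ⟨h0, h1, h2⟩ := mono_row (false, k)
      simp only [mono, Bool.false_eq_true, if_false, mul_one] at h0 h1 h2
      fin_cases g
      exacts [mul_inv_eq_of_eq_mul h0, mul_inv_eq_of_eq_mul h1, mul_inv_eq_of_eq_mul h2]
    have hV : Function.Injective cycV := by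
      have : ∀ i j, cycV i = cycV j → i = j := by decide +kernel
      exact this
    have hinj : ∀ k l : Fin 4 × Fin 6, row (false, k) = row (false, l) → k = l := by decide +kernel
    refine hinj k l ?_
    have h := fun g => hV ((hrow k g).symm.trans ((key g).trans (hrow l g)))
    exact Prod.ext (h 0) (Prod.ext (h 1) (h 2))
  subst hkl
  rw [jel_injective i j (mul_right_cancel e)]

theorem card_H0 : Nat.card H0 = 648 := by
  have h : Function.Bijective (fun w => (⟨el w, el_mem w⟩ : H0)) := by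
    refine ⟨fun i j e => el_injective (congrArg Subtype.val e), fun x => ?_⟩
    obtain ⟨w, hw⟩ := exists_el x.2
    exact ⟨w, Subtype.ext hw⟩
  rw [← Nat.card_congr (Equiv.ofBijective _ h)]
  simp [Nat.card_eq_fintype_card]

end Cfsg.Agent.Lib.A9Norm79.Model
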