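import Cfsg.Agent.Lib.A9Norm79.CaseI
import Cfsg.Agent.Lib.A9Norm79.CaseII
import Cfsg.Agent.Lib.A9Norm79.CentA

/-!
# The configuration from an isomorphism of normalisers
-/

set_option autoImplicit false

namespace Cfsg.Agent.Lib.A9Norm79

open Model

universe u

variable {G : Type u} [Group G]

/-- An isomorphism of the normaliser with the model matches `J` with `J0`. -/
theorem exists_cfg [Finite G] (J : Subgroup G) (hJcomm : IsMulCommutative J)
    (hJexp : ∀ a ∈ J, a ^ 3 = 1) (hJcard : Nat.card J = 27)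
    (eH : (Subgroup.normalizer (J : Set G)) ≃* H0)
    (hcores : ∀ x ∈ Subgroup.normalizer (J : Set G), orderOf x = 3 →
      Cfsg.pPrimeCore 3 (Subgroup.centralizer ({x} : Set G)) = ⊥) :
    ∃ C : Cfg G, C.J = J := by
  haveI : Fact (Nat.Prime 3) := ⟨Nat.prime_three⟩
  set N := Subgroup.normalizer (J : Set G) with hN
  set φ : H0 →* G := N.subtype.comp eH.symm.toMonoidHom with hφ
  have hinj : Function.Injective φ := N.subtype_injective.comp eH.symm.injective
  have hrange : φ.range = N := by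
    refine le_antisymm (by rintro - ⟨h, rfl⟩; exact (eH.symm h).2) fun x hx => ?_
    exact ⟨eH ⟨x, hx⟩, by simp [hφ]⟩
  set M := J.comap φ with hM
  have hle : ∀ h ∈ M, (h : P9) ∈ J0 := by
    intro h hh
    obtain ⟨w, hw⟩ := exists_el h.2
    rw [← hw, el_mem_J0_iff]
    by_contra hw2
    have h3 : h ^ 3 = 1 := hinj (by rw [map_pow, map_one]; exact hJexp _ hh)
    obtain ⟨g, hg⟩ := J0_char w hw2 (by rw [hw]; exact congrArg Subtype.val h3)
    have hgm : ∀ g : Fin 3, (![ca, cb, cc] g : P9) ∈ H0 := fun g => by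
      have hj : ![ca, cb, cc] g = el (![(1, 0, 0), (0, 1, 0), (0, 0, 1)] g, (0, 0)) := by
        rw [el_base]
        fin_cases g
        exacts [jel_gen.1.symm, jel_gen.2.1.symm, jel_gen.2.2.1.symm]
      exact hj ▸ el_mem _
    set k : H0 := ⟨_, hgm g⟩
    have hk : k * h * k⁻¹ ∈ M := by
      rw [hM, Subgroup.mem_comap, map_mul, map_mul, map_inv]
      exact (Subgroup.mem_normalizer_iff.mp (by rw [← hN, ← hrange]; exact ⟨k, rfl⟩) _).mp hh
    have hc : k * h * k⁻¹ * h = h * (k * h * k⁻¹) := by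
      refine hinj ?_
      rw [map_mul φ (k * h * k⁻¹) h, map_mul φ h]
      exact congrArg Subtype.val (hJcomm.is_comm.comm ⟨_, hk⟩ ⟨_, hh⟩)
    rw [hw] at hg
    exact hg (congrArg Subtype.val hc)
  have hcard : Nat.card M = 27 := by
    rw [← hJcard]
    refine Nat.card_eq_of_bijective (fun x => (⟨φ x.1, x.2⟩ : J))
      ⟨fun a b e => Subtype.ext (hinj (show φ a.1 = φ b.1 from congrArg (fun y : J => (y : G)) e)), fun y => ?_⟩
    obtain ⟨h, hh⟩ : (y : G) ∈ φ.range := hrange ▸ Subgroup.le_normalizer y.2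
    exact ⟨⟨h, by rw [hM, Subgroup.mem_comap, hh]; exact y.2⟩, Subtype.ext hh⟩
  have heq : M = J0.subgroupOf H0 := by
    refine Subgroup.eq_of_le_of_card_ge (fun h hh => Subgroup.mem_subgroupOf.mpr (hle h hh)) ?_
    rw [hcard, Nat.card_congr (Subgroup.subgroupOfEquivOfLe (fun x hx => ?_)).toEquiv, card_J0]
    obtain ⟨i, rfl⟩ := mem_J0.mp hx
    exact el_base i ▸ el_mem _
  refine ⟨{ φ := φ, inj := hinj, J := J, mapJ := fun h => ?_, range := hrange,
            cores := fun x hx hx1 => hcores _ (eH.symm x).2 ?_ }, rfl⟩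
  · show h ∈ M ↔ _
    rw [heq, Subgroup.mem_subgroupOf]
  · refine orderOf_eq_prime ?_ fun e => hx1 (hinj (e.trans (map_one φ).symm))
    rw [← map_pow, show x ^ 3 = 1 from Subtype.ext hx, map_one]

end Cfsg.Agent.Lib.A9Norm79
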