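import Mathlib.GroupTheory.Perm.Cycle.Type

/-!
# Groups generated by two elements of order three whose product has order three
-/

set_option autoImplicit false

namespace Cfsg.Agent.Lib.A9Norm79.Triangle

universe u

variable {G : Type u} [Group G] [Finite G]

/-- Either an element of order three commutes with both, or all three classes agree up to inversion. -/
theorem exists_central_or_conj
    {x y : G} (hx : x ^ 3 = 1) (hy : y ^ 3 = 1) (hxy : (x * y) ^ 3 = 1) :
    (∃ f : G, f ^ 3 = 1 ∧ f ≠ 1 ∧ Commute x f ∧ Commute y f) ∨ (IsConj x y ∧ IsConj (x * x) (x * y)) := by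
  have hx3 : x * x * x = 1 := by rw [← hx, pow_succ, pow_two]
  have hy3 : y * y * y = 1 := by rw [← hy, pow_succ, pow_two]
  have hxy3 : x * y * (x * y) * (x * y) = 1 := by rw [← hxy, pow_succ, pow_two]
  have hxi : x⁻¹ = x * x := inv_eq_of_mul_eq_one_left hx3
  set u := x⁻¹ * y with hu
  set v := y * x⁻¹ with hv
  set w := x * y * x with hw
  have xu : x * u * x⁻¹ = v := by rw [hu, hv]; group
  have xv : x * v * x⁻¹ = w := by
    rw [hv, hw]
    calc x * (y * x⁻¹) * x⁻¹ = x * y * (x * x * (x * x)) := by rw [hxi]; group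
      _ = x * y * ((x * x * x) * x) := by group
      _ = x * y * x := by rw [hx3, one_mul]
  have xw : x * w * x⁻¹ = u := by
    rw [hw, hu]
    calc x * (x * y * x) * x⁻¹ = x * x * y := by group
      _ = x⁻¹ * y := by rw [hxi]
  have huvw : u * v * w = 1 := by
    rw [hu, hv, hw]
    calc x⁻¹ * y * (y * x⁻¹) * (x * y * x) = x⁻¹ * (y * y * y) * x := by group
      _ = 1 := by rw [hy3]; group
  have huv : Commute u v := by
    have h1 : u * v = w⁻¹ := eq_inv_of_mul_eq_one_left huvw
    have h2 : v * u = w⁻¹ := by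
      apply eq_inv_of_mul_eq_one_left
      rw [hu, hv, hw]
      calc y * x⁻¹ * (x⁻¹ * y) * (x * y * x) = y * (x⁻¹ * x⁻¹) * y * x * y * x := by group
        _ = y * x * y * x * y * x := by
          rw [hxi]
          calc y * (x * x * (x * x)) * y * x * y * x
              = y * ((x * x * x) * x) * y * x * y * x := by group
            _ = _ := by rw [hx3, one_mul]
        _ = x⁻¹ * (x * y * (x * y) * (x * y)) * x := by group
        _ = 1 := by rw [hxy3]; group
    exact h1.trans h2.symm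
  have hwuv : w = (u * v)⁻¹ := eq_inv_of_mul_eq_one_right huvw
  set A : Subgroup G := Subgroup.closure {u, v} with hA
  have huA : u ∈ A := Subgroup.subset_closure (by simp)
  have hvA : v ∈ A := Subgroup.subset_closure (by simp)
  have hwA : w ∈ A := hwuv ▸ inv_mem (mul_mem huA hvA)
  have hAab : ∀ a ∈ A, ∀ b ∈ A, Commute a b := by
    have h0 : A ≤ Subgroup.centralizer ({u, v} : Set G) := by
      rw [hA, Subgroup.closure_le]
      rintro z (rfl | rfl) <;> rw [SetLike.mem_coe, Subgroup.mem_centralizer_iff] <;>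
        rintro t (rfl | rfl)
      · rfl
      · exact huv.symm.eq
      · exact huv.eq
      · rfl
    intro a ha b hb
    have h1 : ({u, v} : Set G) ⊆ Subgroup.centralizer ({a} : Set G) := by
      intro t ht
      rw [SetLike.mem_coe, Subgroup.mem_centralizer_singleton_iff]
      exact Subgroup.mem_centralizer_iff.mp (h0 ha) t ht
    have h2 : A ≤ Subgroup.centralizer ({a} : Set G) := (Subgroup.closure_le _).mpr h1
    exact (Subgroup.mem_centralizer_singleton_iff.mp (h2 hb)).symm
  have hinv : ∀ a ∈ A, x * a * x⁻¹ ∈ A := by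
    intro a ha
    refine Subgroup.closure_induction (p := fun a _ => x * a * x⁻¹ ∈ A) ?_ (by simp) ?_ ?_ ha
    · rintro z (rfl | rfl)
      · rw [xu]; exact hvA
      · rw [xv]; exact hwA
    · intro a b _ _ h1 h2
      rw [show x * (a * b) * x⁻¹ = x * a * x⁻¹ * (x * b * x⁻¹) by group]
      exact mul_mem h1 h2
    · intro a _ h1
      rw [show x * a⁻¹ * x⁻¹ = (x * a * x⁻¹)⁻¹ by group]
      exact inv_mem h1
  by_cases h3A : 3 ∣ Nat.card A
  · left
    have : Fact (Nat.Prime 3) := ⟨Nat.prime_three⟩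
    obtain ⟨a₀, ha₀⟩ := exists_prime_orderOf_dvd_card' 3 h3A
    rw [← Subgroup.orderOf_coe] at ha₀
    set a : G := (a₀ : G) with haa
    have haA : a ∈ A := a₀.2
    have ha3 : a ^ 3 = 1 := ha₀ ▸ pow_orderOf_eq_one a
    have ha1 : a ≠ 1 := fun h => by rw [h, orderOf_one] at ha₀; omega
    set b := x * a * x⁻¹ with hb
    set c := x * b * x⁻¹ with hc
    have hbA : b ∈ A := hinv a haA
    have hcA : c ∈ A := hinv b hbA
    have xc : x * c * x⁻¹ = a := by
      rw [hc, hb]
      calc x * (x * (x * a * x⁻¹) * x⁻¹) * x⁻¹ = (x * x * x) * a * (x * x * x)⁻¹ := by group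
        _ = a := by rw [hx3]; group
    have hb3 : b ^ 3 = 1 := by rw [hb, conj_pow, ha3]; group
    have hc3 : c ^ 3 = 1 := by rw [hc, conj_pow, hb3]; group
    have hfix : ∃ f ∈ A, f ^ 3 = 1 ∧ f ≠ 1 ∧ x * f * x⁻¹ = f := by
      by_cases hn : a * b * c = 1
      · by_cases hd : b * a⁻¹ = 1
        · exact ⟨a, haA, ha3, ha1, by rw [← hb]; exact mul_inv_eq_one.mp hd⟩
        refine ⟨b * a⁻¹, mul_mem hbA (inv_mem haA), ?_, hd, ?_⟩
        · rw [((hAab b hbA a haA).inv_right).mul_pow, inv_pow, hb3, ha3, inv_one, one_mul]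
        · rw [show x * (b * a⁻¹) * x⁻¹ = (x * b * x⁻¹) * (x * a * x⁻¹)⁻¹ by group, ← hb, ← hc]
          have hcab : c = (a * b)⁻¹ := eq_inv_of_mul_eq_one_right hn
          have ha2 : a⁻¹ = a * a := inv_eq_of_mul_eq_one_left (by
            rw [← pow_two, ← pow_succ]; exact ha3)
          have hb2 : b⁻¹ = b * b := inv_eq_of_mul_eq_one_left (by
            rw [← pow_two, ← pow_succ]; exact hb3)
          rw [hcab, mul_inv_rev]
          calc b⁻¹ * a⁻¹ * b⁻¹ = b⁻¹ * (b⁻¹ * a⁻¹) := by
                rw [mul_assoc, ((hAab a haA b hbA).inv_inv).eq]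
            _ = (b⁻¹ * b⁻¹) * a⁻¹ := by group
            _ = b * a⁻¹ := by
              rw [← mul_inv_rev b b, ← hb2, inv_inv]
      · refine ⟨a * b * c, mul_mem (mul_mem haA hbA) hcA, ?_, hn, ?_⟩
        · rw [(Commute.mul_left (hAab a haA c hcA) (hAab b hbA c hcA)).mul_pow,
            (hAab a haA b hbA).mul_pow, ha3, hb3, hc3, one_mul, one_mul]
        · rw [show x * (a * b * c) * x⁻¹ = x * a * x⁻¹ * (x * b * x⁻¹) * (x * c * x⁻¹) by group,
            ← hb, ← hc, xc]
          exact ((hAab a haA b hbA).mul_right (hAab a haA c hcA)).eq.symm.trans (mul_assoc _ _ _).symm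
    obtain ⟨f, hfA, hf3, hf1, hfx⟩ := hfix
    have hxf : Commute x f := mul_inv_eq_iff_eq_mul.mp hfx
    have hyf : Commute y f := by
      have : y = x * u := by rw [hu]; group
      rw [this]
      exact hxf.mul_left (hAab u huA f hfA)
    exact ⟨f, hf3, hf1, hxf, hyf⟩
  · right
    set n := orderOf u with hn
    have hcop : Nat.Coprime 3 n := (Nat.prime_three.coprime_iff_not_dvd).mpr fun h =>
      h3A (h.trans (Subgroup.orderOf_dvd_natCard A huA))
    have hcop' : Nat.Coprime 3 (Nat.card A) := (Nat.prime_three.coprime_iff_not_dvd).mpr h3A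
    have root : ∀ z ∈ A, ∃ k : ℕ, (z ^ 3) ^ k = z := by
      intro z hz
      obtain ⟨m, hm⟩ := exists_pow_eq_self_of_coprime
        (hcop'.coprime_dvd_right (Subgroup.orderOf_dvd_natCard A hz))
      exact ⟨m, hm⟩
    obtain ⟨k, hk⟩ := root u huA
    have hu3 : u ^ 3 = u * u * (v * w)⁻¹ := by
      rw [pow_succ, pow_two]
      congr 1
      exact eq_inv_of_mul_eq_one_left (by rw [← mul_assoc]; exact huvw)
    have xi : ∀ z, x⁻¹ * (x * z * x⁻¹) * x = z := fun z => by group
    have iu : x⁻¹ * u * x = w := by rw [← xw, xi]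
    have iv : x⁻¹ * v * x = u := by rw [← xu, xi]
    have iw : x⁻¹ * w * x = v := by rw [← xv, xi]
    refine ⟨isConj_iff.mpr ⟨(v * v * w) ^ k, ?_⟩, isConj_iff.mpr ⟨(w * w * v) ^ k, ?_⟩⟩
    · have e1 : x⁻¹ * (v * v * w) * x * (v * v * w)⁻¹ = u ^ 3 := by
        rw [show x⁻¹ * (v * v * w) * x = (x⁻¹ * v * x) * (x⁻¹ * v * x) * (x⁻¹ * w * x) by group,
          iv, iw, hu3]
        calc u * u * v * (v * v * w)⁻¹ = u * u * (v * w⁻¹ * v⁻¹) * v⁻¹ := by group
          _ = u * u * (w⁻¹ * v⁻¹) := by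
            rw [((hAab v hvA w hwA).inv_right).eq]; group
          _ = u * u * (v * w)⁻¹ := by group
      have hmemz : v * v * w ∈ A := mul_mem (mul_mem hvA hvA) hwA
      have hcz : Commute (x⁻¹ * (v * v * w) * x) (v * v * w)⁻¹ := by
        refine (hAab _ ?_ _ hmemz).inv_right
        rw [show x⁻¹ * (v * v * w) * x = (x⁻¹ * v * x) * (x⁻¹ * v * x) * (x⁻¹ * w * x) by group,
          iv, iw]
        exact mul_mem (mul_mem huA huA) hvA
      have e2 : x⁻¹ * (v * v * w) ^ k * x * ((v * v * w) ^ k)⁻¹ = u := by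
        have h1 : x⁻¹ * (v * v * w) ^ k * x = (x⁻¹ * (v * v * w) * x) ^ k := by
          rw [show x⁻¹ * (v * v * w) * x = MulAut.conj x⁻¹ (v * v * w) by
            rw [MulAut.conj_apply, inv_inv], ← map_pow, MulAut.conj_apply, inv_inv]
        rw [h1, ← inv_pow, ← hcz.mul_pow, e1, hk]
      calc (v * v * w) ^ k * x * ((v * v * w) ^ k)⁻¹
          = x * (x⁻¹ * (v * v * w) ^ k * x * ((v * v * w) ^ k)⁻¹) := by group
        _ = x * u := by rw [e2]
        _ = y := by rw [hu]; group
    · have e1 : x * (w * w * v) * x⁻¹ * (w * w * v)⁻¹ = u ^ 3 := by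
        rw [show x * (w * w * v) * x⁻¹ = (x * w * x⁻¹) * (x * w * x⁻¹) * (x * v * x⁻¹) by group,
          xw, xv, hu3]
        calc u * u * w * (w * w * v)⁻¹ = u * u * (w * v⁻¹ * w⁻¹) * w⁻¹ := by group
          _ = u * u * (v⁻¹ * w⁻¹) := by
            rw [((hAab w hwA v hvA).inv_right).eq]; group
          _ = u * u * (v * w)⁻¹ := by
            rw [← mul_inv_rev, (hAab v hvA w hwA).eq]
      have hmemz : w * w * v ∈ A := mul_mem (mul_mem hwA hwA) hvA
      have hcz : Commute (x * (w * w * v) * x⁻¹) (w * w * v)⁻¹ :=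
        (hAab _ (hinv _ hmemz) _ hmemz).inv_right
      have e2 : x * (w * w * v) ^ k * x⁻¹ * ((w * w * v) ^ k)⁻¹ = u := by
        rw [← conj_pow, ← inv_pow, ← hcz.mul_pow, e1, hk]
      calc (w * w * v) ^ k * (x * x) * ((w * w * v) ^ k)⁻¹
          = (w * w * v) ^ k * x⁻¹ * ((w * w * v) ^ k)⁻¹ := by rw [hxi]
        _ = x⁻¹ * (x * (w * w * v) ^ k * x⁻¹ * ((w * w * v) ^ k)⁻¹) := by group
        _ = x⁻¹ * u := by rw [e2]
        _ = x * x * u := by rw [hxi]
        _ = x * (x * u) := by group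
        _ = x * y := by rw [hu]; group

end Cfsg.Agent.Lib.A9Norm79.Triangle
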