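import Cfsg.Agent.Lib.A9Norm79.CentZ
import Cfsg.Agent.Lib.A9Norm79.Triangle
import Cfsg.Agent.Lib.Transfer.Fusion

/-!
# The classes outside `J` when the cycling element is not conjugate to a central one
-/

set_option autoImplicit false

namespace Cfsg.Agent.Lib.A9Norm79

open Model Cfsg.Agent.Lib.Transfer.PResidual
open scoped Pointwise

universe u

namespace Model

/-- The cycling element. -/
def ir : W := ((0, 0, 0), (0, 1))

/-- The two classes of elements of order nine. -/
def ig (b : Bool) : W := ((1, 0, 0), (0, if b then 1 else 2))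

theorem ir_facts : el ir ^ 3 = 1 ∧ el ir ≠ 1 ∧ inS ir := by decide +kernel

theorem ig_facts : ∀ b, el (ig b) ^ 3 = jel (1, 1, 1) ∧ el (ig b) ^ 9 = 1 ∧ inS (ig b) ∧
    el (ig b) ^ 3 ≠ 1 := by decide +kernel

theorem cent_ir : ∀ w : W, el w * el ir = el ir * el w →
    ∃ i k : Fin 3, el w = el ir ^ (i : ℕ) * jel (1, 1, 1) ^ (k : ℕ) := by decide +kernel

theorem cent_ig : ∀ b, (Finset.univ.filter fun w : W =>
    inS w ∧ el w * el (ig b) = el (ig b) * el w).card = 9 := by decide +kernel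

theorem ig_not_conj : ∀ v : W, inS v → el v * el (ig true) ≠ el (ig false) * el v := by
  decide +kernel

theorem conj_line : ∀ i k : Fin 3, i ≠ 0 →
    ∃ w : W, el w * (el ir ^ (i : ℕ) * jel (1, 1, 1) ^ (k : ℕ)) = el ir * el w := by decide +kernel

theorem rat_ir : ∃ w : W, el w * el ir = el ir ^ 2 * el w := by decide +kernel

theorem rat_ig : ∀ b, ∀ m : Fin 9, (m : ℕ) % 3 ≠ 0 →
    ∃ w : W, el w * el (ig b) = el (ig b) ^ (m : ℕ) * el w := by decide +kernel

theorem stab_four : ∀ i, typ i = 1 ∨ typ i = 2 → ∀ k : Fin 4 × Fin 6,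
    mel k * jel i = jel i * mel k → mel k ^ 4 = 1 := by decide +kernel

/-- The six elements counted by the second structure constant. -/
def six : Finset (Fin 3 × Fin 3 × Fin 3) :=
  Finset.univ.filter fun i => el (i, (0, 2)) ^ 3 = 1 ∧
    ∃ k, typ k = 2 ∧ el ir * el (i, (0, 2)) = jel k

theorem six_card : six.card = 6 := by decide +kernel

theorem six_conj : ∀ i ∈ six, ∃ w : W, el w * el ir = el (i, (0, 2)) * el w := by decide +kernel

theorem six_of : ∀ u : W, inS u → ∀ k, el ir * el u = jel k → u.2 = (0, 2) := by decide +kernel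

end Model

namespace Cfg

variable {G : Type u} [Group G] [Finite G] (C : Cfg G)

/-- The cycling element. -/
def r : G := C.E ir

/-- An element of order nine. -/
def g (b : Bool) : G := C.E (ig b)

/-- The central element of the Sylow subgroup. -/
def z : G := C.j (1, 1, 1)

/-- The subgroup generated by the cycling element and the central element. -/
def A : Subgroup G := C.S ⊓ Subgroup.centralizer ({C.r} : Set G)

theorem conj_of_el {w u v : W} (h : el w * el u = el v * el w) : IsConj (C.E u) (C.E v) := by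
  refine isConj_iff.mpr ⟨C.E w, mul_inv_eq_iff_eq_mul.mpr ?_⟩
  rw [E, E, E, ← map_mul, ← map_mul]
  exact congrArg C.φ (Subtype.ext h)

theorem conj_pow_of_el {w u : W} {n : ℕ} (h : el w * el u = el u ^ n * el w) :
    IsConj (C.E u) (C.E u ^ n) := by
  refine isConj_iff.mpr ⟨C.E w, mul_inv_eq_iff_eq_mul.mpr ?_⟩
  rw [E, E, ← map_pow, ← map_mul, ← map_mul]
  exact congrArg C.φ (Subtype.ext h)

theorem r_mem_S : C.r ∈ C.S := C.mem_S.mpr ⟨ir, ir_facts.2.2, rfl⟩

theorem r_pow : C.r ^ 3 = 1 := (C.E_pow_eq_one_iff _ _).mpr ir_facts.1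

theorem r_ne_one : C.r ≠ 1 := fun h => ir_facts.2.1 (by
  have := (C.E_pow_eq_one_iff ir 1).mp (by rw [pow_one]; exact h)
  simpa using this)

theorem r_not_mem_J : C.r ∉ C.J := fun h => by
  have := (C.E_mem_J_iff ir).mp h
  exact absurd this (by decide)

theorem z_mem_A : C.z ∈ C.A :=
  ⟨C.J_le_S (C.j_mem _), Subgroup.mem_centralizer_singleton_iff.mpr
    (Subgroup.mem_centralizer_singleton_iff.mp (C.S_inf_centralizer_z C.r_mem_S)).symm⟩

theorem r_mem_A : C.r ∈ C.A := ⟨C.r_mem_S, Subgroup.mem_centralizer_singleton_iff.mpr rfl⟩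

theorem mem_A_exists {x : G} (hx : x ∈ C.A) :
    ∃ i k : Fin 3, x = C.r ^ (i : ℕ) * C.z ^ (k : ℕ) := by
  obtain ⟨u, -, rfl⟩ := C.mem_S.mp hx.1
  have h := (C.E_comm_iff u ir).mp (Subgroup.mem_centralizer_singleton_iff.mp hx.2)
  obtain ⟨i, k, hik⟩ := cent_ir u h
  refine ⟨i, k, ?_⟩
  rw [r, z, j, E, E, E, ← map_pow, ← map_pow, ← map_mul]
  refine congrArg C.φ (Subtype.ext ?_)
  show el u = el ir ^ (i : ℕ) * el ((1, 1, 1), (0, 0)) ^ (k : ℕ)
  rw [el_base]; exact hik

theorem card_A : Nat.card C.A = 9 := by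
  have hz3 : C.z ^ 3 = 1 := C.J_pow _ (C.j_mem _)
  have hcomm : Commute C.r C.z :=
    Subgroup.mem_centralizer_singleton_iff.mp (C.S_inf_centralizer_z C.r_mem_S)
  have hbij : Function.Bijective (fun p : Fin 3 × Fin 3 => (⟨C.r ^ (p.1 : ℕ) * C.z ^ (p.2 : ℕ),
      mul_mem (pow_mem C.r_mem_A _) (pow_mem C.z_mem_A _)⟩ : C.A)) := by
    refine ⟨fun p q e => ?_, fun x => ?_⟩
    · have e' := congrArg Subtype.val e
      simp only [r, z, j, E, ← map_pow, ← map_mul] at e'
      have h' := congrArg Subtype.val (C.inj e')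
      simp only [Subgroup.coe_mul, Subgroup.coe_pow, el_base] at h'
      exact (by decide +kernel : ∀ p q : Fin 3 × Fin 3,
        el ir ^ (p.1 : ℕ) * jel (1, 1, 1) ^ (p.2 : ℕ) =
          el ir ^ (q.1 : ℕ) * jel (1, 1, 1) ^ (q.2 : ℕ) → p = q) p q h'
    · obtain ⟨i, k, h⟩ := C.mem_A_exists x.2
      exact ⟨(i, k), Subtype.ext h.symm⟩
  rw [← Nat.card_congr (Equiv.ofBijective _ hbij)]
  simp [Nat.card_eq_fintype_card]

theorem isConj_line (i k : Fin 3) (hi : i ≠ 0) :
    IsConj (C.r ^ (i : ℕ) * C.z ^ (k : ℕ)) C.r := by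
  obtain ⟨w, hw⟩ := conj_line i k hi
  refine isConj_iff.mpr ⟨C.E w, mul_inv_eq_iff_eq_mul.mpr ?_⟩
  rw [r, z, j, E, E, E, ← map_pow, ← map_pow, ← map_mul, ← map_mul, ← map_mul]
  refine congrArg C.φ (Subtype.ext ?_)
  show el w * (el ir ^ (i : ℕ) * el ((1, 1, 1), (0, 0)) ^ (k : ℕ)) = el ir * el w
  rw [el_base]; exact hw

theorem z_pow_cases (k : Fin 3) (hk : k ≠ 0) : IsConj (C.z ^ (k : ℕ)) C.z := by
  obtain rfl | rfl := (by decide : ∀ k : Fin 3, k ≠ 0 → k = 1 ∨ k = 2) k hk
  · show IsConj (C.z ^ 1) C.z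
    rw [pow_one]
  · have h : C.z ^ 2 = C.j (2, 2, 2) := by
      rw [z, j, j, E, E, ← map_pow]
      refine congrArg C.φ (Subtype.ext ?_)
      show el _ ^ 2 = el _
      rw [el_base, el_base]
      decide +kernel
    show IsConj (C.z ^ 2) C.z
    rw [h, z, isConj_j_iff]
    decide

/-- A conjugate in `S` of an element of small type lies in `J`. -/
theorem mem_J_of_isConj {i : Fin 3 × Fin 3 × Fin 3} (hi : typ i = 1 ∨ typ i = 2) {y : G}
    (hy : y ∈ C.S) (h : IsConj (C.j i) y) : y ∈ C.J := by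
  haveI : Fact (Nat.Prime 3) := ⟨Nat.prime_three⟩
  obtain ⟨g, hg⟩ := isConj_iff.mp h
  set X₀ := Subgroup.centralizer ({C.j i} : Set G)
  have hJX₀ : C.J ≤ X₀ := C.J_le_centralizer_j i
  obtain ⟨P, hP⟩ := exists_sylow_of_normalizer (C.J.subgroupOf X₀)
    (IsPGroup.of_card (p := 3) (n := 3) (by
      rw [Nat.card_congr (Subgroup.subgroupOfEquivOfLe hJX₀).toEquiv, C.card_J]; norm_num)) (by
    rintro x hx ⟨k, hk⟩
    have hk' : (x : G) ^ 3 ^ k = 1 := by rw [← Subgroup.coe_pow, hk, Subgroup.coe_one]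
    obtain ⟨w, hw⟩ := C.exists_E (C.mem_normalizer_J_of_map hJX₀ hx)
    have hc := Subgroup.mem_centralizer_singleton_iff.mp x.2
    rw [← hw] at hc hk'
    have h4 := stab_four i hi w.2 ((C.comm_E_j_iff w i).mp hc)
    set u := C.E ((0, 0, 0), w.2) with hu
    have hwu : C.E w = C.j w.1 * u := by
      rw [hu, j, C.E_mul]
      rw [el_base, el, el, jel_gen.2.2.2, one_mul]
    have hu4 : u ^ 4 = 1 := (C.E_pow_eq_one_iff _ _).mpr (by
      rw [el, jel_gen.2.2.2, one_mul]; exact h4)
    have hN := C.E_mem ((0, 0, 0), w.2)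
    have hind : ∀ n : ℕ, C.E w ^ n * (u ^ n)⁻¹ ∈ C.J := by
      intro n
      induction n with
      | zero => simpa using one_mem C.J
      | succ n ih =>
        have he : C.E w ^ (n + 1) * (u ^ (n + 1))⁻¹ =
            (C.E w ^ n * (u ^ n)⁻¹) * (u ^ n * C.j w.1 * (u ^ n)⁻¹) := by
          rw [pow_succ, pow_succ]
          nth_rewrite 2 [hwu]
          group
        rw [he]
        exact mul_mem ih
          ((Subgroup.mem_normalizer_iff.mp (pow_mem hN n) _).mp (C.j_mem _))
    have h4J : C.E w ^ 4 ∈ C.J := by simpa [hu4] using hind 4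
    obtain ⟨m, hm⟩ := exists_pow_eq_self_of_coprime (x := C.E w) (n := 4)
      (Nat.Coprime.coprime_dvd_right (orderOf_dvd_of_pow_eq_one hk')
        (Nat.Coprime.pow_right k (by norm_num)))
    exact Subgroup.mem_subgroupOf.mpr (hw ▸ hm ▸ pow_mem h4J m))
  set Y := Subgroup.centralizer ({y} : Set G)
  have hzY : C.z ∈ Y := Subgroup.mem_centralizer_singleton_iff.mpr
    (Subgroup.mem_centralizer_singleton_iff.mp (C.S_inf_centralizer_z hy)).symm
  have hmem : ∀ x : G, g⁻¹ * x * g ∈ X₀ ↔ x ∈ Y := by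
    intro x
    rw [Subgroup.mem_centralizer_singleton_iff, Subgroup.mem_centralizer_singleton_iff, ← hg]
    constructor
    · intro e
      calc x * (g * C.j i * g⁻¹) = g * (g⁻¹ * x * g * C.j i) * g⁻¹ := by group
        _ = g * (C.j i * (g⁻¹ * x * g)) * g⁻¹ := by rw [e]
        _ = _ := by group
    · intro e
      calc g⁻¹ * x * g * C.j i = g⁻¹ * (x * (g * C.j i * g⁻¹)) * g := by group
        _ = g⁻¹ * (g * C.j i * g⁻¹ * x) * g := by rw [e]
        _ = _ := by group
  set z' : X₀ := ⟨g⁻¹ * C.z * g, (hmem _).mpr hzY⟩ with hz'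
  have hz'3 : IsPGroup 3 (Subgroup.zpowers z') := IsPGroup.of_card (n := 1) (by
    rw [Nat.card_zpowers, pow_one]
    refine orderOf_eq_prime (Subtype.ext ?_) fun e => ?_
    · show (g⁻¹ * C.z * g) ^ 3 = 1
      rw [show g⁻¹ * C.z * g = g⁻¹ * C.z * g⁻¹⁻¹ by group, conj_pow,
        C.J_pow (x := C.z) (C.j_mem _)]
      group
    · have e' : g⁻¹ * C.z * g = 1 := congrArg Subtype.val e
      have hz1 : C.z = 1 := by
        calc C.z = g * (g⁻¹ * C.z * g) * g⁻¹ := by group
          _ = 1 := by rw [e']; group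
      have h1 : el ((1, 1, 1), (0, 0)) = 1 := by
        simpa using (C.E_pow_eq_one_iff ((1, 1, 1), (0, 0)) 1).mp (by rw [pow_one]; exact hz1)
      rw [el_base] at h1
      revert h1; decide +kernel)
  obtain ⟨P', hP'⟩ := hz'3.exists_le_sylow
  obtain ⟨k, hk⟩ := MulAction.exists_smul_eq X₀ P P'
  have hz'' : z' ∈ (P' : Subgroup X₀) := hP' (Subgroup.mem_zpowers _)
  -- the conjugate of `J` through `z`
  set c : G := g * (k : G) with hc
  have hcy : c * C.j i * c⁻¹ = y := by
    rw [hc, ← hg]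
    have := Subgroup.mem_centralizer_singleton_iff.mp k.2
    calc g * (k : G) * C.j i * (g * (k : G))⁻¹ = g * ((k : G) * C.j i) * (k : G)⁻¹ * g⁻¹ := by group
      _ = g * (C.j i * (k : G)) * (k : G)⁻¹ * g⁻¹ := by rw [this]
      _ = _ := by group
  set J' := C.J.map (MulAut.conj c).toMonoidHom
  have hcomm' : ∀ a ∈ J', ∀ b ∈ J', a * b = b * a := by
    rintro - ⟨a, ha, rfl⟩ - ⟨b, hb, rfl⟩
    rw [← map_mul, ← map_mul, C.J_comm ha hb]
  have hzJ' : C.z ∈ J' := by
    rw [← hk, Sylow.coe_subgroup_smul, Subgroup.mem_pointwise_smul_iff_inv_smul_mem, hP,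
      Subgroup.mem_subgroupOf] at hz''
    refine ⟨_, hz'', ?_⟩
    simp [hc, hz', mul_assoc]
  have hJ'S : J' ≤ C.S := fun x hx => by
    rw [← C.centralizer_z, Subgroup.mem_centralizer_singleton_iff]
    exact hcomm' x hx _ hzJ'
  have hJJ : J' = C.J := C.eq_J_of_abelian hJ'S
    (by rw [Subgroup.card_map_of_injective (MulEquiv.injective _), C.card_J]) hcomm'
  rw [← hJJ]
  exact ⟨C.j i, C.j_mem i, hcy⟩

theorem isConj_r_pow : IsConj C.r (C.r ^ 2) := by
  obtain ⟨w, hw⟩ := rat_ir
  exact C.conj_pow_of_el hw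

theorem d_not_isConj_r {i : Fin 3 × Fin 3 × Fin 3} (hi : typ i = 1 ∨ typ i = 2) :
    ¬ IsConj (C.j i) C.r := fun h => C.r_not_mem_J (C.mem_J_of_isConj hi C.r_mem_S h)

variable {C}

/-- Under the hypothesis of no fusion the cycling element has a centraliser of order nine. -/
theorem centralizer_r (hI : ¬ IsConj C.r C.z) :
    Subgroup.centralizer ({C.r} : Set G) = C.A := by
  haveI : Fact (Nat.Prime 3) := ⟨Nat.prime_three⟩
  set X := Subgroup.centralizer ({C.r} : Set G) with hX
  have hAX : C.A ≤ X := inf_le_right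
  have hcore : Cfsg.pPrimeCore 3 X = ⊥ :=
    C.cores ⟨el ir, el_mem _⟩ ir_facts.1 fun h => ir_facts.2.1 (congrArg Subtype.val h)
  have hn : ∀ x : X, x ∈ Subgroup.normalizer ((C.A.subgroupOf X) : Set X) →
      (x : G) ∈ C.A := by
    intro x hx
    have hzA : (⟨C.z, hAX C.z_mem_A⟩ : X) ∈ C.A.subgroupOf X :=
      Subgroup.mem_subgroupOf.mpr C.z_mem_A
    have hmem : (x : G) * C.z * (x : G)⁻¹ ∈ C.A :=
      Subgroup.mem_subgroupOf.mp ((Subgroup.mem_normalizer_iff.mp hx _).mp hzA)
    obtain ⟨i, k, hik⟩ := C.mem_A_exists hmem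
    have hi : i = 0 := by
      by_contra hi
      exact hI (((isConj_iff.mpr ⟨(x : G), hik⟩).trans (C.isConj_line i k hi)).symm)
    subst hi
    rw [Fin.val_zero, pow_zero, one_mul] at hik
    have hxN : (x : G) ∈ Subgroup.normalizer (C.J : Set G) := by
      refine C.normalizer_S_le ?_
      rw [Subgroup.mem_normalizer_iff_map_conj_eq]
      refine Subgroup.eq_of_le_of_card_ge ?_
        (by rw [Subgroup.card_map_of_injective (MulEquiv.injective _)])
      rintro - ⟨t, ht, rfl⟩
      show (x : G) * t * (x : G)⁻¹ ∈ C.S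
      rw [← C.centralizer_z, Subgroup.mem_centralizer_singleton_iff]
      have htz : t * C.z = C.z * t :=
        Subgroup.mem_centralizer_singleton_iff.mp (C.S_inf_centralizer_z ht)
      have h2 : Commute ((x : G) * t * (x : G)⁻¹) (C.z ^ (k : ℕ)) := by
        rw [← hik]
        show _ * _ = _ * _
        calc (x : G) * t * (x : G)⁻¹ * ((x : G) * C.z * (x : G)⁻¹)
            = (x : G) * (t * C.z) * (x : G)⁻¹ := by group
          _ = (x : G) * (C.z * t) * (x : G)⁻¹ := by rw [htz]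
          _ = _ := by group
      obtain rfl | rfl | rfl := (by decide : ∀ k : Fin 3, k = 0 ∨ k = 1 ∨ k = 2) k
      · exfalso
        refine C.r_ne_one ?_
        have hz1 : C.z = 1 := by simpa using mul_inv_eq_one.mp (hik.trans (pow_zero _))
        exfalso
        have h1 : el ((1, 1, 1), (0, 0)) = 1 := by
          simpa using (C.E_pow_eq_one_iff ((1, 1, 1), (0, 0)) 1).mp (by rw [pow_one]; exact hz1)
        rw [el_base] at h1
        revert h1; decide +kernel
      · simpa [z] using h2.eq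
      · have h3 := h2.pow_right 2
        rw [← pow_mul, show ((2 : Fin 3) : ℕ) * 2 = 3 + 1 from rfl, pow_succ,
          show C.z ^ 3 = 1 from C.J_pow _ (C.j_mem _), one_mul] at h3
        exact h3.eq
    obtain ⟨w, hw⟩ := C.exists_E hxN
    have hc := Subgroup.mem_centralizer_singleton_iff.mp x.2
    rw [← hw] at hc ⊢
    obtain ⟨i, k, hwk⟩ := cent_ir w ((C.E_comm_iff w ir).mp hc)
    have : C.E w = C.r ^ (i : ℕ) * C.z ^ (k : ℕ) := by
      rw [r, z, j, E, E, E, ← map_pow, ← map_pow, ← map_mul]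
      refine congrArg C.φ (Subtype.ext ?_)
      show el w = el ir ^ (i : ℕ) * el ((1, 1, 1), (0, 0)) ^ (k : ℕ)
      rw [el_base]; exact hwk
    rw [this]
    exact mul_mem (pow_mem C.r_mem_A _) (pow_mem C.z_mem_A _)
  obtain ⟨P, hP⟩ := exists_sylow_of_normalizer (C.A.subgroupOf X)
    (IsPGroup.of_card (p := 3) (n := 2) (by
      rw [Nat.card_congr (Subgroup.subgroupOfEquivOfLe hAX).toEquiv, C.card_A]; norm_num))
    fun x hx _ => Subgroup.mem_subgroupOf.mpr (hn x hx)
  have hcomm : IsMulCommutative (P : Subgroup X) := ⟨⟨fun a b => by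
    have hab : ∀ a b : G, a ∈ C.A → b ∈ C.A → a * b = b * a := by
      intro a b ha hb
      obtain ⟨i, k, rfl⟩ := C.mem_A_exists ha
      obtain ⟨i', k', rfl⟩ := C.mem_A_exists hb
      have hc : Commute C.r C.z :=
        Subgroup.mem_centralizer_singleton_iff.mp (C.S_inf_centralizer_z C.r_mem_S)
      exact (((Commute.refl C.r).pow_pow _ _).mul_right (hc.pow_pow _ _)).mul_left
        ((hc.symm.pow_pow _ _).mul_right ((Commute.refl C.z).pow_pow _ _)) |>.eq
    refine Subtype.ext (Subtype.ext (hab _ _ ?_ ?_))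
    · exact Subgroup.mem_subgroupOf.mp (hP.le a.2)
    · exact Subgroup.mem_subgroupOf.mp (hP.le b.2)⟩⟩
  have hcomp : Cfsg.HasNormalPComplement 3 X := by
    refine Transfer.Fusion.hasNormalPComplement_of_controls P fun x hx g hy => ?_
    obtain ⟨v, hv, he⟩ := Transfer.Fusion.controls_of_isMulCommutative P hcomm x hx g hy
    refine ⟨v, hP.ge (Subgroup.mem_subgroupOf.mpr (hn v ?_)), he⟩
    rw [← hP]; exact hv
  obtain ⟨P', N, hNn, hN⟩ := hcomp
  haveI := hNn
  have hNc : ¬ 3 ∣ Nat.card N := by rw [← hN.index_eq_card]; exact P'.not_dvd_index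
  have hNb : N = ⊥ := le_bot_iff.mp (hcore ▸ Cores.le_pPrimeCore_of_not_dvd hNc)
  subst hNb
  have htop : (P' : Subgroup X) = ⊤ := Subgroup.isComplement'_bot_left.mp hN
  have hPtop : (P : Subgroup X) = ⊤ := by
    refine Subgroup.eq_top_of_card_eq _ ?_
    rw [Nat.card_congr (Sylow.equiv P P').toEquiv, htop, Subgroup.card_top]
  refine le_antisymm (fun x hx => ?_) hAX
  exact Subgroup.mem_subgroupOf.mp ((hP ▸ hPtop).ge (Subgroup.mem_top (⟨x, hx⟩ : X)))

theorem card_centralizer_r (hI : ¬ IsConj C.r C.z) :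
    Nat.card (Subgroup.centralizer ({C.r} : Set G)) = 9 := by
  rw [centralizer_r hI, C.card_A]

/-- An element of order three commuting with the cycling element has its centraliser in `S`. -/
theorem centralizer_le_S (hI : ¬ IsConj C.r C.z) {f : G} (hf1 : f ≠ 1) (hfr : Commute C.r f) :
    Subgroup.centralizer ({f} : Set G) ≤ C.S := by
  have hf : f ∈ C.A :=
    centralizer_r hI ▸ Subgroup.mem_centralizer_singleton_iff.mpr hfr.eq.symm
  obtain ⟨i, k, hik⟩ := C.mem_A_exists hf
  by_cases hi : i = 0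
  · subst hi
    rw [Fin.val_zero, pow_zero, one_mul] at hik
    intro x hx
    rw [← C.centralizer_z, Subgroup.mem_centralizer_singleton_iff]
    have h2 : Commute x (C.z ^ (k : ℕ)) := hik ▸ Subgroup.mem_centralizer_singleton_iff.mp hx
    obtain rfl | rfl | rfl := (by decide : ∀ k : Fin 3, k = 0 ∨ k = 1 ∨ k = 2) k
    · exact absurd (hik.trans (pow_zero _)) hf1
    · simpa [z] using h2.eq
    · have h3 := h2.pow_right 2
      rw [← pow_mul, show ((2 : Fin 3) : ℕ) * 2 = 3 + 1 from rfl, pow_succ,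
        show C.z ^ 3 = 1 from C.J_pow _ (C.j_mem _), one_mul] at h3
      exact h3.eq
  · have hc : IsConj f C.r := hik ▸ C.isConj_line i k hi
    obtain ⟨g, hg⟩ := isConj_iff.mp hc
    have hcard : Nat.card (Subgroup.centralizer ({f} : Set G)) ≤ 9 := by
      rw [← card_centralizer_r hI]
      refine Nat.card_le_card_of_injective (fun x => (⟨g * (x : G) * g⁻¹, ?_⟩ :
        Subgroup.centralizer ({C.r} : Set G))) fun a b e => Subtype.ext ?_
      · rw [Subgroup.mem_centralizer_singleton_iff, ← hg]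
        have := Subgroup.mem_centralizer_singleton_iff.mp x.2
        calc g * (x : G) * g⁻¹ * (g * f * g⁻¹) = g * ((x : G) * f) * g⁻¹ := by group
          _ = g * (f * (x : G)) * g⁻¹ := by rw [this]
          _ = _ := by group
      · simpa using congrArg Subtype.val e
    have hAle : C.A ≤ Subgroup.centralizer ({f} : Set G) := by
      intro a ha
      rw [Subgroup.mem_centralizer_singleton_iff, hik]
      have hc : Commute C.r C.z :=
        Subgroup.mem_centralizer_singleton_iff.mp (C.S_inf_centralizer_z C.r_mem_S)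
      have har : Commute a C.r := Subgroup.mem_centralizer_singleton_iff.mp ha.2
      have haz : Commute a C.z :=
        Subgroup.mem_centralizer_singleton_iff.mp (C.S_inf_centralizer_z ha.1)
      exact ((har.pow_right _).mul_right (haz.pow_right _)).eq
    rw [← Subgroup.eq_of_le_of_card_ge hAle (by rw [C.card_A]; exact hcard)]
    exact inf_le_left

end Cfg

end Cfsg.Agent.Lib.A9Norm79
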