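import Cfsg.Agent.Lib.A9Norm79.ModelII
import Cfsg.Agent.Lib.A9Norm79.Types
import Cfsg.Agent.Lib.Characters.Linear
import Cfsg.Agent.Lib.Characters.Complete
import Mathlib.Analysis.SpecialFunctions.Pow.Real

/-!
# Integrality of the nine virtual characters in the fused configuration

The coordinates come from linear characters of monomial subgroups of `N(J)`, so they are integers
on every irreducible character of the whole group.
-/

set_option autoImplicit false

namespace Cfsg.Agent.Lib.A9Norm79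

open Model ModelII Cfsg.Agent.Lib.Characters.Basic
open scoped ComplexConjugate

universe u

namespace ModelII

/-- A twelfth root of unity. -/
noncomputable def zeta : ℂ := (((Real.sqrt 3 : ℝ) : ℂ) + Complex.I) / 2

/-- The square root of three. -/
noncomputable def s3 : ℂ := ((Real.sqrt 3 : ℝ) : ℂ)

theorem s3_sq : s3 * s3 = 3 := by
  rw [s3, ← Complex.ofReal_mul, Real.mul_self_sqrt (by norm_num)]
  norm_num

theorem conj_s3 : conj s3 = s3 := Complex.conj_ofReal _

theorem zeta_cube : zeta ^ 3 = Complex.I := by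
  have h : zeta = (s3 + Complex.I) / 2 := rfl
  rw [h]
  linear_combination (s3 / 8 + 3 * Complex.I / 8) * s3_sq +
    (3 * s3 / 8 + Complex.I / 8) * Complex.I_mul_I

theorem zeta_four : zeta ^ 4 = zeta ^ 2 - 1 := by
  have h : zeta = (s3 + Complex.I) / 2 := rfl
  have h2 : zeta ^ 2 = (1 + s3 * Complex.I) / 2 := by
    rw [h]; linear_combination (1 / 4 : ℂ) * s3_sq + (1 / 4 : ℂ) * Complex.I_mul_I
  rw [pow_succ, zeta_cube, h2, h]
  linear_combination (1 / 2 : ℂ) * Complex.I_mul_I

theorem zeta_twelve : zeta ^ 12 = 1 := by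
  rw [show 12 = 3 * 4 by norm_num, pow_mul, zeta_cube, pow_succ, pow_three, Complex.I_mul_I]
  linear_combination (-1 : ℂ) * Complex.I_mul_I

/-- The twelfth root of unity as a unit. -/
noncomputable def zetaU : ℂˣ :=
  ⟨zeta, zeta ^ 11, by rw [← pow_succ', zeta_twelve], by rw [← pow_succ, zeta_twelve]⟩

theorem zeta_pow_mod (n : ℕ) : zeta ^ (n % 12) = zeta ^ n := by
  conv_rhs => rw [← Nat.div_add_mod n 12, pow_add, pow_mul, zeta_twelve, one_pow, one_mul]

theorem zetaU_pow_mod (n : ℕ) : zetaU ^ (n % 12) = zetaU ^ n := by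
  ext
  rw [Units.val_pow_eq_pow_val, Units.val_pow_eq_pow_val]
  exact zeta_pow_mod n

/-- The complex number with given coordinates. -/
noncomputable def ev (v : Z12) : ℂ :=
  v.1 + v.2.1 * zeta + v.2.2.1 * zeta ^ 2 + v.2.2.2 * zeta ^ 3

theorem ev_add (v w : Z12) : ev (v + w) = ev v + ev w := by
  simp only [ev, Prod.fst_add, Prod.snd_add]
  push_cast
  ring

theorem ev_shift (v : Z12) : ev (shift v) = zeta * ev v := by
  simp only [ev, shift]
  push_cast
  linear_combination (-(v.2.2.2 : ℂ)) * zeta_four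

theorem ev_zpw : ∀ n, ev (zpw n) = zeta ^ n
  | 0 => by simp [ev, zpw]
  | n + 1 => by rw [zpw, ev_shift, ev_zpw n, pow_succ']

theorem ev_zsum : ∀ l : List Z12, ev (zsum l) = (l.map ev).sum
  | [] => by simp [ev, zsum]
  | x :: xs => by rw [zsum, ev_add, ev_zsum xs, List.map_cons, List.sum_cons]

theorem ev_smul (m : ℤ) (v : Z12) :
    ev (m * v.1, m * v.2.1, m * v.2.2.1, m * v.2.2.2) = m * ev v := by
  simp only [ev]
  push_cast
  ring

theorem ev_real (a b : ℤ) : ev (a, 2 * b, 0, -b) = a + b * s3 := by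
  have h : zeta = (s3 + Complex.I) / 2 := rfl
  simp only [ev]
  rw [zeta_cube, h]
  push_cast
  ring

theorem dot_zero : ∀ j, dot (terms j).1 (0, 0, 0) = 0 := by decide +kernel

theorem lookup_zero : ∀ j, ((terms j).2.lookup ((0, 0) : Fin 4 × Fin 6)).getD 0 % 12 = 0 := by
  decide +kernel

theorem fin_exp : ∀ a b : Fin 3, (4 * ((a + b : Fin 3) : ℕ)) % 12 = (4 * a + 4 * b) % 12 := by
  decide +kernel

theorem mem_elts {j : Fin 14} {w : W} : w ∈ elts j ↔ inL j w.2 = true := by
  simp only [elts, inL, List.mem_flatMap, List.mem_map, decide_eq_true_eq]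
  constructor
  · rintro ⟨p, hp, i, -, rfl⟩
    exact ⟨p, hp, rfl⟩
  · rintro ⟨p, hp, he⟩
    exact ⟨p, hp, w.1, mem_allV _, Prod.ext rfl he⟩

theorem elts_nodup (j : Fin 14) : (elts j).Nodup := by
  rw [elts, List.nodup_flatMap]
  refine ⟨fun p _ => allV_nodup.map fun a b h => (Prod.ext_iff.mp h).1, ?_⟩
  have h := term_nodup j
  rw [List.Nodup, List.pairwise_map] at h
  refine h.imp fun {p q} hpq => ?_
  intro w hw hw'
  obtain ⟨i, -, rfl⟩ := List.mem_map.mp hw
  obtain ⟨k, -, hk⟩ := List.mem_map.mp hw'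
  exact hpq (Prod.ext_iff.mp hk).2.symm

theorem length_elts (j : Fin 14) : (elts j).length = 27 * (terms j).2.length := by
  simp [elts, List.length_flatMap, allV, mul_comm]

theorem eW_mul {j : Fin 14} {u v : W} (hu : u ∈ elts j) (hv : v ∈ elts j) :
    eW j (mulW u v) % 12 = (eW j u + eW j v) % 12 := by
  obtain ⟨p, hp, hu'⟩ := List.mem_flatMap.mp hu
  obtain ⟨i, -, rfl⟩ := List.mem_map.mp hu'
  obtain ⟨q, hq, hv'⟩ := List.mem_flatMap.mp hv
  obtain ⟨i', -, rfl⟩ := List.mem_map.mp hv'
  simp only [eW, mulW]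
  rw [term_add, term_act j p hp]
  have h1 := (term_mul j p hp q hq).2
  have h2 := fin_exp (dot (terms j).1 i) (dot (terms j).1 i')
  omega

theorem mulW_mem {j : Fin 14} {u v : W} (hu : u ∈ elts j) (hv : v ∈ elts j) :
    mulW u v ∈ elts j := by
  rw [mem_elts] at hu hv ⊢
  simp only [inL, decide_eq_true_eq, List.mem_map] at hu hv
  obtain ⟨p, hp, hpu⟩ := hu
  obtain ⟨q, hq, hqv⟩ := hv
  show inL j (kmul u.2 v.2) = true
  rw [← hpu, ← hqv]
  exact (term_mul j p hp q hq).1

theorem oneW_mem (j : Fin 14) : oneW ∈ elts j := mem_elts.mpr (term_one j)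

theorem eW_one (j : Fin 14) : eW j oneW % 12 = 0 := by
  have h := lookup_zero j
  rw [eW, show oneW.1 = (0, 0, 0) from rfl, dot_zero, show oneW.2 = (0, 0) from rfl]
  simpa using h

end ModelII

namespace Cfg

variable {G : Type u} [Group G] (C : Cfg G)

theorem E_mulW (u v : W) : C.E (mulW u v) = C.E u * C.E v := (C.E_mul (el_mulW u v).symm).symm

theorem E_oneW : C.E oneW = 1 := by
  have h : (⟨el oneW, el_mem oneW⟩ : H0) = 1 := Subtype.ext el_oneW
  rw [E, h, map_one]

theorem E_powW (w : W) : ∀ n, C.E (powW w n) = C.E w ^ n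
  | 0 => by rw [powW, E_oneW, pow_zero]
  | n + 1 => by rw [powW, E_mulW, E_powW w n, pow_succ]

theorem isConj_cls (w : W) : IsConj (C.E w) (C.E (rep (cls w))) := by
  refine isConj_iff.mpr ⟨C.E (wit w), mul_inv_eq_iff_eq_mul.mpr ?_⟩
  rw [← E_mulW, ← E_mulW, cls_spec]

variable [Finite G]

/-- The monomial subgroup. -/
def sub (j : Fin 14) : Subgroup G where
  carrier := {x | ∃ w ∈ elts j, C.E w = x}
  one_mem' := ⟨oneW, oneW_mem j, C.E_oneW⟩
  mul_mem' := by
    rintro - - ⟨u, hu, rfl⟩ ⟨v, hv, rfl⟩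
    exact ⟨mulW u v, mulW_mem hu hv, C.E_mulW u v⟩
  inv_mem' := by
    rintro - ⟨u, hu, rfl⟩
    have hp : ∀ n, powW u n ∈ elts j := fun n => by
      induction n with
      | zero => exact oneW_mem j
      | succ n ih => exact mulW_mem ih hu
    refine ⟨powW u (orderOf (C.E u) - 1), hp _, ?_⟩
    rw [E_powW, eq_inv_iff_mul_eq_one, ← pow_succ, Nat.sub_add_cancel (orderOf_pos _),
      pow_orderOf_eq_one]

/-- The linear character of the monomial subgroup. -/
noncomputable def lam (j : Fin 14) : C.sub j →* ℂˣ where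
  toFun x := zetaU ^ eW j x.2.choose
  map_one' := by
    have h := (1 : C.sub j).2.choose_spec
    rw [C.E_injective (h.2.trans (Subgroup.coe_one _) |>.trans C.E_oneW.symm), ← zetaU_pow_mod,
      eW_one, pow_zero]
  map_mul' x y := by
    have h := (x * y).2.choose_spec
    have hx := x.2.choose_spec
    have hy := y.2.choose_spec
    rw [← pow_add, ← zetaU_pow_mod, ← zetaU_pow_mod (eW j _ + eW j _), ← eW_mul hx.1 hy.1]
    congr 3
    refine C.E_injective ?_
    rw [h.2, E_mulW, hx.2, hy.2, Subgroup.coe_mul]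

/-- The weighted sum over a monomial subgroup is a multiple of its order. -/
theorem exists_term (χ : Cfsg.IrrCharacter G) (j : Fin 14) : ∃ n : ℕ,
    ((elts j).map fun w => zeta ^ eW j w * conj ((χ : G → ℂ) (C.E w))).sum =
      ((27 * (terms j).2.length : ℕ) : ℂ) * n := by
  classical
  haveI := Fintype.ofFinite (C.sub j)
  obtain ⟨n, hn⟩ := exists_classInner_nat (isCharacter_irr (Cfsg.Agent.Lib.Characters.Linear.linChar (C.lam j)))
    (isCharacter_comp (C.sub j).subtype (isCharacter_irr χ))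
  let F : {w // w ∈ (elts j).toFinset} → C.sub j := fun w =>
    ⟨C.E w.1, w.1, List.mem_toFinset.mp w.2, rfl⟩
  have hF : Function.Bijective F := by
    refine ⟨fun a b e => Subtype.ext (C.E_injective (congrArg Subtype.val e)), fun x => ?_⟩
    obtain ⟨w, hw, he⟩ := x.2
    exact ⟨⟨w, List.mem_toFinset.mpr hw⟩, Subtype.ext he⟩
  have hcard : Nat.card (C.sub j) = 27 * (terms j).2.length := by
    rw [← Nat.card_congr (Equiv.ofBijective F hF), Nat.card_eq_finsetCard,
      List.toFinset_card_of_nodup (elts_nodup j), length_elts]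
  refine ⟨n, ?_⟩
  rw [← hn, Cfsg.classInner, ← hcard, ← mul_assoc, mul_inv_cancel₀
    (Nat.cast_ne_zero.mpr Nat.card_pos.ne'), one_mul, ← List.sum_toFinset _ (elts_nodup j),
    ← Finset.sum_attach, Finset.attach_eq_univ]
  rw [← Equiv.sum_comp (Equiv.ofBijective F hF)]
  refine Finset.sum_congr rfl fun w _ => ?_
  have hw := (F w).2.choose_spec
  simp only [Equiv.ofBijective_apply, Cfsg.Agent.Lib.Characters.Linear.linChar_apply, lam, MonoidHom.coe_mk, OneHom.coe_mk,
    Units.val_pow_eq_pow_val, Function.comp_apply, Subgroup.coe_subtype]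
  rw [C.E_injective hw.2]
  rfl

/-- The raw coordinate. -/
theorem exists_raw (χ : Cfsg.IrrCharacter G) (i : Fin 9) : ∃ R : ℤ, (648 : ℂ) * R =
    ∑ c, (((val i c).1 : ℂ) + (val i c).2 * s3) * conj ((χ : G → ℂ) (C.E (rep c))) := by
  choose n hn using C.exists_term χ
  refine ⟨∑ j, coef i j * n j, ?_⟩
  have key : ∀ j, ((27 * (terms j).2.length : ℕ) : ℂ) * n j =
      ∑ c, ev (sums j c) * conj ((χ : G → ℂ) (C.E (rep c))) := by
    intro j
    rw [← hn j]
    have hval : ∀ w, zeta ^ eW j w * conj ((χ : G → ℂ) (C.E w)) =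
        ev (zpw (eW j w % 12)) * conj ((χ : G → ℂ) (C.E (rep (cls w)))) := fun w => by
      rw [ev_zpw, zeta_pow_mod,
        classFunction_apply_of_isConj (isClassFunction_irr χ) (C.isConj_cls w)]
    simp only [← sums_spec, ev_zsum, List.map_map, hval]
    generalize elts j = l
    induction l with
    | nil => simp
    | cons w l ih =>
      rw [List.map_cons, List.sum_cons, ih]
      have hsplit : ∀ c, (List.map (ev ∘ fun w => zpw (eW j w % 12))
          ((w :: l).filter fun w => decide (cls w = c))).sum =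
          (if cls w = c then ev (zpw (eW j w % 12)) else 0) +
          (List.map (ev ∘ fun w => zpw (eW j w % 12))
          (l.filter fun w => decide (cls w = c))).sum := fun c => by
        by_cases h : cls w = c <;> simp [h]
      simp only [hsplit, add_mul, Finset.sum_add_distrib, ite_mul, zero_mul]
      rw [Finset.sum_ite_eq, if_pos (Finset.mem_univ _)]
  have hm : ∀ j, (648 : ℂ) * (coef i j * n j : ℤ) =
      (mult i j : ℂ) * (((27 * (terms j).2.length : ℕ) : ℂ) * n j) := by
    intro j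
    obtain ⟨d, hd⟩ := length_dvd j
    have hpos : 0 < (terms j).2.length := Nat.pos_of_ne_zero fun h => by rw [h] at hd; simp at hd
    have hq : 24 / (terms j).2.length = d := Nat.div_eq_of_eq_mul_left hpos (by rw [hd, mul_comm])
    have h24 : ((terms j).2.length : ℂ) * d = 24 := by exact_mod_cast hd.symm
    rw [mult, hq]
    push_cast
    linear_combination (-27 * (coef i j : ℂ) * n j) * h24
  push_cast
  rw [Finset.mul_sum]
  simp only [← Int.cast_natCast (R := ℂ) (n _), ← Int.cast_mul] at hm ⊢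
  simp only [hm, Int.cast_natCast, key, Finset.mul_sum]
  rw [Finset.sum_comm]
  refine Finset.sum_congr rfl fun c _ => ?_
  rw [← ev_real, ← val_spec i c, ev_zsum, List.map_map, ← Fin.sum_univ_def, Finset.sum_mul]
  refine Finset.sum_congr rfl fun j _ => ?_
  rw [Function.comp_apply, ev_smul, mul_assoc]

end Cfg

end Cfsg.Agent.Lib.A9Norm79
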